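import Cfsg.Agent.Nodes.HasRGD
import Cfsg.Agent.FixBN.NodeRGD
import Cfsg.Agent.H556.HallSURow_m3
import Cfsg.Prelude.Def_LieTypeChar
import Cfsg.Agent.H685.ThreeExc_mg
import Cfsg.Agent.S0205
import Cfsg.Agent.H248.TitsDich
import Cfsg.Agent.KFacts.TwF4.TorFix
import Cfsg.Agent.S1068
import Cfsg.Agent.H794.TwoClosed
import Cfsg.Agent.H170.HL.OmRows_m3
import Cfsg.Agent.H979.LieSplit
import Cfsg.Agent.H580.LieBad_m3
import Cfsg.Agent.H14.RowReeJOne_m3
import Cfsg.Prelude.Def_Classification2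
import Cfsg.Agent.Lib.CoprimeHyperplane
import Cfsg.Agent.H167.OP.MinD2
import Cfsg.Agent.H971.RV.Lie_m3
import Cfsg.Agent.H994.KE.Base_m3
import Cfsg.Agent.ChevFast.E7
import Cfsg.Agent.ChevFast.E8
import Cfsg.Agent.H129.TorusUntw
import Cfsg.Agent.ChevFast.E6
import Cfsg.Agent.ChevFast.Lin
import Cfsg.Agent.FastGrp
import Cfsg.Agent.Prune
set_option linter.all false

section
prune_inst 0x7ffcfcf8abb82ddfdfff7e7fae99dffd99b9dfffe6dff903bfe023ef0bdf030889e5abad8de0d2fe0e82423410b87813f97ece7fe26bdc7ffffd1ff45ffbee0fe5f7bd0811d688240f300fff03f07f8a7f3fffffffffdfffffffffffffffffbeffbfffffffff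

-- part: H553/GoodAsm
section
prune_inst 0x10304401000000000000104000060442000090000f800008c00240068062000000062020000004020000000004006812000010000000000000000000000100000014009009a008c20000000004400000000000020000000000000000000000000000000
set_option linter.all false
open scoped Cfsg.Agent.FastGrp

-- part: H565/Braid
section
/-!
# Root group data whose nodes satisfy a braid relation

* `NodeBr n X` : every fundamental root group contains `a ≠ 1` with `n = a (n a n⁻¹) a`;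
* `three_dvd_of_node` : a subgroup containing `U` and representing the simple reflection `i` has order divisible by
  three;
* `HasBr p G` : `G` has a generating root group datum with `NodeBr`.
-/

set_option autoImplicit false
set_option linter.unusedSectionVars false

namespace Cfsg.Agent.H565.Br

open CoxeterSystem Cfsg.Agent.ChevalleyStructure.CoxeterGeom Cfsg.Agent.Tits.Roots Cfsg.Agent.Tits.Core
  Cfsg.Agent.Tits.RootComb Cfsg.Agent.Nodes.Comb Cfsg.Agent.Nodes.Reps Cfsg.Agent.Nodes.BNOf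
  Cfsg.Agent.Nodes.StabComb Cfsg.Agent.Nodes.Bruhat Cfsg.Agent.Nodes.OppDec Cfsg.Agent.Nodes.LeviDec
open Cfsg.Agent.H248.TitsRGD

/-- every fundamental root group contains `a ≠ 1` with `n = a (n a n⁻¹) a` -/
def NodeBr {G : Type*} [Group G] {I : Type*} [DecidableEq I] (n : I → G) (X : (I → ℤ) → Subgroup G) : Prop :=
  ∀ i, ∃ a ∈ X (sr i), a ≠ 1 ∧ n i = a * (n i * a * (n i)⁻¹) * a

/-- a root group datum of characteristic `p` whose root groups generate, with `NodeBr` -/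
def HasBr (p : ℕ) (G : Type*) [Group G] : Prop :=
  ∃ (l : ℕ) (M : CoxeterMatrix (Fin l)) (A : Fin l → Fin l → ℤ) (h : IsCartan M A) (T : Subgroup G) (n : Fin l → G)
    (X : (Fin l → ℤ) → Subgroup G), Finite M.Group ∧ RGD M.toCoxeterSystem h p T n X ∧
      Nodes.RGDLib.G1 M.toCoxeterSystem h X = ⊤ ∧ NodeBr n X

theorem HasBr.of_equiv {p : ℕ} {G H : Type*} [Group G] [Group H] (e : G ≃* H) (hG : HasBr p G) : HasBr p H := by
  obtain ⟨l, M, A, h, T, n, X, hW, R, hX, h3⟩ := hG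
  refine ⟨l, M, A, h, T.map e.toMonoidHom, fun i => e (n i), fun x => (X x).map e.toMonoidHom, hW,
    Nodes.RGDLib.rgd_map_of_injective R e.toMonoidHom e.injective, ?_, fun i => ?_⟩
  · have h1 : (Nodes.RGDLib.G1 M.toCoxeterSystem h X).map e.toMonoidHom =
        Nodes.RGDLib.G1 M.toCoxeterSystem h (fun x => (X x).map e.toMonoidHom) := by
      unfold Nodes.RGDLib.G1 RGD.Sup
      rw [Subgroup.map_iSup]
    rw [← h1, hX, Subgroup.map_top_of_surjective _ e.surjective]
  · obtain ⟨a, ha, h1, h4⟩ := h3 i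
    refine ⟨e a, Subgroup.mem_map_of_mem _ ha, fun h => h1 (e.injective (by rw [h, map_one])), ?_⟩
    rw [← map_inv, ← map_mul, ← map_mul, ← map_mul, ← map_mul, ← h4]

section Core

variable {G : Type*} [Group G]

/-- `n = a b a`, `b = n a n⁻¹`, `a b` of order prime to three imply `a = b`. -/
theorem eq_of_braid [Finite G] {a b n : G} (hn : n = a * b * a) (hb : n * a * n⁻¹ = b) {P : Subgroup G} (ha : a ∈ P)
    (hbP : b ∈ P) (h3 : ¬ 3 ∣ Nat.card P) : a = b := by
  have h1 : n * a = b * n := by rw [← hb]; group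
  -- the braid relation
  have h2 : b * a * b = a * b * a := by
    rw [hn] at h1
    have h4 : (b * a * b) * a = (a * b * a) * a := by
      calc (b * a * b) * a = b * (a * b * a) := by group
        _ = a * b * a * a := h1.symm
        _ = _ := by group
    exact mul_right_cancel h4
  have hcube : (a * b) ^ 3 = n * n := by
    calc (a * b) ^ 3 = (a * b * a) * (b * a * b) := by
          rw [pow_succ, pow_two]; group
      _ = n * n := by rw [h2, ← hn]
  have h5 : n * b = a * n := by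
    rw [hn]
    calc a * b * a * b = a * (b * a * b) := by group
      _ = a * (a * b * a) := by rw [h2]
  -- `n ^ 2` commutes with `a`
  have h6 : (a * b) ^ 3 * a = a * (a * b) ^ 3 := by
    rw [hcube]
    calc n * n * a = n * (n * a) := by group
      _ = n * (b * n) := by rw [h1]
      _ = (n * b) * n := by group
      _ = a * n * n := by rw [h5]
      _ = _ := by group
  have h7 : (a * b) ^ 3 ∈ Subgroup.centralizer ({a} : Set G) := Subgroup.mem_centralizer_singleton_iff.2 h6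
  have h8 : (a * b) ^ Nat.card P ∈ Subgroup.centralizer ({a} : Set G) := by
    have h9 : (a * b) ^ Nat.card P = 1 :=
      congrArg Subtype.val (pow_card_eq_one' (x := (⟨a * b, P.mul_mem ha hbP⟩ : P)))
    rw [h9]
    exact Subgroup.one_mem _
  have h9 : (3 : ℕ).Coprime (Nat.card P) := (Nat.Prime.coprime_iff_not_dvd Nat.prime_three).2 h3
  have h10 : a * b ∈ Subgroup.centralizer ({a} : Set G) := by
    have h11 : (a * b) ^ ((Nat.gcd 3 (Nat.card P) : ℕ) : ℤ) ∈ Subgroup.centralizer ({a} : Set G) := by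
      rw [Nat.gcd_eq_gcd_ab, zpow_add, zpow_mul, zpow_mul]
      exact mul_mem (zpow_mem (by simpa using h7) _) (zpow_mem (by simpa only [_root_.zpow_natCast] using h8) _)
    rw [h9, Nat.cast_one, zpow_one] at h11
    exact h11
  have h11 : a * b * a = a * (a * b) := Subgroup.mem_centralizer_singleton_iff.1 h10
  have h12 : b * a = a * b := by
    have : a * (b * a) = a * (a * b) := by rw [← mul_assoc, h11]
    exact mul_left_cancel this
  rw [h12] at h2
  have h13 : a * b * b = a * b * a := h2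
  exact (mul_left_cancel h13).symm

end Core

section Rgd

variable {I W Y : Type*} [Fintype I] [DecidableEq I] [Group W] [Group Y] {M : CoxeterMatrix I}
  {cs : CoxeterSystem M W} {A : I → I → ℤ} {h : IsCartan M A} {p : ℕ} {T : Subgroup Y} {n : I → Y}
  {X : (I → ℤ) → Subgroup Y}

/-- **A subgroup containing `U` and representing a simple reflection has order divisible by three.** -/
theorem three_dvd_of_node (R : RGD cs h p T n X) [Finite W] [Finite Y] (hbr : NodeBr n X) {P : Subgroup Y}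
    (hP : RGD.Sup X (RGD.Pos cs h) ≤ P) {i : I} (hi : i ∈ JU T n P) : 3 ∣ Nat.card P := by
  by_contra h3
  obtain ⟨t, ht, hk⟩ := hi
  obtain ⟨a, ha, ha1, hn⟩ := hbr i
  have hXP : X (sr i) ≤ P :=
    (RGD.le_Sup (show sr i ∈ RGD.Pos cs h from ⟨isRoot_sr cs h i, sr_nonneg i⟩)).trans hP
  have hX : cj (n i) (X (sr i)) = X (-sr i) := by
    rw [R.conj i _ (isRoot_sr cs h i), rep_simple_sr]
  have hX' : cj (t * n i) (X (sr i)) = X (-sr i) := by
    rw [cj_mul, hX, R.tor _ (isRoot_sr cs h i).neg t ht]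
  have hbX : n i * a * (n i)⁻¹ ∈ X (-sr i) := by
    rw [← hX, mem_cj]
    have e : (n i)⁻¹ * (n i * a * (n i)⁻¹) * n i = a := by group
    rw [e]
    exact ha
  -- `X (-α_i) ≤ P`
  have hbP : n i * a * (n i)⁻¹ ∈ P := by
    have h1 := hbX
    rw [← hX', mem_cj] at h1
    have e : n i * a * (n i)⁻¹ = (t * n i) * ((t * n i)⁻¹ * (n i * a * (n i)⁻¹) * (t * n i)) * (t * n i)⁻¹ := by
      group
    rw [e]
    exact P.mul_mem (P.mul_mem hk (hXP h1)) (P.inv_mem hk)
  have h4 := eq_of_braid hn rfl (hXP ha) hbP h3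
  rw [← h4] at hbX
  exact FixBN.NodeRGD.not_mem_B_of_neg R i hbX ha1 (RGD.X_le_B (isRoot_sr cs h i) (sr_nonneg i) ha)

/-- **The overgroups of `U` of order prime to three normalise `U`.** -/
theorem le_normalizer_of_three (R : RGD cs h p T n X) [Finite W] [Finite Y] (hbr : NodeBr n X) {P : Subgroup Y}
    (hP : RGD.Sup X (RGD.Pos cs h) ≤ P) (hG : P ≤ GG cs h T X) (h3 : ¬ 3 ∣ Nat.card P) :
    P ≤ Subgroup.normalizer (RGD.Sup X (RGD.Pos cs h) : Set Y) := by
  have h1 := le_PJ R hP hG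
  have h2 : JU T n P = ∅ := by
    rw [Set.eq_empty_iff_forall_notMem]
    exact fun i hi => h3 (three_dvd_of_node R hbr hP hi)
  rw [h2, KFacts.RgdVJ.PJ_empty R] at h1
  exact h1.trans R.B_le_normalizer_U

end Rgd

end Cfsg.Agent.H565.Br
end

-- part: H565/BrPSL
section
/-!
# Braid relation: `PSL_n` of any characteristic
-/

set_option autoImplicit false

namespace Cfsg.Agent.H565.Br

open Matrix CoxeterSystem Cfsg.Agent.ChevalleyStructure.CoxeterGeom Cfsg.Agent.Tits.Roots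
open Cfsg.Agent.Nodes Cfsg.Agent.Nodes.Reps Cfsg.Agent.Nodes.BNOf Cfsg.Agent.Nodes.RGDLib Cfsg.Agent.Nodes.RootsA
open Cfsg.Agent.LieRecognition.BNCox (cA)
open Cfsg.Agent.TitsThree.KSideA (tv tv_of_ne tv_add tv_zero tv_neg tv_comm tv_commute diag2n_eq)

section PSL

variable {n : ℕ} {F : Type*} [Field F]

theorem ns_conj (i : Fin n) :
    RGDTypeA.ns n F i * tv i.castSucc i.succ 1 * (RGDTypeA.ns n F i)⁻¹ = tv i.succ i.castSucc (-1) := by
  have hne : i.castSucc ≠ i.succ := (Fin.castSucc_lt_succ).ne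
  rw [(RGDTypeA.mono_ns i).conj_tv hne, Equiv.swap_apply_left, Equiv.swap_apply_right]
  congr 1
  have e1 : (RGDTypeA.ns n F i).1 i.succ i.castSucc = -1 := by
    rw [RGDTypeA.apply_eq_smul, RGDTypeA.ns, RGDTypeA.nn_smul hne one_ne_zero, if_neg hne.symm, if_pos rfl,
      Pi.single_eq_same]
    norm_num
  have e2 : (RGDTypeA.ns n F i).1 i.castSucc i.succ = 1 := by
    rw [RGDTypeA.apply_eq_smul, RGDTypeA.ns, RGDTypeA.nn_smul hne one_ne_zero, if_pos rfl, Pi.single_eq_same, one_mul]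
  rw [e1, e2]
  norm_num

theorem ns_eq (i : Fin n) :
    RGDTypeA.ns n F i = tv i.castSucc i.succ 1 * tv i.succ i.castSucc (-1) * tv i.castSucc i.succ 1 := by
  rw [RGDTypeA.ns, RGDTypeA.nn, inv_one]

theorem tv_ne (i : Fin n) (s : F) : tv i.succ i.castSucc s ≠ tv i.castSucc i.succ 1 := by
  intro e
  have hne : i.castSucc ≠ i.succ := (Fin.castSucc_lt_succ).ne
  have h1 := congrArg (fun g : _root_.Matrix.SpecialLinearGroup (Fin (n + 1)) F => g.1 i.castSucc i.succ) e
  simp only [RGDTypeA.tv_val hne, RGDTypeA.tv_val hne.symm, Matrix.add_apply, Matrix.one_apply_ne hne,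
    Matrix.single_apply_same, zero_add] at h1
  rw [Matrix.single_apply_of_ne] at h1
  · exact zero_ne_one h1
  · rintro ⟨h3, -⟩
    exact hne h3.symm

theorem nodeBr_psl :
    NodeBr (fun i => RGDTypeA.pr n F (RGDTypeA.ns n F i))
      (fun x => (RGDTypeA.X F x).map (RGDTypeA.pr n F)) := by
  intro i
  refine ⟨RGDTypeA.pr n F (tv i.castSucc i.succ 1), Subgroup.mem_map_of_mem _ ?_, ?_, ?_⟩
  · rw [RGDTypeA.X_sr]
    exact RGDTypeA.tv_mem_XX _ _ _
  · intro h1
    have h3 : tv i.castSucc i.succ (1 : F) ∈ (RGDTypeA.pr n F).ker := h1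
    rw [RGDTypeA.ker_pr, Subgroup.mem_center_iff] at h3
    have h4 := h3 (RGDTypeA.ns n F i)
    have h5 := ns_conj (F := F) i
    rw [h4, mul_inv_cancel_right] at h5
    exact tv_ne i _ h5.symm
  · change RGDTypeA.pr n F (RGDTypeA.ns n F i) =
      _ * (RGDTypeA.pr n F (RGDTypeA.ns n F i) * _ * (RGDTypeA.pr n F (RGDTypeA.ns n F i))⁻¹) * _
    rw [← map_inv, ← map_mul, ← map_mul, ← map_mul, ← map_mul, ns_conj, ← ns_eq]

end PSL

theorem hasBr_PSL {p : ℕ} [Fact p.Prime] {F : Type*} [Field F] [Finite F] (n : ℕ) [CharP F p] :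
    HasBr p (Matrix.ProjectiveSpecialLinearGroup (Fin (n + 1)) F) :=
  have : Finite (cA n).Group := RootsA.finite_W (cA n).toCoxeterSystem (RootsA.isCartan n)
  ⟨n, cA n, RootsA.AA n, RootsA.isCartan n, _, _, _, ‹Finite (cA n).Group›,
    RGDTypeA.rgd_psl _ _, RGDTypeA.G1_psl_eq_top _ _, nodeBr_psl⟩

/-- **`PSL_n`.** -/
theorem hasBr_psl {p : ℕ} [Fact p.Prime] {G : Type*} [Group G] (hG : Cfsg.IsPSLChar p G) : HasBr p G := by
  obtain ⟨F, _, _, _, n, hn, -, ⟨e⟩⟩ := hG
  obtain ⟨n, rfl⟩ : ∃ k, n = k + 1 := ⟨n - 1, by omega⟩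
  exact (hasBr_PSL n).of_equiv e.symm

end Cfsg.Agent.H565.Br
end

-- part: H565/BrExc
section
/-!
# Braid relation: the exceptional Chevalley groups, `²E₆(q)` and `³D₄(q)`
-/

set_option autoImplicit false
set_option linter.unusedSectionVars false
set_option maxHeartbeats 400000

namespace Cfsg.Agent.H565.Br

open CoxeterSystem Cfsg.Agent.ChevalleyStructure.CoxeterGeom Cfsg.Agent.Tits.Roots Cfsg.Agent.Tits.Core
  Cfsg.Agent.Tits.RootComb Cfsg.Agent.Nodes.Comb Cfsg.Agent.Nodes.Reps Cfsg.Agent.Nodes.BNOf Cfsg.Agent.Nodes.BNOf.RGD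
open Cfsg.Lie Cfsg.Agent.ChevalleyStructure Cfsg.Agent.ChevalleyStructure.Elts
  Cfsg.Agent.ChevalleyStructure.NPerm Cfsg.Agent.ChevalleyStructure.CoxeterGeomTypes Cfsg.Agent.Nodes.RGDChev Cfsg.Agent.Nodes.RGDFold Cfsg.Agent.Nodes.RGDFoldSL
open Cfsg.Agent.ChevalleyStructure.SL2Hom (up lo)
open Cfsg.Agent.H685.Three (wS_conj up_zero wS_eq)

universe u

section SL

variable {F : Type*} [Field F]

theorem wS_conj' : (wS (1 : F) : Matrix.SpecialLinearGroup (Fin 2) F) * up 1 * (wS 1)⁻¹ = lo (-(1 : F)⁻¹) := by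
  rw [lo_eq]
  have h1 : -(-(1 : F)⁻¹) = 1 := by rw [neg_neg, inv_one]
  rw [h1]

/-- A node homomorphism from `SL(2, F)`. -/
theorem nodeBr_sl {G : Type*} [Group G] (φ : Matrix.SpecialLinearGroup (Fin 2) F →* G) {S : Subgroup G}
    (hS : φ (up 1) ∈ S) (h1 : φ (up 1) ≠ 1) {n : G} (hn : φ (wS 1) = n) :
    ∃ a ∈ S, a ≠ 1 ∧ n = a * (n * a * n⁻¹) * a := by
  refine ⟨φ (up 1), hS, h1, ?_⟩
  rw [← hn, ← map_inv, ← map_mul, ← map_mul, ← map_mul, ← map_mul, wS_conj', ← wS_eq]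

end SL

section Chev

variable {D : ChevalleyDatum} {l : ℕ} {M : CoxeterMatrix (Fin l)}

theorem nodeBr_chev (hp : IsType D l M) (K : Type u) [Field K] :
    NodeBr (fun i => (⟨nn hp K i, nn_mem_group hp i⟩ : ↥(D.group K)))
      (fun x => (XV D l K x).subgroupOf (D.group K)) := by
  intro i
  have h := simple_lt hp.inList (lt_rank hp i)
  have hmem : ∀ g, psi hp.inList K (D.simple i) g ∈ D.group K := by
    intro g
    have h1 := psi_mem (K := K) hp.inList h g
    rw [← XV_sr hp, ← XV_neg_sr hp] at h1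
    exact sup_le (XV_le_group hp _) (XV_le_group hp _) h1
  refine nodeBr_sl ((psi hp.inList K (D.simple i)).codRestrict (D.group K) hmem) ?_ ?_ ?_
  · rw [Subgroup.mem_subgroupOf, XV_sr hp]
    show psi hp.inList K (D.simple i) (up 1) ∈ D.rootSubgroup K (D.simple i)
    rw [psi_up hp.inList h]
    exact xG_mem_rootSubgroup hp.inList _ _
  · intro h1
    have h3 : psi hp.inList K (D.simple i) (up 1) = 1 := congrArg Subtype.val h1
    rw [psi_up hp.inList h, ← xG_zero hp.inList (D.simple i)] at h3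
    exact one_ne_zero (xG_injective hp.inList h h3)
  · apply Subtype.ext
    exact psi_wS hp.inList h 1

theorem hasBr_group {p : ℕ} [Fact p.Prime] (hp : IsType D l M) (K : Type u) [Field K] [Finite K] [CharP K p] :
    HasBr p ↥(D.group K) :=
  ⟨l, M, cartanOf D l, hp.isCartan, _, _, _, _root_.Cfsg.Agent.Nodes.RGDChev.finite_W hp M.toCoxeterSystem,
    _root_.Cfsg.Agent.Nodes.RGDChev.rgd (K := K) hp M.toCoxeterSystem p, _root_.Cfsg.Agent.Nodes.RGDChev.G1_eq_top hp _, nodeBr_chev hp K⟩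

/-- **The exceptional Chevalley groups.** -/
theorem hasBr_exc {p : ℕ} [Fact p.Prime] {G : Type*} [Group G] (hG : Cfsg.IsExceptionalChevChar p G) :
    HasBr p G := by
  obtain ⟨F, _, _, _, ⟨-, ⟨e⟩⟩ | ⟨⟨e⟩⟩ | ⟨⟨e⟩⟩ | ⟨⟨e⟩⟩ | ⟨⟨e⟩⟩⟩ := hG
  · exact (hasBr_group (l := 2) (M := CoxeterMatrix.G₂) (by simp [IsType, typeList]) F).of_equiv e.symm
  · exact (hasBr_group (l := 4) (M := CoxeterMatrix.F₄) (by simp [IsType, typeList]) F).of_equiv e.symm
  · exact (hasBr_group (l := 6) (M := CoxeterMatrix.E₆) (by simp [IsType, typeList]) F).of_equiv e.symm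
  · exact (hasBr_group (l := 7) (M := CoxeterMatrix.E₇) (by simp [IsType, typeList]) F).of_equiv e.symm
  · exact (hasBr_group (l := 8) (M := CoxeterMatrix.E₈) (by simp [IsType, typeList]) F).of_equiv e.symm

end Chev

section Fold

variable {D : ChevalleyDatum} {l : ℕ} {M' : CoxeterMatrix (Fin l)} {hp : IsType D l M'} {K : Type u} [Field K]
  {m : ℕ} {M : CoxeterMatrix (Fin m)} {A : Fin m → Fin m → ℤ}
  {J : Fin m → List (Fin l)} {L : List (List ℕ)} {σ : GL D.Idx K →* GL D.Idx K} {ρ ρ' : ℕ → ℕ}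
  {f : ℕ → K → K} {G : Subgroup (GL D.Idx K)}

theorem nodeBr_fold (FG : FoldGrp hp K J L σ ρ ρ' f G) {i : Fin m} {r : ℕ}
    {o : List ℕ} (N : NodeOK D J L ρ i r o) {φ : K →+* K} (hf : ∀ s ∈ r :: o, ∀ t, f s t = φ t) :
    ∃ a ∈ (R D hp K J σ (sr i)).subgroupOf G, a ≠ 1 ∧
      (⟨nI hp K (J i), FG.nG i⟩ : ↥G) = a * ((⟨nI hp K (J i), FG.nG i⟩ : ↥G) * a *
        (⟨nI hp K (J i), FG.nG i⟩ : ↥G)⁻¹) * a := by
  refine nodeBr_sl (Phi FG N hf) ?_ ?_ (Phi_wS FG N hf)
  · rw [mem_X_iff FG N hf]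
    exact ⟨1, rfl⟩
  · intro h1
    have h3 : (1 : Fx φ (o.length + 1)) = 0 := by
      refine Phi_up_injective FG N hf ?_
      show Phi FG N hf (up 1) = Phi FG N hf (up 0)
      rw [h1, up_zero, map_one]
    exact one_ne_zero h3

theorem hasBr_fold {p : ℕ} [Fact p.Prime] [Finite K] [CharP K p] (h : IsCartan M A)
    (FD : FoldData D M A J L) (FG : FoldGrp hp K J L σ ρ ρ' f G) (r : Fin m → ℕ) (o : Fin m → List ℕ)
    (N : ∀ i, NodeOK D J L ρ i (r i) (o i)) {φ : K →+* K} (hf : ∀ i, ∀ s ∈ r i :: o i, ∀ t, f s t = φ t) :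
    HasBr p ↥G :=
  ⟨m, M, A, h, _, _, _, Nodes.RGDFold.finite_W (hp := hp) M.toCoxeterSystem h FD,
    Nodes.RGDFold.rgd M.toCoxeterSystem h FD FG p, Nodes.RGDFold.G1_eq_top M.toCoxeterSystem h FD FG p,
    fun i => nodeBr_fold FG (N i) (hf i)⟩

end Fold

theorem hasBr_D4 {p : ℕ} [Fact p.Prime] {K : Type u} [Field K] [Fintype K] {q : ℕ} (hq : IsPrimePow q)
    (hK : Fintype.card K = q ^ 3) [CharP K p] : HasBr p ↥(twistedD4 K q) := by
  obtain ⟨φ, hφ⟩ := D4Fixed.exists_frob hq hK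
  exact hasBr_fold Nodes.RGDTwD4.isCartan Nodes.RGDTwD4.foldData
    (Nodes.RGDTwD4.foldGrp hφ (D4Fixed.twisted_le_fix hK hφ)) _ _ Nodes.RGDTwNode.D4.nodeOK (φ := φ)
    fun i s hs t => by rw [Nodes.RGDTwNode.D4.eps_one i s hs, Int.cast_one, one_mul]

theorem hasBr_E6 {p : ℕ} [Fact p.Prime] {K : Type u} [Field K] [Fintype K] {q : ℕ} (hq : IsPrimePow q)
    (hK : Fintype.card K = q ^ 2) [CharP K p] : HasBr p ↥(twistedE6 K q) := by
  obtain ⟨φ, hφ, hqq⟩ := TwE6Basic.exists_frob hq hK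
  exact hasBr_fold Nodes.RGDTwE6.isCartan Nodes.RGDTwE6.foldData
    (Nodes.RGDTwE6.foldGrp hφ hqq) _ _ Nodes.RGDTwNode.E6.nodeOK (φ := φ)
    fun i s hs t => by rw [Nodes.RGDTwNode.E6.eps_one i s hs, Int.cast_one, one_mul]

/-- **`²E₆(q)`, `³D₄(q)`.** -/
theorem hasBr_tw {p : ℕ} [Fact p.Prime] {G : Type*} [Group G] (hG : Cfsg.IsTwistedE6D4Char p G) : HasBr p G := by
  obtain ⟨K, _, _, _, q, hq, ⟨hK, ⟨e⟩⟩ | ⟨hK, ⟨e⟩⟩⟩ := hG
  · exact (hasBr_E6 hq hK).of_equiv e.symm
  · exact (hasBr_D4 hq hK).of_equiv e.symm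

end Cfsg.Agent.H565.Br
end

-- part: H565/BrWitt
section
/-!
# Braid relation: symplectic, unitary and orthogonal groups of every characteristic
-/

set_option autoImplicit false
set_option linter.unusedSectionVars false

namespace Cfsg.Agent.H565.Br

open Cfsg Cfsg.Agent.ChevalleyStructure.CoxeterGeom Cfsg.Agent.Tits.Roots
open Cfsg.Agent.Nodes
open Cfsg.Agent.Nodes.Comb Cfsg.Agent.Nodes.Reps Cfsg.Agent.Nodes.WittRoot Cfsg.Agent.Nodes.BNOf
open Cfsg.Agent.Nodes.RGDLib Cfsg.Agent.Nodes.WittAll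
open Cfsg.Agent.TitsThree Cfsg.Agent.TitsThree.Siegel Cfsg.Agent.TitsThree.WittFrame
  Cfsg.Agent.TitsThree.WittWeyl Cfsg.Agent.TitsThree.FrameCN
open Cfsg.Agent.H685.Three (frame_nX_conj frame_X_ne not_line_X not_line_Z)

/-! ### The relations in a frame -/

section FrameLevel

variable {F : Type*} [Field F] {V : Type*} [AddCommGroup V] [Module F V] {H : HForm F V}
  {ι : Type*} [DecidableEq ι] (Fr : Frame H ι)

/-- the admissible pairs for which the third factor of `nZ` is the first one -/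
def BrAdm (p : Fr.Adm) : Prop :=
  p.c ≠ 0 ∧ (p.w = 0 ∨ H.σ p.c = H.ε * p.c)

variable {Fr}

theorem nZ_eq (x : ι × Bool) {p : Fr.Adm} (hp : BrAdm Fr p) :
    nZ Fr x p = Fr.Z x p * Fr.Z (neg x) (Frame.Adm.smul (-(Fr.η x * (H.σ p.c)⁻¹)) p) * Fr.Z x p := by
  obtain ⟨hc, hw⟩ := hp
  have hε := H.ε_ne
  have hσ : H.σ p.c ≠ 0 := by simpa using hc
  have h1 : Frame.Adm.smul (H.ε * p.c * (H.σ p.c)⁻¹) p = p := by
    rcases hw with hw | hw
    · have h2 : H.ε * p.c + H.σ p.c = 0 := by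
        rw [p.herm, hw, H.zero_left, neg_zero]
      have h3 : H.ε * p.c * (H.σ p.c)⁻¹ = -1 := by
        rw [eq_neg_of_add_eq_zero_left h2, neg_mul, mul_inv_cancel₀ hσ]
      rw [h3]
      apply Frame.Adm.ext
      · rw [Frame.Adm.smul_w, hw, smul_zero]
      · rw [Frame.Adm.smul_c, map_neg, map_one]
        ring
    · rw [hw, mul_inv_cancel₀ (mul_ne_zero hε hc), Frame.Adm.one_smul]
  rw [nZ, h1]

theorem nZ_conj (x : ι × Bool) {p : Fr.Adm} (hp : BrAdm Fr p) :
    nZ Fr x p * Fr.Z x p * (nZ Fr x p)⁻¹ = Fr.Z (neg x) (Frame.Adm.smul (-(Fr.η x * (H.σ p.c)⁻¹)) p) := by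
  obtain ⟨hc, hw⟩ := hp
  have hε := H.ε_ne
  have hη := Fr.η_ne x
  have hσ : H.σ p.c ≠ 0 := by simpa using hc
  rw [nZ_conj_Z Fr x p hc p]
  congr 1
  apply Frame.Adm.ext
  · rw [Frame.Adm.smul_w, Frame.Adm.smul_w, refl_w]
    rcases hw with hw | hw
    · rw [hw, H.zero_left, mul_zero, zero_smul, add_zero, smul_zero, smul_zero]
    · have hh : H.h p.w p.w = -(H.ε * p.c + H.σ p.c) := by rw [p.herm, _root_.neg_neg]
      rw [hh, hw]
      match_scalars
      field_simp
      ring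
  · rw [Frame.Adm.smul_c, Frame.Adm.smul_c, refl_c]
    simp only [map_neg, map_mul, map_inv₀, H.σσ, H.σε, inv_inv]
    field_simp

end FrameLevel

/-! ### Models -/

section Model

open Cfsg.Agent.Nodes.TypeC
open Cfsg.Agent.Nodes.WittRGD (rg_sr)

variable {F : Type*} [Field F] {V : Type*} [AddCommGroup V] [Module F V] {H : HForm F V} {n : ℕ}
  {Fr : Frame H (Fin n)} {K : Type*} [Group K] (M : Model Fr K)

/-- **The nodes of a model of type `C`.** -/
theorem nodeBr_C {p : ℕ} (hA : AmbT Fr p M.I) {p0 : Fr.Adm} (hp0 : BrAdm Fr p0) :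
    NodeBr (fun i => M.φ ⟨Nodes.WittRGD.nn Fr p0 i, nn_mem hA p0 i⟩) (WittModel.X M) := by
  intro i
  -- the element at the level of the frame
  obtain ⟨g, hg, hgX, hn, hl⟩ : ∃ (g : V ≃ₗ[F] V) (_ : g ∈ M.I) (_ : g ∈ WittRoot.rg Fr (sr i)),
      Nodes.WittRGD.nn Fr p0 i = g * (Nodes.WittRGD.nn Fr p0 i * g * (Nodes.WittRGD.nn Fr p0 i)⁻¹) * g ∧
      ∃ v, ∀ a : F, g v ≠ a • v := by
    by_cases hi : (i : ℕ) + 1 < n
    · have hnx : nx i = (⟨i + 1, hi⟩, false) := by unfold nx; rw [dif_pos hi]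
      have hne : ((i, true) : Fin n × Bool).1 ≠ (nx i).1 := by rw [hnx]; simp [Fin.ext_iff]
      have hnn : Nodes.WittRGD.nn Fr p0 i = nX Fr (i, true) (nx i) 1 := by unfold Nodes.WittRGD.nn; rw [if_pos hi]
      refine ⟨Fr.X (i, true) (nx i) 1, M.hX _ _ _, ?_, ?_, Fr.b (neg (nx i)), fun a ha => not_line_X Fr hne ha⟩
      · rw [rg_sr, PG_ne Fr hne]
        exact ⟨1, rfl⟩
      · rw [hnn, frame_nX_conj Fr hne, nX]
    · have hnx : nx i = (i, true) := by unfold nx; rw [dif_neg hi]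
      have hnn : Nodes.WittRGD.nn Fr p0 i = nZ Fr (i, true) p0 := by unfold Nodes.WittRGD.nn; rw [if_neg hi]
      refine ⟨Fr.Z (i, true) p0, M.hZ _ _, ?_, ?_, Fr.b (neg (i, true)), fun a ha => not_line_Z Fr hp0.1 ha⟩
      · rw [rg_sr, hnx, PG_self]
        exact ⟨p0, rfl⟩
      · rw [hnn, nZ_conj _ hp0, ← nZ_eq _ hp0]
  obtain ⟨v, hv⟩ := hl
  refine ⟨M.φ ⟨g, hg⟩, WittModel.mem_X_of M hg hgX, ?_, ?_⟩
  · intro h1
    obtain ⟨a, ha⟩ := M.ker v ⟨g, hg⟩ h1
    exact hv a ha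
  · show M.φ ⟨Nodes.WittRGD.nn Fr p0 i, nn_mem hA p0 i⟩ =
      M.φ ⟨g, hg⟩ * (M.φ ⟨Nodes.WittRGD.nn Fr p0 i, nn_mem hA p0 i⟩ * M.φ ⟨g, hg⟩ *
      (M.φ ⟨Nodes.WittRGD.nn Fr p0 i, nn_mem hA p0 i⟩)⁻¹) * M.φ ⟨g, hg⟩
    rw [← map_inv, ← map_mul, ← map_mul, ← map_mul, ← map_mul]
    congr 1
    apply Subtype.ext
    exact hn

theorem hasBr_C {p : ℕ} [Fact p.Prime] (hA : AmbT Fr p M.I) [Finite V] [CharP F p] {p0 : Fr.Adm}
    (hp0 : BrAdm Fr p0) (hn : 0 < n) : HasBr p K :=
  ⟨n, CoxeterMatrix.B n, TypeC.A n, TypeC.isCartan n, _, _, _, finite_W (CoxeterMatrix.B n).toCoxeterSystem,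
    rgdC_model M hA hp0.1 _, WittModel.G1_eq_top _ hn _, nodeBr_C M hA hp0⟩

end Model

/-! ### Unitary and symplectic groups -/

open Cfsg.Agent.Nodes.WittU Cfsg.Agent.Nodes.WittInst

theorem hasBr_PSU {p : ℕ} [Fact p.Prime] {F : Type*} [Field F] [Fintype F] {q N : ℕ} (hF : Fintype.card F = q ^ 2)
    (hN : 3 ≤ N) [CharP F p] : HasBr p (PSU N F q) := by
  obtain ⟨m, hm⟩ : ∃ m, N = 2 * m ∨ N = 2 * m + 1 := ⟨N / 2, by omega⟩
  obtain ⟨W, -⟩ := exists_wframe hF hm
  obtain ⟨p0, hp0, hw⟩ := exists_adm hF W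
  exact hasBr_C (KInstU.model hF hN W) (AmbT.of_amb (amb_U hF W) p) ⟨hp0, Or.inl hw⟩ (by omega)

theorem hasBr_PSp {p : ℕ} [Fact p.Prime] {F : Type*} [Field F] [Finite F] {m : ℕ} (hm : 1 ≤ m) [CharP F p] :
    HasBr p (PSp m F) :=
  hasBr_C (KInstSp.model m F) (AmbT.of_amb amb_Sp p) (p0 := SpIdent.adm 1) ⟨one_ne_zero, Or.inl rfl⟩ hm

/-! ### Orthogonal groups -/

section Orthogonal

open QuadraticMap
open Cfsg.Agent.LieClassical Cfsg.Agent.LieClassical.OrthCore Cfsg.Agent.LieClassical.OrthTrans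
open Cfsg.Agent.LieClassical.OrthSimple Cfsg.Agent.LieClassical.OrthFinite
open Cfsg.Agent.LieClassical.OrthForms Cfsg.Agent.TitsThree.SiegelGen
open Cfsg.Agent.TitsThree.WBridge Cfsg.Agent.TitsThree.KSideO Cfsg.Agent.TitsThree.StdData

variable {F : Type*} [Field F] {m : ℕ}

theorem brAdm_O {ι : Type} [Fintype ι] [DecidableEq ι] {Q : QuadraticForm F (ι → F)} {n : ℕ} (W : WFrame (PO Q) n)
    {p0 : (toFrame W).Adm} (hp0 : p0.c ≠ 0) : BrAdm (toFrame W) p0 :=
  ⟨hp0, Or.inr (by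
    show p0.c = 1 * p0.c
    rw [one_mul])⟩

theorem hasBr_PO_odd {p : ℕ} [Fact p.Prime] [Finite F] (h2 : (2 : F) ≠ 0) (hm : 2 ≤ m) [CharP F p] :
    HasBr p (Cfsg.POmega F (Cfsg.quadFormOdd m F)) := by
  rw [← coe_oddForm]
  have hG : _root_.Cfsg.Agent.LieClassical.OrthTrans.Good (oddForm m F) := by
    apply good_of_finite (nondeg_oddForm m F h2)
    rw [Module.finrank_fintype_fun_eq_card, Fintype.card_sum, Fintype.card_sum, Fintype.card_fin,
      Fintype.card_unit]
    omega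
  have hp : ((embOdd m F).ngt ⟨1, -1 ^ 2, rfl⟩).c ≠ 0 := by
    change (1 : F)⁻¹ * (-1 ^ 2) ≠ 0
    simp
  exact hasBr_C (model (wodd m F) hG ⟨_, hp⟩) (AmbT.of_amb (amb_O_of_two _ h2) p) (brAdm_O _ hp) (by omega)

theorem hasBr_PO_minus {p : ℕ} [Fact p.Prime] [Finite F] [CharP F p] (a b : F)
    (hab : ∀ z₁ z₂ : F, z₁ ^ 2 + a * z₁ * z₂ + b * z₂ ^ 2 = 0 → z₁ = 0 ∧ z₂ = 0)
    (hm : 2 ≤ m) : HasBr p (Cfsg.POmega F (Cfsg.quadFormMinus m F a b)) := by
  rw [← coe_minusForm]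
  have hG : _root_.Cfsg.Agent.LieClassical.OrthTrans.Good (minusForm m F a b) := by
    apply good_of_finite (nondeg_minusForm m F a b hab)
    rw [Module.finrank_fintype_fun_eq_card, Fintype.card_sum, Fintype.card_sum, Fintype.card_fin,
      Fintype.card_fin]
    omega
  have hp : ((embMinus m F a b hab).ngt ⟨(1, 0), -nf a b (1, 0), rfl⟩).c ≠ 0 := by
    change (1 : F)⁻¹ * (-nf a b (1, 0)) ≠ 0
    simp [nf]
  have hA : AmbT (toFrame (wminus m F a b hab)) p (E (minusForm m F a b)) := by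
    by_cases h2 : (2 : F) = 0
    · have hp2 : p = 2 := by
        have h3 : CharP F 2 := CharTwo.of_one_ne_zero_of_two_eq_zero one_ne_zero h2
        exact CharP.eq F ‹CharP F p› h3
      subst hp2
      exact ambT_O _ fun g hg hg2 hb => fixp_minus a b hab h2 hm hG hg hg2 hb
    · exact AmbT.of_amb (amb_O_of_two _ h2) p
  exact hasBr_C (model (wminus m F a b hab) hG ⟨_, hp⟩) hA (brAdm_O _ hp) (by omega)

end Orthogonal

section Plus

open Cfsg.Agent.TitsThree.SiegelGen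
open Cfsg.Agent.LieClassical Cfsg.Agent.LieClassical.OrthCore Cfsg.Agent.LieClassical.OrthTrans
open Cfsg.Agent.LieClassical.OrthSimple Cfsg.Agent.LieClassical.OrthFinite
open Cfsg.Agent.LieClassical.OrthForms
open Cfsg.Agent.TitsThree.WBridge Cfsg.Agent.TitsThree.KSideO Cfsg.Agent.TitsThree.StdData

variable {F : Type*} [Field F] {m : ℕ}

variable {ι : Type} [Fintype ι] [DecidableEq ι] {Q : QuadraticForm F (ι → F)} {n : ℕ}

seal _root_.Finset.sum _root_.dotProduct in
theorem nodeBr_D (W : WFrame (PO Q) (n + 2)) (hG : _root_.Cfsg.Agent.LieClassical.OrthTrans.Good Q) (hA : Amb (toFrame W) (E Q)) :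
    NodeBr (fun i => toPOmega hG ⟨WittRGDD.nn (toFrame W) i, WittRGDD.nn_mem hA i⟩) (XD W (toPOmega hG)) := by
  intro i
  have hne : ((i, true) : Fin (n + 2) × Bool).1 ≠ (TypeD.nx i).1 := TypeD.ok_nx i
  have hg : (toFrame W).X (i, true) (TypeD.nx i) 1 ∈ E Q := X_mem W _ _ _
  have hnn : WittRGDD.nn (toFrame W) i = nX (toFrame W) (i, true) (TypeD.nx i) 1 := rfl
  refine ⟨toPOmega hG ⟨(toFrame W).X (i, true) (TypeD.nx i) 1, hg⟩, ?_, ?_, ?_⟩
  · refine Subgroup.mem_map_of_mem _ (Subgroup.mem_subgroupOf.2 ?_)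
    show (toFrame W).X (i, true) (TypeD.nx i) 1 ∈ WittRGDD.rg (toFrame W) (sr i)
    rw [WittRGDD.rg_sr]
    exact ⟨1, rfl⟩
  · intro h1
    have h3 : (⟨(toFrame W).X (i, true) (TypeD.nx i) 1, hg⟩ : E Q) ∈ Subgroup.center (E Q) :=
      ker_toPOmega hG h1
    rw [Subgroup.mem_center_iff] at h3
    have h4 := congrArg Subtype.val (h3 ⟨WittRGDD.nn (toFrame W) i, WittRGDD.nn_mem hA i⟩)
    have h5 : nX (toFrame W) (i, true) (TypeD.nx i) 1 * (toFrame W).X (i, true) (TypeD.nx i) 1 =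
      (toFrame W).X (i, true) (TypeD.nx i) 1 * nX (toFrame W) (i, true) (TypeD.nx i) 1 := h4
    have h6 := frame_nX_conj (toFrame W) hne
    rw [h5, mul_inv_cancel_right] at h6
    exact frame_X_ne (toFrame W) hne _ h6
  · show toPOmega hG ⟨WittRGDD.nn (toFrame W) i, WittRGDD.nn_mem hA i⟩ = toPOmega hG ⟨_, hg⟩ *
      (toPOmega hG ⟨WittRGDD.nn (toFrame W) i, WittRGDD.nn_mem hA i⟩ * toPOmega hG ⟨_, hg⟩ *
      (toPOmega hG ⟨WittRGDD.nn (toFrame W) i, WittRGDD.nn_mem hA i⟩)⁻¹) * toPOmega hG ⟨_, hg⟩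
    rw [← map_inv, ← map_mul, ← map_mul, ← map_mul, ← map_mul]
    (with_reducible congr 1)
    apply Subtype.ext
    show WittRGDD.nn (toFrame W) i = _ * (WittRGDD.nn (toFrame W) i * _ * (WittRGDD.nn (toFrame W) i)⁻¹) * _
    rw [hnn, frame_nX_conj (toFrame W) hne, nX]

theorem hasBr_PO_plus {p : ℕ} [Fact p.Prime] {F : Type*} [Field F] [Finite F] [CharP F p] (n : ℕ) :
    HasBr p (Cfsg.POmega F (Cfsg.quadFormPlus (n + 3) F)) := by
  rw [← coe_plusForm]
  have hG : _root_.Cfsg.Agent.LieClassical.OrthTrans.Good (plusForm (n + 3) F) := by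
    apply good_of_finite (nondeg_plusForm (n + 3) F)
    rw [Module.finrank_fintype_fun_eq_card, Fintype.card_sum, Fintype.card_fin]
    omega
  exact ⟨n + 3, TypeD.M (n + 1), TypeD.A (n + 1), TypeD.isCartan (n + 1), _, _, _,
    TypeD.finite_W (TypeD.M (n + 1)).toCoxeterSystem,
    rgdD_model (wplus (n + 3) F) hG (amb_plus _) (adm_plus _) _,
    G1D_eq_top (wplus (n + 3) F) (toPOmega hG) (toPOmega_surjective hG) (adm_plus _) _,
    nodeBr_D (wplus (n + 3) F) hG (amb_plus _)⟩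

end Plus

end Cfsg.Agent.H565.Br
end

-- part: H565/ThreeLe
section
/-!
# Overgroups of order prime to three of the Sylow `p`-subgroups of a group of Lie type in characteristic `p`

* `ThreeLe p G` : every subgroup of order prime to three containing a Sylow `p`-subgroup `S` is `G` or normalises `S`;
  `threeLe_of_lie` : all groups of Lie type in characteristic `p ≠ 3` except `²F₄(q)`;
* `HallLe p G` : the same for Hall `π`-subgroups, `3 ∉ π`;
* `conj_of_hallLe` : `HallLe p G`, `BorelSolv p G`, `3 ∉ π`, `p ∈ π`: Hall `π`-subgroups are conjugate;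
* `borelSolv_two` : `BorelSolv 2 G` for every finite group.
-/

set_option autoImplicit false
set_option linter.unusedSectionVars false

namespace Cfsg.Agent.H565.Br

open Cfsg Subgroup Cfsg.Agent.H565.OddBorel
open scoped Pointwise

/-- Subgroups of order prime to three containing a Sylow `p`-subgroup `S` are `G` or normalise `S`. -/
def ThreeLe (p : ℕ) (G : Type*) [Group G] : Prop :=
  ∀ (S : Sylow p G) (H : Subgroup G), (S : Subgroup G) ≤ H → ¬ 3 ∣ Nat.card H →
    H = ⊤ ∨ H ≤ normalizer ((S : Subgroup G) : Set G)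

theorem ThreeLe.of_one {p : ℕ} [Fact p.Prime] {G : Type*} [Group G] [Finite G] (Q : Sylow p G)
    (h : ∀ H : Subgroup G, (Q : Subgroup G) ≤ H → ¬ 3 ∣ Nat.card H →
      H = ⊤ ∨ H ≤ normalizer ((Q : Subgroup G) : Set G)) : ThreeLe p G := by
  intro S H hSH h3
  obtain ⟨k, hk⟩ := MulAction.exists_smul_eq G S Q
  have h1 := h (H.map (MulAut.conj k).toMonoidHom) (by
    intro y hy
    refine ⟨k⁻¹ * y * k, hSH ?_, ?_⟩
    · rw [mem_conj_iff hk]
      have e1 : k * (k⁻¹ * y * k) * k⁻¹ = y := by group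
      rwa [e1]
    · show k * (k⁻¹ * y * k) * k⁻¹ = y
      group) (by rwa [H164.card_map_conj])
  rcases h1 with h1 | h1
  · left
    rw [eq_top_iff]
    intro g _
    have h2 : k * g * k⁻¹ ∈ H.map (MulAut.conj k).toMonoidHom := by rw [h1]; exact mem_top _
    obtain ⟨y, hy, e⟩ := h2
    have h3 : y = g := mul_left_cancel (mul_right_cancel (show k * y * k⁻¹ = k * g * k⁻¹ from e))
    rwa [← h3]
  · right
    intro g hg
    rw [mem_normalizer_conj_iff hk]
    exact h1 ⟨g, hg, rfl⟩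

section Rgd

open CoxeterSystem Cfsg.Agent.ChevalleyStructure.CoxeterGeom Cfsg.Agent.Tits.Roots Cfsg.Agent.Tits.Core
  Cfsg.Agent.Nodes.Reps Cfsg.Agent.Nodes.BNOf Cfsg.Agent.Nodes.StabComb
  Cfsg.Agent.Nodes.Bruhat Cfsg.Agent.Nodes.OppDec Cfsg.Agent.Nodes.LeviDec

theorem threeLe_of_hasBr {G : Type*} [Group G] [Finite G] {p : ℕ} [Fact p.Prime] (hG : HasBr p G) : ThreeLe p G := by
  obtain ⟨l, M, A, h, T, n, X, hW, R, hG, hbr⟩ := hG
  have hGG : GG M.toCoxeterSystem h T X = ⊤ := by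
    rw [eq_top_iff, ← hG]
    exact le_sup_right
  have h1 := KFacts.RgdSyl.not_dvd_relIndex R
  rw [hGG, Subgroup.relIndex_top_right] at h1
  exact ThreeLe.of_one (R.isPGroup_Upos.toSylow h1) fun H hH h3 =>
    Or.inr (le_normalizer_of_three R hbr hH (by rw [hGG]; exact le_top) h3)

end Rgd

/-- `TI p G` and the dichotomy for overgroups of Sylow subgroups -/
theorem threeLe_of_ti {G : Type*} [Group G] [Finite G] {p : ℕ} [Fact p.Prime] (h : H794.TI p G)
    (hd : H248.Ovg.Dich p G) : ThreeLe p G := by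
  obtain ⟨U, hU, hUi, hd⟩ := hd
  refine ThreeLe.of_one (hU.toSylow hUi) fun H hH _ => ?_
  have hH' : U ≤ H := hH
  rcases hd H hH' with h1 | ⟨V, hV1, hVp, hVH, hHV⟩
  · exact Or.inl h1
  · right
    obtain ⟨Q, hQ⟩ := hVp.exists_le_sylow
    obtain ⟨x, hx, hx1⟩ := V.bot_or_exists_ne_one.resolve_left hV1
    have h2 : H ≤ normalizer ((Q : Subgroup G) : Set G) := fun g hg =>
      h Q x (hQ hx) hx1 g (hQ ((mem_normalizer_iff.1 (hHV hg) x).1 hx))
    have h3 : U ≤ Q := by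
      have h3 : IsPGroup p ((Q : Subgroup G) ⊔ U : Subgroup G) :=
        IsPGroup.to_sup_of_normal_left' Q.isPGroup' hU (hH'.trans h2)
      have h4 := Q.is_maximal' h3 le_sup_left
      rw [← h4]
      exact le_sup_right
    have h4 : (Q : Subgroup G) = U := by
      have h5 := (hU.toSylow hUi).is_maximal' Q.isPGroup' h3
      exact h5
    rw [h4] at h2
    exact h2

/-- the braid relation: all groups of Lie type except `Sz(q)`, `²F₄(q)`, `²G₂(q)` -/
theorem hasBr_of_lie {p : ℕ} [Fact p.Prime] {G : Type*} [Group G] (hG : IsLieTypeChar p G) :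
    HasBr p G ∨ (p = 2 ∧ Lie.IsoSuzuki G) ∨ (p = 2 ∧ Lie.Iso2F4 G) ∨ (p = 3 ∧ Lie.IsoRee G) := by
  rcases hG with h | h | h | h | h | h | h | h | h | h | h
  · exact Or.inl (hasBr_psl h)
  · obtain ⟨F, _, _, _, m, hm, -, ⟨e⟩⟩ := h
    exact Or.inl ((hasBr_PSp (by omega)).of_equiv e.symm)
  · obtain ⟨F, _, _, _, n, q, hF, hn, -, ⟨e⟩⟩ := h
    exact Or.inl ((hasBr_PSU hF hn).of_equiv e.symm)
  · left
    obtain ⟨F, _, _, _, m, hm, hodd, ⟨e⟩⟩ := h
    have h2 : (2 : F) ≠ 0 := by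
      intro h2
      have h3 : CharP F 2 := CharTwo.of_one_ne_zero_of_two_eq_zero one_ne_zero h2
      obtain ⟨k, -, hk⟩ := FiniteField.card F 2
      rw [hk] at hodd
      exact absurd hodd (by
        rw [Nat.not_odd_iff_even]
        exact (even_two).pow_of_ne_zero k.ne_zero)
    exact (hasBr_PO_odd h2 (by omega)).of_equiv e.symm
  · obtain ⟨F, _, _, _, m, hm, ⟨e⟩⟩ := h
    obtain ⟨n, rfl⟩ : ∃ n, m = n + 3 := ⟨m - 3, by omega⟩
    exact Or.inl ((hasBr_PO_plus n).of_equiv e.symm)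
  · obtain ⟨F, _, _, _, m, a, b, hm, hab, ⟨e⟩⟩ := h
    exact Or.inl ((hasBr_PO_minus a b hab (by omega)).of_equiv e.symm)
  · exact Or.inl (hasBr_exc h)
  · exact Or.inl (hasBr_tw h)
  · exact Or.inr (Or.inl h)
  · exact Or.inr (Or.inr (Or.inl h))
  · exact Or.inr (Or.inr (Or.inr h))

/-- Hall subgroups of order prime to three containing a Sylow `p`-subgroup `S` are `G` or normalise `S`. -/
def HallLe (p : ℕ) (G : Type*) [Group G] : Prop :=
  ∀ (π : Set ℕ) (S : Sylow p G) (H : Subgroup G), Cfsg.IsPiHall π H → 3 ∉ π → (S : Subgroup G) ≤ H →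
    H = ⊤ ∨ H ≤ normalizer ((S : Subgroup G) : Set G)

theorem not_three_dvd {G : Type*} [Group G] {π : Set ℕ} {H : Subgroup G} (hH : Cfsg.IsPiHall π H) (h3 : 3 ∉ π) :
    ¬ 3 ∣ Nat.card H := fun h => h3 (hH.1 3 Nat.prime_three h)

theorem ThreeLe.hallLe {p : ℕ} {G : Type*} [Group G] (h : ThreeLe p G) : HallLe p G :=
  fun _ S H hH h3 hS => h S H hS (not_three_dvd hH h3)

theorem HallLe.of_one {p : ℕ} [Fact p.Prime] {G : Type*} [Group G] [Finite G] (Q : Sylow p G)
    (h : ∀ (π : Set ℕ) (H : Subgroup G), Cfsg.IsPiHall π H → 3 ∉ π → (Q : Subgroup G) ≤ H →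
      H = ⊤ ∨ H ≤ normalizer ((Q : Subgroup G) : Set G)) : HallLe p G := by
  intro π S H hH h3 hSH
  obtain ⟨k, hk⟩ := MulAction.exists_smul_eq G S Q
  have h1 := h π (H.map (MulAut.conj k).toMonoidHom) (H164.hall_map_conj hH k) h3 (by
    intro y hy
    refine ⟨k⁻¹ * y * k, hSH ?_, ?_⟩
    · rw [mem_conj_iff hk]
      have e1 : k * (k⁻¹ * y * k) * k⁻¹ = y := by group
      rwa [e1]
    · show k * (k⁻¹ * y * k) * k⁻¹ = y
      group)
  rcases h1 with h1 | h1
  · left
    rw [eq_top_iff]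
    intro g _
    have h2 : k * g * k⁻¹ ∈ H.map (MulAut.conj k).toMonoidHom := by rw [h1]; exact mem_top _
    obtain ⟨y, hy, e⟩ := h2
    have h3 : y = g := mul_left_cancel (mul_right_cancel (show k * y * k⁻¹ = k * g * k⁻¹ from e))
    rwa [← h3]
  · right
    intro g hg
    rw [mem_normalizer_conj_iff hk]
    exact h1 ⟨g, hg, rfl⟩

end Cfsg.Agent.H565.Br
end

-- part: H565/TwF4Three
section
/-!
# `²F₄(q)`: overgroups of the Sylow 2-subgroups of order prime to three

`S : Full σ G`, `U = J 1 8`, `P = N(Z_4)`: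
* `three_dvd` : `X_1, X_9` in `M` imply `3 ∣ |M|`;
* `card_of_le` : `|K| = |K ∩ UT| (1 + |X_8|)` for `X_8, n_2 ≤ K ≤ P`;
* `le_normalizer` : a subgroup `H ≥ U` of order prime to three with `5 ∣ |H| → 5 ∤ |G : H|` normalises `U`.
-/

set_option autoImplicit false
set_option linter.unusedSectionVars false

namespace Cfsg.Agent.H565.Br.F4

open Cfsg.Agent.KFacts.TwF4 Cfsg.Agent.KFacts.TwF4.Full Cfsg.Agent.KFacts.TwF4.Arc
open Cfsg.Agent.KFacts.TwF4.Inv Cfsg.Agent.KFacts.TwF4.SylU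
open Cfsg.Agent.SplitTwo Cfsg.Agent.SplitTwo.ZS Cfsg.Agent.TitsThree.RankTwoZ
open Cfsg.Agent.SplitTwo.RootSysZ Subgroup Cfsg Cfsg.Lie Cfsg.Agent.H248.Ovg Cfsg.Agent.H248.TwF4Over

universe u

variable {F : Type*} [Field F] {σ : F →+* F} {G : Type u} [Group G] (S : Full σ G)

/-- **the long root `SL_2` gives three** -/
theorem three_dvd [Finite G] {M : Subgroup G} (h1 : S.o 0 1 ∈ M) (h9 : S.o 4 1 ∈ M) : 3 ∣ Nat.card M := by
  by_contra h3
  have hb : S.n1 * S.o 0 1 * S.n1⁻¹ = S.o 4 1 := by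
    rw [S.n1_o, sub_zero]
  have h := eq_of_braid S.n1_word hb h1 h9 h3
  have m1 : S.o 0 1 ∈ S.R.X (od 0) := (S.mem_odd 0 _).2 ⟨1, rfl⟩
  have m9 : S.o 0 1 ∈ S.R.X (od 4) := by rw [h]; exact (S.mem_odd 4 _).2 ⟨1, rfl⟩
  have h2 := S.X_inf (by decide) m1 m9
  exact one_ne_zero (S.o_eq_one h2)

/-- the form of the elements of the parabolic subgroup `N(Z_4)` -/
theorem form {g : G} (hg : g ∈ normalizer (S.Zc 2 : Set G)) : (∃ b ∈ J S.XZ 1 8, ∃ t ∈ S.T, g = b * t) ∨
    ∃ b ∈ J S.XZ 1 8, ∃ t ∈ S.T, ∃ x ∈ S.XZ 8, g = b * (t * S.n2) * x := by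
  have Z8 := S.zsys8
  have hz : S.e 2 0 1 ∈ S.Zc 2 := ⟨1, rfl⟩
  have hz1 : S.e 2 0 1 ≠ 1 := fun h => one_ne_zero (S.e_eq_one h).2
  have h1 : g * S.e 2 0 1 * g⁻¹ ∈ S.Zc 2 := (mem_normalizer_iff.1 hg _).1 hz
  obtain ⟨b, hb, t, ht, rfl | ⟨b', hb', rfl⟩⟩ := S.form_of_conj hz hz1 h1
  · exact Or.inl ⟨b, hb, t, ht, rfl⟩
  · right
    obtain ⟨r, hr, x, hx, rfl⟩ := Z8.split_rr (a := 1) (b := 8) (by norm_num) (by norm_num) hb'
    have h2 : t * (S.n2 * r * S.n2⁻¹) * t⁻¹ ∈ J S.XZ 1 7 :=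
      S.T_conj_J ht (S.n2_refl.mem_J hr (by norm_num) (by norm_num))
    exact ⟨b * (t * (S.n2 * r * S.n2⁻¹) * t⁻¹), mul_mem hb (J_mono le_rfl (by norm_num) h2), t, ht, x, hx, by group⟩

/-- the Borel subgroup -/
def UT : Subgroup G where
  carrier := {g | ∃ b ∈ J S.XZ 1 8, ∃ t ∈ S.T, g = b * t}
  one_mem' := ⟨1, one_mem _, 1, one_mem _, (mul_one 1).symm⟩
  mul_mem' := by
    rintro _ _ ⟨b, hb, t, ht, rfl⟩ ⟨b', hb', t', ht', rfl⟩
    exact ⟨b * (t * b' * t⁻¹), mul_mem hb (S.T_conj_J ht hb'), t * t', mul_mem ht ht', by group⟩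
  inv_mem' := by
    rintro _ ⟨b, hb, t, ht, rfl⟩
    have h1 := S.T_conj_J (inv_mem ht) (inv_mem hb)
    exact ⟨_, h1, t⁻¹, inv_mem ht, by group⟩

theorem conj_UT' {g : G} (hg : g ∈ UT S) {x : G} (hx : x ∈ J S.XZ 1 8) : g * x * g⁻¹ ∈ J S.XZ 1 8 := by
  obtain ⟨b, hb, t, ht, rfl⟩ := hg
  have h1 := mul_mem (mul_mem hb (S.T_conj_J ht hx)) (inv_mem hb)
  have e : b * t * x * (b * t)⁻¹ = b * (t * x * t⁻¹) * b⁻¹ := by group
  rwa [e]

theorem UT_le : UT S ≤ normalizer (J S.XZ 1 8 : Set G) := by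
  intro g hg
  rw [mem_normalizer_iff]
  intro x
  refine ⟨fun hx => conj_UT' S hg hx, fun hx => ?_⟩
  have h1 := conj_UT' S (inv_mem hg) hx
  have e : g⁻¹ * (g * x * g⁻¹) * g⁻¹⁻¹ = x := by group
  rwa [e] at h1

/-- `n_2 ∉ N(U)` -/
theorem n2_not_mem : S.n2 ∉ UT S := by
  intro h
  have hx : S.e 4 1 0 ∈ J S.XZ 1 8 := X_le_J (by norm_num) le_rfl (S.mX8 1 0)
  have h1 := conj_UT' S h hx
  rw [S.n2_e, sub_self] at h1
  have h2 : S.e 0 1 0 ∈ S.XZ 0 := (mem_X0 S).2 ⟨1, 0, rfl⟩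
  obtain ⟨r, hr, x, hx8, hrx⟩ := S.zsys8.split_rr (a := 1) (b := 8) (by norm_num) (by norm_num) h1
  have h3 := S.J07_inf_UT h2 h1 (one_mem S.T) (mul_one _).symm
  exact one_ne_zero (S.e_eq_one h3.1).1

theorem card_UT [Finite G] : Nat.card (UT S) = Nat.card (J S.XZ 1 8) * Nat.card S.T := by
  rw [← Nat.card_prod]
  symm
  refine Nat.card_eq_of_bijective
    (fun y : ↥(J S.XZ 1 8) × ↥S.T => (⟨y.1 * y.2, y.1, y.1.2, y.2, y.2.2, rfl⟩ : UT S)) ⟨?_, ?_⟩
  · rintro ⟨⟨b, hb⟩, ⟨t, ht⟩⟩ ⟨⟨b', hb'⟩, ⟨t', ht'⟩⟩ h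
    have h1 : b * t = b' * t' := congrArg Subtype.val h
    have h2 : t * t'⁻¹ = b⁻¹ * b' := by
      rw [eq_inv_mul_iff_mul_eq, ← mul_assoc, h1]; group
    have h3 := S.U_inf_T (mul_mem ht (inv_mem ht')) (by rw [h2]; exact mul_mem (inv_mem hb) hb')
    have h4 : t = t' := mul_inv_eq_one.1 h3
    subst h4
    have h5 : b = b' := mul_right_cancel h1
    subst h5
    rfl
  · rintro ⟨_, b, hb, t, ht, rfl⟩
    exact ⟨(⟨b, hb⟩, ⟨t, ht⟩), rfl⟩

/-- **`|K| = |K ∩ UT| (1 + |X_8|)`** -/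
theorem card_of_le [Finite G] {K : Subgroup G} (hK : K ≤ normalizer (S.Zc 2 : Set G)) (h8 : S.XZ 8 ≤ K)
    (hn : S.n2 ∈ K) : Nat.card K = Nat.card (K ⊓ UT S : Subgroup G) * (Nat.card (S.XZ 8) + 1) := by
  have h8U : S.XZ 8 ≤ J S.XZ 1 8 := X_le_J (by norm_num) le_rfl
  have e1 : Nat.card (Option ↥(S.XZ 8)) = Nat.card (S.XZ 8) + 1 := Finite.card_option
  rw [← e1, ← Nat.card_prod]
  symm
  let f : ↥(K ⊓ UT S : Subgroup G) × Option ↥(S.XZ 8) → K := fun y =>
    match y with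
    | (y, none) => ⟨y, y.2.1⟩
    | (y, some x) => ⟨y * S.n2 * x, mul_mem (mul_mem y.2.1 hn) (h8 x.2)⟩
  have hUTx : ∀ y ∈ UT S, ∀ x ∈ S.XZ 8, y * S.n2 * x ∉ UT S := by
    intro y hy x hx h
    apply n2_not_mem S
    have hxT : x ∈ UT S := ⟨x, h8U hx, 1, one_mem _, (mul_one x).symm⟩
    have := mul_mem (mul_mem (inv_mem hy) h) (inv_mem hxT)
    have e : y⁻¹ * (y * S.n2 * x) * x⁻¹ = S.n2 := by group
    rwa [e] at this
  refine Nat.card_eq_of_bijective f ⟨?_, ?_⟩
  · rintro ⟨⟨y, hy⟩, _ | ⟨x, hx⟩⟩ ⟨⟨y', hy'⟩, _ | ⟨x', hx'⟩⟩ h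
    · have h1 : y = y' := congrArg Subtype.val h
      subst h1
      rfl
    · have h1 : y = y' * S.n2 * x' := congrArg Subtype.val h
      exact (hUTx y' hy'.2 x' hx' (h1 ▸ hy.2)).elim
    · have h1 : y * S.n2 * x = y' := congrArg Subtype.val h
      exact (hUTx y hy.2 x hx (h1 ▸ hy'.2)).elim
    · have h1 : y * S.n2 * x = y' * S.n2 * x' := congrArg Subtype.val h
      obtain ⟨b, hb, t, ht, e⟩ := hy.2
      obtain ⟨b', hb', t', ht', e'⟩ := hy'.2
      have h2 : b * (t * S.n2) * x = b' * (t' * S.n2) * x' := by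
        rw [e, e'] at h1
        calc b * (t * S.n2) * x = b * t * S.n2 * x := by group
          _ = b' * t' * S.n2 * x' := h1
          _ = _ := by group
      obtain ⟨h3, h4, h5⟩ := S.form_unique hb ht hx hb' ht' hx' h2
      have h6 : y = y' := by rw [e, e', h3, h4]
      subst h6
      subst h5
      rfl
  · rintro ⟨g, hg⟩
    rcases form S (hK hg) with ⟨b, hb, t, ht, e⟩ | ⟨b, hb, t, ht, x, hx, e⟩
    · exact ⟨(⟨g, hg, b, hb, t, ht, e⟩, none), rfl⟩
    · have h1 : b * t = g * x⁻¹ * S.n2⁻¹ := by rw [e]; group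
      have h2 : b * t ∈ K := by
        rw [h1]
        exact K.mul_mem (K.mul_mem hg (K.inv_mem (h8 hx))) (K.inv_mem hn)
      refine ⟨(⟨b * t, mem_inf.2 ⟨h2, b, hb, t, ht, rfl⟩⟩, some ⟨x, hx⟩), Subtype.ext ?_⟩
      show b * t * S.n2 * x = g
      rw [e]; group

/-- the elements of `Z_4` commute with `PL`, the torus normalises `Z_4` -/
theorem mem_P {g : G} (h : ∃ b ∈ S.PL, ∃ t ∈ S.T, ∃ b' ∈ S.PL, g = b * t * b') :
    g ∈ normalizer (S.Zc 2 : Set G) := by
  have hPL : S.PL ≤ normalizer (S.Zc 2 : Set G) := by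
    intro x hx
    rw [mem_normalizer_iff]
    intro z
    constructor
    · intro hz
      rw [S.comm_PL hx hz, mul_inv_cancel_right]
      exact hz
    · intro hz
      have h1 := S.comm_PL (inv_mem hx) hz
      have e : z = x⁻¹ * (x * z * x⁻¹) * x := by group
      rw [e, h1, inv_mul_cancel_right]
      exact hz
  have hT : S.T ≤ normalizer (S.Zc 2 : Set G) := by
    intro x hx
    rw [mem_normalizer_iff]
    intro z
    refine ⟨fun hz => S.T_conj_Zc hx hz, fun hz => ?_⟩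
    have h1 := S.T_conj_Zc (inv_mem hx) hz
    have e : x⁻¹ * (x * z * x⁻¹) * x⁻¹⁻¹ = z := by group
    rwa [e] at h1
  obtain ⟨b, hb, t, ht, b', hb', rfl⟩ := h
  exact mul_mem (mul_mem (hPL hb) (hT ht)) (hPL hb')

/-- **the overgroups of `U ∩ N` of order prime to three** -/
theorem le_cases [Finite G] {N M : Subgroup G} (C : Cond S N) (ho0 : S.o 0 1 ∈ N) (ho4 : S.o 4 1 ∈ N)
    (hU : J S.XZ 1 8 ⊓ N ≤ M) (h3 : ¬ 3 ∣ Nat.card M) :
    M ≤ UT S ∨ (M ≤ normalizer (S.Zc 2 : Set G) ∧ S.n2 ∈ M ∧ S.XZ 0 ⊓ N ≤ M) := by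
  have hU1 : S.o 0 1 ∈ M := hU (mem_inf.2 ⟨X_le_J (k := 1) le_rfl (by norm_num) ((mem_X1 S).2 ⟨1, rfl⟩), ho0⟩)
  have h9 : ¬ Pm S N M 9 := by
    intro h9
    exact h3 (three_dvd S hU1 (h9 (mem_inf.2 ⟨(mem_X9 S).2 ⟨1, rfl⟩, ho4⟩)))
  have hNM : ¬ N ≤ M := fun h => h3 (three_dvd S (h ho0) (h ho4))
  have key : ∀ g ∈ M, ∃ b ∈ J S.XZ 1 8, ∃ n, ∃ b' ∈ J S.XZ 1 8, g = b * n * b' ∧ (n ∈ S.T ∨
      (n * S.n2 ∈ S.T ∧ Pm S N M 0)) := by
    intro g hg
    obtain ⟨b, hb, t, ht, w, hw, b', hb', rfl⟩ := S.bruhat g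
    have hg' : b * (t * w) * b' ∈ M := by rwa [← mul_assoc]
    refine ⟨b, hb, t * w, b', hb', by group, ?_⟩
    rcases types C hU hb hb' (torus_mul_maps C ht hw) hg' with h | h | ⟨-, h⟩ | ⟨h, h0⟩
    · exact absurd h hNM
    · left
      rw [S.T_iff]
      exact h
    · exact absurd h h9
    · right
      refine ⟨?_, h0⟩
      rw [S.T_iff]
      exact (h.mul S.n2_maps).congr fun k => by
        show 8 - (8 - k) = k
        exact sub_sub_cancel 8 k
  by_cases h0 : Pm S N M 0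
  · right
    have h0' : S.XZ 0 ⊓ N ≤ M := by
      have e : S.XZ 0 = S.R.X 0 := by rw [xz_eq, Int.cast_zero]
      rw [e]; exact h0
    refine ⟨?_, _root_.Cfsg.Agent.H248.TwF4Over.n2_mem C hU h0, h0'⟩
    intro g hg
    obtain ⟨b, hb, n, b', hb', rfl, hn | ⟨hn, -⟩⟩ := key g hg
    · exact mem_P S ⟨b, J_mono (by norm_num) le_rfl hb, n, hn, b', J_mono (by norm_num) le_rfl hb', rfl⟩
    · refine mem_P S ⟨b, J_mono (by norm_num) le_rfl hb, n * S.n2, hn, S.n2 * b',
        mul_mem S.n2_mem (J_mono (by norm_num) le_rfl hb'), ?_⟩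
      calc b * n * b' = b * (n * (S.n2 * S.n2)) * b' := by rw [S.n2_sq, mul_one]
        _ = _ := by group
  · left
    intro g hg
    obtain ⟨b, hb, n, b', hb', rfl, hn | ⟨-, hn⟩⟩ := key g hg
    · exact mul_mem (mul_mem ⟨b, hb, 1, one_mem _, (mul_one b).symm⟩ ⟨1, one_mem _, n, hn, (one_mul n).symm⟩)
        ⟨b', hb', 1, one_mem _, (mul_one b').symm⟩
    · exact absurd hn h0

end Cfsg.Agent.H565.Br.F4
end

-- part: H565/TwF4Hall
section
/-!
# Hall subgroups of order prime to three of `²F₄(q)` and of the Tits group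

* `hallLe_2F4`, `hallLe_tits` : Hall `π`-subgroups, `3 ∉ π`, containing a Sylow 2-subgroup `S` normalise `S`.
-/

set_option autoImplicit false
set_option linter.unusedSectionVars false

namespace Cfsg.Agent.H565.Br

open Subgroup Cfsg Cfsg.Lie

theorem HallLe.of_equiv {p : ℕ} [Fact p.Prime] {G X : Type*} [Group G] [Finite G] [Group X] [Finite X]
    (h : HallLe p G) (e : G ≃* X) : HallLe p X := by
  obtain ⟨Q⟩ : Nonempty (Sylow p G) := inferInstance
  have hs : Function.Surjective e.toMonoidHom := e.surjective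
  have hQ : ((Q.mapSurjective hs : Sylow p X) : Subgroup X) = (Q : Subgroup G).map e.toMonoidHom := rfl
  refine HallLe.of_one (Q.mapSurjective hs) fun π H hH h3 hQH => ?_
  rw [hQ] at hQH ⊢
  have hcard : Nat.card (H.comap e.toMonoidHom) = Nat.card H := by
    have h1 : (H.comap e.toMonoidHom).map e.toMonoidHom = H := Subgroup.map_comap_eq_self_of_surjective hs H
    conv_rhs => rw [← h1]
    exact (Nat.card_congr ((H.comap e.toMonoidHom).equivMapOfInjective e.toMonoidHom e.injective).toEquiv)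
  have hidx : (H.comap e.toMonoidHom).index = H.index := Subgroup.index_comap_of_surjective H hs
  have hH' : Cfsg.IsPiHall π (H.comap e.toMonoidHom) := by
    refine ⟨fun r hr hrd => hH.1 r hr (by rwa [← hcard]), fun r hr hrπ hrd => hH.2 r hr hrπ (by rwa [← hidx])⟩
  rcases h π Q _ hH' h3 (Subgroup.map_le_iff_le_comap.1 hQH) with h1 | h1
  · left
    rw [eq_top_iff]
    intro x _
    have h2 : e.symm x ∈ H.comap e.toMonoidHom := by rw [h1]; exact mem_top _
    have h4 : e (e.symm x) ∈ H := h2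
    rwa [e.apply_symm_apply] at h4
  · right
    intro x hx
    have h2 : e.symm x ∈ H.comap e.toMonoidHom := by
      show e (e.symm x) ∈ H
      rwa [e.apply_symm_apply]
    have h4 := h1 h2
    rw [mem_normalizer_iff] at h4 ⊢
    have key : ∀ y : X, y ∈ (Q : Subgroup G).map e.toMonoidHom ↔ e.symm y ∈ (Q : Subgroup G) := by
      intro y
      constructor
      · rintro ⟨z, hz, rfl⟩
        show e.symm (e z) ∈ _
        rwa [e.symm_apply_apply]
      · intro hy
        exact ⟨_, hy, e.apply_symm_apply y⟩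
    intro y
    show y ∈ (Q : Subgroup G).map e.toMonoidHom ↔ x * y * x⁻¹ ∈ (Q : Subgroup G).map e.toMonoidHom
    rw [key, key, map_mul, map_mul, map_inv]
    exact h4 _

end Cfsg.Agent.H565.Br

namespace Cfsg.Agent.H565.Br.F4

open Cfsg.Agent.KFacts.TwF4 Cfsg.Agent.KFacts.TwF4.Full Cfsg.Agent.KFacts.TwF4.Arc
open Cfsg.Agent.KFacts.TwF4.Inv Cfsg.Agent.KFacts.TwF4.SylU
open Cfsg.Agent.SplitTwo Cfsg.Agent.SplitTwo.ZS Cfsg.Agent.TitsThree.RankTwoZ
open Cfsg.Agent.SplitTwo.RootSysZ Subgroup Cfsg Cfsg.Lie Cfsg.Agent.H248.Ovg Cfsg.Agent.H248.TwF4Over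

universe u

variable {F : Type*} [Field F] {σ : F →+* F} {G : Type u} [Group G] (S : Full σ G)

theorem card_X8 : Nat.card (S.XZ 8) = Nat.card F ^ 2 := by
  rw [pow_two, ← Nat.card_prod]
  refine (Nat.card_congr (Equiv.ofBijective (fun t : F × F => (⟨S.e 4 t.1 t.2, S.mX8 t.1 t.2⟩ : ↥(S.XZ 8)))
    ⟨?_, ?_⟩)).symm
  · rintro ⟨p, u⟩ ⟨q, v⟩ h
    obtain ⟨rfl, rfl⟩ := S.injE _ _ _ _ _ (congrArg Subtype.val h)
    rfl
  · rintro ⟨g, hg⟩
    obtain ⟨p, u, rfl⟩ := (mem_X8 S).1 hg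
    exact ⟨(p, u), rfl⟩

theorem card_T : Nat.card S.T = Nat.card Fˣ ^ 2 := by
  rw [pow_two, ← Nat.card_prod]
  refine (Nat.card_congr (Equiv.ofBijective (fun t : Fˣ × Fˣ => (⟨S.h t.1 t.2, S.mem_T.2 ⟨_, _, rfl⟩⟩ : ↥(S.T)))
    ⟨?_, ?_⟩)).symm
  · rintro ⟨p, u⟩ ⟨q, v⟩ h
    obtain ⟨rfl, rfl⟩ := S.h_inj _ _ _ _ (congrArg Subtype.val h)
    rfl
  · rintro ⟨g, hg⟩
    obtain ⟨p, u, rfl⟩ := S.mem_T.1 hg
    exact ⟨(p, u), rfl⟩

/-- the whole parabolic subgroup -/
theorem card_P [Finite G] : Nat.card ↥(normalizer (S.Zc 2 : Set G)) = Nat.card (UT S) * (Nat.card F ^ 2 + 1) := by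
  have hPL : S.PL ≤ normalizer (S.Zc 2 : Set G) := fun x hx =>
    mem_P S ⟨x, hx, 1, one_mem _, 1, one_mem _, by rw [mul_one, mul_one]⟩
  have hT : S.T ≤ normalizer (S.Zc 2 : Set G) := fun x hx =>
    mem_P S ⟨1, one_mem _, x, hx, 1, one_mem _, by rw [one_mul, mul_one]⟩
  have hUT : UT S ≤ normalizer (S.Zc 2 : Set G) := by
    rintro _ ⟨b, hb, t, ht, rfl⟩
    exact mul_mem (hPL (J_mono (by norm_num) le_rfl hb)) (hT ht)
  rw [card_of_le S le_rfl ((X_le_J (by norm_num) le_rfl : S.XZ 8 ≤ S.PL).trans hPL) (hPL S.n2_mem),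
    inf_eq_right.2 hUT, card_X8]

theorem five_dvd (m : ℕ) : 5 ∣ (2 ^ (2 * m + 1)) ^ 2 + 1 := by
  have h : (2 ^ (2 * m + 1)) ^ 2 + 1 ≡ 0 [MOD 5] := by
    have h1 : (2 ^ (2 * m + 1)) ^ 2 = 16 ^ m * 4 := by
      rw [← pow_mul, show (16 : ℕ) = 2 ^ 4 by norm_num, ← pow_mul, show (4 : ℕ) = 2 ^ 2 by norm_num, ← pow_add]
      congr 1
      ring
    rw [h1]
    calc 16 ^ m * 4 + 1 ≡ 1 ^ m * 4 + 1 [MOD 5] :=
          Nat.ModEq.add_right _ (Nat.ModEq.mul_right _ (Nat.ModEq.pow m (by decide)))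
      _ ≡ 0 [MOD 5] := by rw [one_pow]; decide
  exact (Nat.modEq_zero_iff_dvd).1 h

theorem five_not_dvd (m : ℕ) : ¬ 5 ∣ 2 ^ (2 * m + 1) - 1 := by
  intro h
  have h1 : 5 ∣ (2 ^ (2 * m + 1)) ^ 2 - 1 := by
    have e : (2 ^ (2 * m + 1)) ^ 2 - 1 = (2 ^ (2 * m + 1) + 1) * (2 ^ (2 * m + 1) - 1) := by
      rw [← Nat.sq_sub_sq, one_pow]
    rw [e]
    exact h.mul_left _
  have h2 := five_dvd m
  have h3 : 0 < (2 ^ (2 * m + 1)) ^ 2 := by positivity
  have h4 := Nat.dvd_sub h2 h1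
  have h5 : (2 ^ (2 * m + 1)) ^ 2 + 1 - ((2 ^ (2 * m + 1)) ^ 2 - 1) = 2 := by (clear * - h4; omega)
  rw [h5] at h4
  exact absurd h4 (by norm_num)

/-- `(q²+1)²` divides the order of `²F₄(q)` -/
theorem sq_dvd (q : ℕ) (hq : 1 ≤ q) : (q ^ 2 + 1) ^ 2 ∣ q ^ 12 * (q - 1) * (q ^ 3 + 1) * (q ^ 4 - 1) * (q ^ 6 + 1) := by
  obtain ⟨k, rfl⟩ : ∃ k, q = k + 1 := ⟨q - 1, by omega⟩
  have h4 : (k + 1) ^ 4 - 1 = ((k + 1) ^ 2 + 1) * ((k + 1) ^ 2 - 1) := by
    rw [show (k + 1) ^ 4 = ((k + 1) ^ 2) ^ 2 by ring]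
    rw [show ((k + 1) ^ 2) ^ 2 - 1 = ((k + 1) ^ 2) ^ 2 - 1 ^ 2 by norm_num only [], Nat.sq_sub_sq]
  have h6 : ((k + 1) ^ 2 + 1) ∣ (k + 1) ^ 6 + 1 := by
    have h7 : (k + 1) ^ 6 + 1 = ((k + 1) ^ 2 + 1) * ((k + 1) ^ 4 + 1 - (k + 1) ^ 2) := by
      have h8 : (k + 1) ^ 2 ≤ (k + 1) ^ 4 + 1 := (Nat.pow_le_pow_right (by omega) (by norm_num)).trans (Nat.le_succ _)
      zify [h8]
      ring
    rw [h7]
    exact Dvd.intro _ rfl
  rw [pow_two]
  refine Nat.mul_dvd_mul ?_ h6
  rw [h4]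
  exact (Dvd.intro _ rfl : _ ∣ _).mul_left _

/-- **the Borel subgroup contains the Hall overgroups of `U` of order prime to three** -/
theorem le_UT [Finite F] [Finite G] (hR : S.R.p = 2) {m : ℕ} (hF : Nat.card F = 2 ^ (2 * m + 1))
    (hG : Nat.card G = (2 ^ (2 * m + 1)) ^ 12 * (2 ^ (2 * m + 1) - 1) * ((2 ^ (2 * m + 1)) ^ 3 + 1) *
      ((2 ^ (2 * m + 1)) ^ 4 - 1) * ((2 ^ (2 * m + 1)) ^ 6 + 1)) {H : Subgroup G} (hU : J S.XZ 1 8 ≤ H)
    (h3 : ¬ 3 ∣ Nat.card H) (h5 : 5 ∣ Nat.card H → ¬ 5 ∣ H.index) : H ≤ UT S := by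
  have : Fact (Nat.Prime 2) := ⟨Nat.prime_two⟩
  rcases le_cases S (cond_top S) (mem_top _) (mem_top _) (by rwa [inf_top_eq]) h3 with h | ⟨hP, hn, -⟩
  · exact h
  exfalso
  have h8 : S.XZ 8 ≤ H := (X_le_J (by norm_num) le_rfl).trans hU
  have hc := card_of_le S hP h8 hn
  rw [card_X8, hF] at hc
  have h51 : 5 ∣ Nat.card H := by
    rw [hc]
    exact (five_dvd m).mul_left _
  apply h5 h51
  have hPc := card_P S
  rw [hF, card_UT, card_T] at hPc
  have hFu : Nat.card Fˣ = 2 ^ (2 * m + 1) - 1 := by rw [Nat.card_units, hF]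
  rw [hFu] at hPc
  have hU2 : IsPGroup 2 (J S.XZ 1 8) := isPGroup_J S.zsys8 (two_X S hR) 8 1 8 (by norm_num) (by norm_num)
  obtain ⟨k, hk⟩ := hU2.exists_card_eq
  rw [hk] at hPc
  have h6 : 5 ∣ (normalizer (S.Zc 2 : Set G)).index := by
    have h7 := Subgroup.card_mul_index (normalizer (S.Zc 2 : Set G))
    rw [hPc, hG] at h7
    have h9 := sq_dvd (2 ^ (2 * m + 1)) Nat.one_le_two_pow
    rw [← h7] at h9
    set Q := (2 ^ (2 * m + 1)) ^ 2 + 1 with hQ
    have hQ0 : 0 < Q := Nat.succ_pos _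
    have h10 : Q ∣ 2 ^ k * (2 ^ (2 * m + 1) - 1) ^ 2 * (normalizer (S.Zc 2 : Set G)).index := by
      have e : 2 ^ k * (2 ^ (2 * m + 1) - 1) ^ 2 * Q * (normalizer (S.Zc 2 : Set G)).index =
          Q * (2 ^ k * (2 ^ (2 * m + 1) - 1) ^ 2 * (normalizer (S.Zc 2 : Set G)).index) := by ring
      rw [e, pow_two] at h9
      exact Nat.dvd_of_mul_dvd_mul_left hQ0 h9
    have h11 := (five_dvd m).trans h10
    rcases (Nat.Prime.dvd_mul Nat.prime_five).1 h11 with h12 | h12
    · rcases (Nat.Prime.dvd_mul Nat.prime_five).1 h12 with h13 | h13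
      · exact absurd (Nat.Prime.dvd_of_dvd_pow Nat.prime_five h13) (by norm_num)
      · exact absurd (Nat.Prime.dvd_of_dvd_pow Nat.prime_five h13) (five_not_dvd m)
    · exact h12
  rw [← Subgroup.relIndex_mul_index hP]
  exact h6.mul_left _

theorem hallLe_2F4 {X : Type*} [Group X] [Finite X] (h : Iso2F4 X) : HallLe 2 X := by
  obtain ⟨K, _, _, m, hm, hK, ⟨e⟩⟩ := h
  obtain ⟨φ, hφ⟩ := Cfsg.Agent.ChevalleyStructure.TwF4.TwistedFix.exists_rln hK
  have := Cfsg.Agent.ChevalleyStructure.TwF4.Twisted.charP_two hK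
  have hfin : Finite ↥(twistedF4 K (2 ^ m)) := inferInstance
  have hfact : Fact (Nat.Prime 2) := ⟨Nat.prime_two⟩
  have hF : ∃ c : Kˣ, c ≠ 1 := by
    have h1 : 1 < Nat.card Kˣ := by
      rw [Nat.card_units, Nat.card_eq_fintype_card, hK]
      have : 2 ^ 3 ≤ 2 ^ (2 * m + 1) := Nat.pow_le_pow_right (by norm_num) (by omega)
      omega
    have h2 : Nontrivial Kˣ := Finite.one_lt_card_iff_nontrivial.1 h1
    exact exists_ne 1
  obtain ⟨S, hS⟩ : ∃ S : Full φ ↥(twistedF4 K (2 ^ m)), S.R.p = 2 :=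
    ⟨Cfsg.Agent.KFacts.TwF4.Inst.full hK hφ, rfl⟩
  refine HallLe.of_equiv ?_ e.symm
  obtain ⟨P, hP⟩ := exists_sylow S hF hS
  refine HallLe.of_one P fun π H hH h3 hPH => Or.inr ?_
  rw [hP] at hPH ⊢
  exact (le_UT S hS (by rw [Nat.card_eq_fintype_card, hK]) (Cfsg.Agent.S1068.result hK) hPH
    (not_three_dvd hH h3) fun h5 => hH.2 5 Nat.prime_five (hH.1 5 Nat.prime_five h5)).trans (UT_le S)

/-! ### the Tits group -/

theorem two_units [Finite F] {N : Subgroup G} (T : Two F N) : Nat.card Fˣ = 1 := by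
  have : Subsingleton Fˣ := ⟨fun a b => by
    apply Units.ext
    rcases T.two (a : F) with h | h
    · exact absurd h a.ne_zero
    rcases T.two (b : F) with h' | h'
    · exact absurd h' b.ne_zero
    rw [h, h']⟩
  exact Nat.card_unique

/-- **the Tits group** -/
theorem tits_le [Finite F] [Finite G] (hR : S.R.p = 2) {N : Subgroup G} (T : Two F N) (hidx : N.index = 2)
    {m : ℕ} (hm : Odd m) (hcard : Nat.card N = 2 ^ 11 * m) (h25 : 25 ∣ m) {M : Subgroup N}
    (hU : (J S.XZ 1 8).subgroupOf N ≤ M) (h3 : ¬ 3 ∣ Nat.card M) (h5 : 5 ∣ Nat.card M → ¬ 5 ∣ M.index) :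
    M ≤ (J S.XZ 1 8).subgroupOf N := by
  have hfact : Fact (Nat.Prime 2) := ⟨Nat.prime_two⟩
  have hU2 : IsPGroup 2 (J S.XZ 1 8) := isPGroup_J S.zsys8 (two_X S hR) 8 1 8 (by norm_num) (by norm_num)
  have hT1 : Nat.card S.T = 1 := by rw [card_T, two_units T, one_pow]
  have hUT : ∀ g ∈ UT S, g ∈ J S.XZ 1 8 := by
    rintro _ ⟨b, hb, t, ht, rfl⟩
    have h1 : t = 1 := by
      have h2 : Subsingleton S.T := (Nat.card_eq_one_iff_unique.1 hT1).1
      exact congrArg Subtype.val (h2.elim (⟨t, ht⟩ : S.T) 1)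
    rw [h1, mul_one]
    exact hb
  have hcM : Nat.card (M.map N.subtype) = Nat.card M := Subgroup.card_subtype N M
  have hU' : J S.XZ 1 8 ⊓ N ≤ M.map N.subtype := by
    intro x hx
    exact ⟨⟨x, hx.2⟩, hU hx.1, rfl⟩
  rcases le_cases S (two_cond S T) (two_o_mem S T 0 1) (two_o_mem S T 4 1) hU' (by rwa [hcM]) with h | ⟨hP, hn, -⟩
  · intro x hx
    exact hUT _ (h ⟨x, hx, rfl⟩)
  exfalso
  -- the order of `M` divides `2 ^ 12 * 5`
  have hd : Nat.card M ∣ 2 ^ 12 * 5 := by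
    rw [← hcM]
    refine (Subgroup.card_dvd_of_le hP).trans ?_
    rw [card_P S, card_UT, hT1, two_card_U S T, two_card_F S T]
    norm_num
  by_cases h51 : 5 ∣ Nat.card M
  · -- `25` does not divide the order of `M`
    have h6 : 5 ∣ M.index := by
      by_contra h7
      have h8 : 25 ∣ Nat.card M * M.index := by
        rw [Subgroup.card_mul_index, hcard]
        exact h25.mul_left _
      have h9 : Nat.Coprime 25 M.index := by
        have : Nat.Coprime (5 ^ 2) M.index := Nat.Coprime.pow_left 2 ((Nat.Prime.coprime_iff_not_dvd Nat.prime_five).2 h7)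
        exact this
      have h10 := (h9.dvd_of_dvd_mul_right h8).trans hd
      exact absurd h10 (by norm_num)
    exact h5 h51 h6
  · have h6 : Nat.card M ∣ 2 ^ 12 := by
      have h7 : Nat.Coprime (Nat.card M) 5 := ((Nat.Prime.coprime_iff_not_dvd Nat.prime_five).2 h51).symm
      exact h7.dvd_of_dvd_mul_right hd
    obtain ⟨k, -, hk⟩ := (Nat.dvd_prime_pow Nat.prime_two).1 h6
    have h7 : IsPGroup 2 M := IsPGroup.of_card hk
    have hUp : IsPGroup 2 ((J S.XZ 1 8).subgroupOf N) := hU2.comap_of_injective N.subtype N.subtype_injective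
    have h8 := (hUp.toSylow (two_index S T hidx hm hcard)).is_maximal' h7 hU
    obtain ⟨y, hy, e⟩ := hn
    rw [h8] at hy
    have h9 : S.n2 ∈ J S.XZ 1 8 := by
      have : (y : G) ∈ J S.XZ 1 8 := hy
      rwa [show (y : G) = S.n2 from e] at this
    exact n2_not_mem S ⟨S.n2, h9, 1, one_mem _, (mul_one _).symm⟩

theorem hallLe_tits {X : Type*} [Group X] [Finite X] (h : IsoTits X) : HallLe 2 X := by
  obtain ⟨e⟩ := h
  have hfact : Fact (Nat.Prime 2) := ⟨Nat.prime_two⟩
  obtain ⟨hidx, hs, hna, hcard⟩ := Cfsg.Agent.S1074.result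
  have hK : Fintype.card (ZMod 2) = 2 ^ (2 * 0 + 1) := by rw [ZMod.card]; rfl
  obtain ⟨φ, hφ⟩ := Cfsg.Agent.ChevalleyStructure.TwF4.TwistedFix.exists_rln hK
  obtain ⟨S, hS⟩ : ∃ S : Full φ ↥(twistedF4 (ZMod 2) 1), S.R.p = 2 := by
    have h0 : ∃ S : Full φ ↥(twistedF4 (ZMod 2) (2 ^ 0)), S.R.p = 2 :=
      ⟨Cfsg.Agent.KFacts.TwF4.Inst.full hK hφ, rfl⟩
    rw [pow_zero] at h0
    exact h0
  have T : Two (ZMod 2) (_root_.commutator ↥(twistedF4 (ZMod 2) 1)) := by
    refine ⟨?_, le_rfl, ?_⟩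
    · intro x
      fin_cases x
      · exact Or.inl rfl
      · exact Or.inr rfl
    · intro h1
      rw [h1, Subgroup.index_top] at hidx
      norm_num at hidx
  have hfin : Finite ↥(twistedF4 (ZMod 2) 1) := inferInstance
  obtain ⟨m, hm⟩ : ∃ m : ℕ, m = 3 ^ 3 * 5 ^ 2 * 13 := ⟨_, rfl⟩
  have hodd : Odd m := ⟨4387, by rw [hm]; norm_num⟩
  have hc2 : Nat.card TitsGroup = 2 ^ 11 * m := by rw [hcard, hm, mul_assoc, mul_assoc, mul_assoc]
  have h25 : 25 ∣ m := ⟨3 ^ 3 * 13, by rw [hm]; norm_num⟩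
  have hfin2 : Finite TitsGroup := Finite.of_equiv _ e.toEquiv
  refine @HallLe.of_equiv 2 hfact TitsGroup X _ hfin2 _ _ ?_ e.symm
  have hU2 : IsPGroup 2 (J S.XZ 1 8) := isPGroup_J S.zsys8 (two_X S hS) 8 1 8 (by norm_num) (by norm_num)
  have hUp : IsPGroup 2 ((J S.XZ 1 8).subgroupOf (_root_.commutator ↥(twistedF4 (ZMod 2) 1))) :=
    hU2.comap_of_injective _ (Subgroup.subtype_injective _)
  refine HallLe.of_one (hUp.toSylow (two_index S T hidx hodd hc2)) fun π H hH h3 hPH => Or.inr ?_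
  exact (tits_le S hS T hidx hodd hc2 h25 hPH (not_three_dvd hH h3)
    fun h5 => hH.2 5 Nat.prime_five (hH.1 5 Nat.prime_five h5)).trans le_normalizer

end Cfsg.Agent.H565.Br.F4
end

-- part: H565/ConjThree
section
/-!
# Hall subgroups of order prime to three in the groups of Lie type in characteristic `p ∈ π`

* `hallLe_of_lie` : all groups of Lie type in characteristic `p ≠ 3`: a Hall `π`-subgroup, `3 ∉ π`, containing a Sylow
  `p`-subgroup `S`, is `G` or normalises `S`;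
* `conj_of_lie_three` : `p ∈ π`, `3 ∉ π`: the Hall `π`-subgroups are conjugate; `conj_of_tits_three` : the Tits group.
-/

set_option autoImplicit false

namespace Cfsg.Agent.H565.Br

open Subgroup Cfsg Cfsg.Lie Cfsg.Agent.H565.OddBorel
open scoped Pointwise

theorem hallLe_of_lie {p : ℕ} [Fact p.Prime] (hp3 : p ≠ 3) {G : Type*} [Group G] [Finite G]
    (hG : IsLieTypeChar p G) : HallLe p G := by
  rcases hasBr_of_lie hG with h | ⟨rfl, h⟩ | ⟨rfl, h⟩ | ⟨h, -⟩
  · exact (threeLe_of_hasBr h).hallLe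
  · exact (threeLe_of_ti (H794.TwoClosed.ti_suzuki h) (H567.DichLie.dich_of_lie hG)).hallLe
  · exact F4.hallLe_2F4 h
  · exact absurd h hp3

end Cfsg.Agent.H565.Br
end

-- part: H565/GoodMem
section
/-!
# The rows `p ∈ π`, `3 ∉ π` of S4312

`good_of_lie_mem` : groups of Lie type in characteristic `p ∈ π`; `good_of_tits` : the Tits group, `2 ∈ π`.
-/

set_option autoImplicit false

namespace Cfsg.Agent.H565.Br

open Subgroup Cfsg Cfsg.Lie Cfsg.Agent.H565.OddBorel Cfsg.Agent.H553.ExtRed Cfsg.Agent.H988.CPi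
open scoped Pointwise

theorem good_of_hallLe {p : ℕ} [hp : Fact p.Prime] {S : Type*} [Group S] [Finite S] [IsSimpleGroup S]
    (hna : ¬ IsMulCommutative S) (hd : p ∣ Nat.card S) (h : HallLe p S) {π : Set ℕ} (h3 : 3 ∉ π) (hpπ : p ∈ π)
    (hE : IsEPiGroup π S) : PiN π (Nat.card S) ∨ Good π S := by
  obtain ⟨H, hH⟩ := hE
  obtain ⟨R⟩ : Nonempty (Sylow p S) := inferInstance
  obtain ⟨a, ha⟩ := exists_conj_le hpπ hH R
  have hH' := H164.hall_map_conj hH a
  rcases h π R _ hH' h3 ha with h1 | h1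
  · left
    intro r hr hrd
    refine hH'.1 r hr ?_
    rw [h1, card_top]
    exact hrd
  · right
    exact good_of_sylow hna R hd _ hH' h1

/-- **S4312, groups of Lie type in characteristic `p ∈ π`** -/
theorem good_of_lie_mem {p : ℕ} (hp : p.Prime) {S : Type*} [Group S] [Finite S] [IsSimpleGroup S]
    (hna : ¬ IsMulCommutative S) (hG : IsLieTypeChar p S) {π : Set ℕ} (h3 : 3 ∉ π) (hpπ : p ∈ π)
    (hE : IsEPiGroup π S) : PiN π (Nat.card S) ∨ Good π S := by
  have : Fact p.Prime := ⟨hp⟩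
  have hp3 : p ≠ 3 := by
    rintro rfl
    exact h3 hpπ
  obtain ⟨P, U, ⟨s, hs⟩, hU⟩ := H979.LieSplit.hasSplit_of_isLieTypeChar hp hG
  exact good_of_hallLe hna (H580.LieBad.dvd_card hU hs) (hallLe_of_lie hp3 hG) h3 hpπ hE

/-- **S4312, the Tits group, `2 ∈ π`** -/
theorem good_of_tits {S : Type*} [Group S] [Finite S] [IsSimpleGroup S]
    (hna : ¬ IsMulCommutative S) (hG : IsoTits S) {π : Set ℕ} (h3 : 3 ∉ π) (h2π : 2 ∈ π)
    (hE : IsEPiGroup π S) : PiN π (Nat.card S) ∨ Good π S := by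
  have : Fact (Nat.Prime 2) := ⟨Nat.prime_two⟩
  refine good_of_hallLe hna ?_ (F4.hallLe_tits hG) h3 h2π hE
  obtain ⟨e⟩ := hG
  rw [Nat.card_congr e.toEquiv, Cfsg.Agent.S1074.result.2.2.2]
  norm_num

end Cfsg.Agent.H565.Br
end

-- part: H553/GoodAsm
section
/-!
# The assembly of S4312, `2 ∈ π`, `3 ∉ π` (helper553)
-/

set_option autoImplicit false

open Cfsg Subgroup
open Cfsg.Agent.H988.CPi Cfsg.Agent.H553.OddHall

namespace Cfsg.Agent.H553.ExtRed

universe u

/-- the conclusion of the rows -/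
def Rw (π : Set ℕ) (S : Type u) [Group S] : Prop := PiN π (Nat.card S) ∨ Good π S

/-- the rows in odd characteristic `p ∉ π` -/
structure LieRows (π : Set ℕ) (S : Type u) [Group S] : Prop where
  psl : ∀ p : ℕ, p.Prime → p ∉ π → IsPSLChar p S → Rw π S
  psp : ∀ p : ℕ, p.Prime → p ∉ π → IsPSpChar p S → Rw π S
  psu : ∀ p : ℕ, p.Prime → p ∉ π → IsPSUChar p S → Rw π S
  oOdd : ∀ p : ℕ, p.Prime → p ∉ π → IsPOmegaOddChar p S → Rw π S
  oPlus : ∀ p : ℕ, p.Prime → p ∉ π → IsPOmegaPlusChar p S → Rw π S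
  oMinus : ∀ p : ℕ, p.Prime → p ∉ π → IsPOmegaMinusChar p S → Rw π S
  f4 : ∀ p : ℕ, p.Prime → p ∉ π → ∀ (F : Type) [Field F] [Fintype F] [CharP F p],
    Nonempty (S ≃* Lie.chevF4.group F) → Rw π S
  e6 : ∀ p : ℕ, p.Prime → p ∉ π → ∀ (F : Type) [Field F] [Fintype F] [CharP F p],
    Nonempty (S ≃* Lie.chevE6.group F) → Rw π S
  e7 : ∀ p : ℕ, p.Prime → p ∉ π → ∀ (F : Type) [Field F] [Fintype F] [CharP F p],
    Nonempty (S ≃* Lie.chevE7.group F) → Rw π S
  e8 : ∀ p : ℕ, p.Prime → p ∉ π → ∀ (F : Type) [Field F] [Fintype F] [CharP F p],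
    Nonempty (S ≃* Lie.chevE8.group F) → Rw π S
  tw : ∀ p : ℕ, p.Prime → p ∉ π → ∀ (F : Type) [Field F] [Fintype F] [CharP F p] (q : ℕ), IsPrimePow q →
    Fintype.card F = q ^ 2 → Nonempty (S ≃* Lie.twistedE6 F q) → Rw π S

variable {π : Set ℕ} {S : Type u} [Group S] [Finite S] [IsSimpleGroup S]

theorem good_known (hna : ¬ IsMulCommutative S) (hodd : OddC S) (hE : IsEPiGroup π S) (h2 : 2 ∈ π) (h3 : 3 ∉ π)
    (hspor : IsSporadicGroup S → Rw π S) (R : LieRows π S) (hS : IsKnownSimple' S) :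
    PiN π (Nat.card S) ∨ Good π S := by
  have mem : ∀ p : ℕ, p.Prime → IsLieTypeChar p S → p ∈ π → Rw π S := fun p hp hG hpπ =>
    H565.Br.good_of_lie_mem hp hna hG h3 hpπ hE
  have cases : ∀ p : ℕ, p.Prime → IsLieTypeChar p S → (p ∉ π → Rw π S) → Rw π S := by
    intro p hp hG h
    by_cases hpπ : p ∈ π
    · exact mem p hp hG hpπ
    · exact h hpπ
  rcases hS with h | h | h | h | h | h | h | h | h | h
  · exfalso
    have : Fact (Nat.card S).Prime := ⟨h⟩
    have : IsCyclic S := isCyclic_of_prime_card (p := Nat.card S) rfl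
    exact hna inferInstance
  · exact Or.inr (good_alternating hna h h2 h3 hE)
  · obtain ⟨F, iF, iFt, n, h1⟩ := h
    obtain ⟨p, hp⟩ := CharP.exists F
    have hc : IsPSLChar p S := ⟨F, iF, iFt, hp, n, h1⟩
    have hpp : p.Prime := CharP.char_is_prime F p
    exact cases p hpp (Or.inl hc) fun h => R.psl p hpp h hc
  · obtain ⟨F, iF, iFt, n, h1⟩ := h
    obtain ⟨p, hp⟩ := CharP.exists F
    have hc : IsPSpChar p S := ⟨F, iF, iFt, hp, n, h1⟩
    have hpp : p.Prime := CharP.char_is_prime F p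
    exact cases p hpp (Or.inr <| Or.inl hc) fun h => R.psp p hpp h hc
  · obtain ⟨F, iF, iFt, n, h1⟩ := h
    obtain ⟨p, hp⟩ := CharP.exists F
    have hc : IsPSUChar p S := ⟨F, iF, iFt, hp, n, h1⟩
    have hpp : p.Prime := CharP.char_is_prime F p
    exact cases p hpp (Or.inr <| Or.inr <| Or.inl hc) fun h => R.psu p hpp h hc
  · obtain ⟨F, iF, iFt, n, h1⟩ := h
    obtain ⟨p, hp⟩ := CharP.exists F
    have hc : IsPOmegaOddChar p S := ⟨F, iF, iFt, hp, n, h1⟩
    have hpp : p.Prime := CharP.char_is_prime F p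
    exact cases p hpp (Or.inr <| Or.inr <| Or.inr <| Or.inl hc) fun h => R.oOdd p hpp h hc
  · obtain ⟨F, iF, iFt, n, h1⟩ := h
    obtain ⟨p, hp⟩ := CharP.exists F
    have hc : IsPOmegaPlusChar p S := ⟨F, iF, iFt, hp, n, h1⟩
    have hpp : p.Prime := CharP.char_is_prime F p
    exact cases p hpp (Or.inr <| Or.inr <| Or.inr <| Or.inr <| Or.inl hc) fun h => R.oPlus p hpp h hc
  · obtain ⟨F, iF, iFt, n, h1⟩ := h
    obtain ⟨p, hp⟩ := CharP.exists F
    have hc : IsPOmegaMinusChar p S := ⟨F, iF, iFt, hp, n, h1⟩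
    have hpp : p.Prime := CharP.char_is_prime F p
    exact cases p hpp (Or.inr <| Or.inr <| Or.inr <| Or.inr <| Or.inr <| Or.inl hc) fun h => R.oMinus p hpp h hc
  · rcases h with h | h | h | h | h | h | h | h | h | h | h
    · obtain ⟨F, iF, iFt, h3F, he⟩ := h
      obtain ⟨p, hp⟩ := CharP.exists F
      have hpp : p.Prime := CharP.char_is_prime F p
      exact cases p hpp (Or.inr <| Or.inr <| Or.inr <| Or.inr <| Or.inr <| Or.inr <| Or.inl
        ⟨F, iF, iFt, hp, Or.inl ⟨h3F, he⟩⟩) fun h =>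
        H556.GTwoNil.row_g2 hna h2 h3 hodd hE p hpp h F h3F he
    · obtain ⟨F, iF, iFt, he⟩ := h
      obtain ⟨p, hp⟩ := CharP.exists F
      have hpp : p.Prime := CharP.char_is_prime F p
      exact cases p hpp (Or.inr <| Or.inr <| Or.inr <| Or.inr <| Or.inr <| Or.inr <| Or.inl
        ⟨F, iF, iFt, hp, Or.inr <| Or.inl he⟩) fun h => R.f4 p hpp h F he
    · obtain ⟨F, iF, iFt, he⟩ := h
      obtain ⟨p, hp⟩ := CharP.exists F
      have hpp : p.Prime := CharP.char_is_prime F p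
      exact cases p hpp (Or.inr <| Or.inr <| Or.inr <| Or.inr <| Or.inr <| Or.inr <| Or.inl
        ⟨F, iF, iFt, hp, Or.inr <| Or.inr <| Or.inl he⟩) fun h => R.e6 p hpp h F he
    · obtain ⟨F, iF, iFt, he⟩ := h
      obtain ⟨p, hp⟩ := CharP.exists F
      have hpp : p.Prime := CharP.char_is_prime F p
      exact cases p hpp (Or.inr <| Or.inr <| Or.inr <| Or.inr <| Or.inr <| Or.inr <| Or.inl
        ⟨F, iF, iFt, hp, Or.inr <| Or.inr <| Or.inr <| Or.inl he⟩) fun h => R.e7 p hpp h F he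
    · obtain ⟨F, iF, iFt, he⟩ := h
      obtain ⟨p, hp⟩ := CharP.exists F
      have hpp : p.Prime := CharP.char_is_prime F p
      exact cases p hpp (Or.inr <| Or.inr <| Or.inr <| Or.inr <| Or.inr <| Or.inr <| Or.inl
        ⟨F, iF, iFt, hp, Or.inr <| Or.inr <| Or.inr <| Or.inr he⟩) fun h => R.e8 p hpp h F he
    · obtain ⟨F, iF, iFt, q, hq, hF, he⟩ := h
      obtain ⟨p, hp⟩ := CharP.exists F
      have hpp : p.Prime := CharP.char_is_prime F p
      exact cases p hpp (Or.inr <| Or.inr <| Or.inr <| Or.inr <| Or.inr <| Or.inr <| Or.inr <| Or.inl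
        ⟨F, iF, iFt, hp, q, hq, Or.inl ⟨hF, he⟩⟩) fun h => R.tw p hpp h F q hq hF he
    · obtain ⟨F, iF, iFt, q, hq, hF, he⟩ := h
      obtain ⟨p, hp⟩ := CharP.exists F
      have hpp : p.Prime := CharP.char_is_prime F p
      exact cases p hpp (Or.inr <| Or.inr <| Or.inr <| Or.inr <| Or.inr <| Or.inr <| Or.inr <| Or.inl
        ⟨F, iF, iFt, hp, q, hq, Or.inr ⟨hF, he⟩⟩) fun h =>
        H556.GTwoNil.row_d4 hna h2 h3 hodd hE p hpp h F q hq hF he
    · exact mem 2 Nat.prime_two (Or.inr <| Or.inr <| Or.inr <| Or.inr <| Or.inr <| Or.inr <| Or.inr <| Or.inr <|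
        Or.inl ⟨rfl, h⟩) h2
    · exact H14.RowReeJOne.good_ree h hna h2 h3 hodd hE
    · exact mem 2 Nat.prime_two (Or.inr <| Or.inr <| Or.inr <| Or.inr <| Or.inr <| Or.inr <| Or.inr <| Or.inr <|
        Or.inr <| Or.inl ⟨rfl, h⟩) h2
    · exact H565.Br.good_of_tits hna h h3 h2 hE
  · exact hspor h

end Cfsg.Agent.H553.ExtRed
end
end

-- part: H554/BS/Sigma
section
prune_inst 0x1000082202000000050640000440020000900008840084010340068004000500002000000113580800040030004811080080000000000400000001180080000004020101a008c0000e000000400000000000020000000000000000000004000000000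
set_option linter.all false
open scoped Cfsg.Agent.FastGrp

-- part: H554/BS/Abs
section
/-!
# The abstract end game for the exceptional groups (helper554, S4312)

`Reg Ω T` : `Ω` is a regular subgroup of the "torus" `T`.
`good` : a Hall `π`-subgroup `H` of `G` with a normal abelian subgroup `N ≤ T` of odd order such that
`C_H(O₂(H) N) ≤ O₂(H) N`; if `N ≠ 1` the centraliser of `N` contains an `r`-group `R₀`, `r ∣ |N|`, regular in a conjugate
of `T`.
-/

set_option autoImplicit false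

namespace Cfsg.Agent.H554.BS

open Subgroup Cfsg Cfsg.Agent.H553.ExtRed Cfsg.Agent.H988.CPi
open scoped Pointwise commutatorElement

universe u v

variable {Γ : Type v} [Group Γ]

/-- `Ω` is a regular subgroup of the torus `T` -/
structure Reg (Ω T : Subgroup Γ) : Prop where
  cent : ∀ x, (∀ t ∈ Ω, x * t = t * x) → x ∈ T
  quad : ∀ b, (∀ t ∈ T, b * t * b⁻¹ ∈ T) → (∀ t ∈ Ω, ⁅⁅t, b⁆, b⁆ = 1) → b ∈ T
  two : ∀ P : Subgroup Γ, Finite P → IsPGroup 2 P → (∀ t ∈ Ω, ∀ x ∈ P, t * x * t⁻¹ ∈ P) →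
    ∀ t ∈ Ω, ∀ x ∈ P, t * x = x * t

theorem mem_cs {g x : Γ} {K : Subgroup Γ} : x ∈ MulAut.conj g • K ↔ g⁻¹ * x * g ∈ K := by
  rw [Subgroup.mem_pointwise_smul_iff_inv_smul_mem, ← map_inv, MulAut.smul_def, MulAut.conj_apply, inv_inv]

theorem cs_mem {g x : Γ} {K : Subgroup Γ} (h : x ∈ K) : g * x * g⁻¹ ∈ MulAut.conj g • K := by
  rw [mem_cs]
  have e : g⁻¹ * (g * x * g⁻¹) * g = x := by group
  rwa [e]

theorem Reg.conj {Ω T : Subgroup Γ} (h : Reg Ω T) (g : Γ) : Reg (MulAut.conj g • Ω) (MulAut.conj g • T) where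
  cent := by
    intro x hx
    rw [mem_cs]
    refine h.cent _ fun t ht => ?_
    have h1 := hx _ (cs_mem (g := g) ht)
    calc g⁻¹ * x * g * t = g⁻¹ * (x * (g * t * g⁻¹)) * g := by group
      _ = g⁻¹ * ((g * t * g⁻¹) * x) * g := by rw [h1]
      _ = t * (g⁻¹ * x * g) := by group
  quad := by
    intro b hb hq
    rw [mem_cs]
    refine h.quad _ (fun t ht => ?_) fun t ht => ?_
    · have h1 := hb _ (cs_mem (g := g) ht)
      rw [mem_cs] at h1
      have e : g⁻¹ * b * g * t * (g⁻¹ * b * g)⁻¹ = g⁻¹ * (b * (g * t * g⁻¹) * b⁻¹) * g := by group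
      rwa [e]
    · have h1 := hq _ (cs_mem (g := g) ht)
      have e : ⁅⁅t, g⁻¹ * b * g⁆, g⁻¹ * b * g⁆ = g⁻¹ * ⁅⁅g * t * g⁻¹, b⁆, b⁆ * g := by
        simp only [commutatorElement_def]
        group
      rw [e, h1]
      group
  two := by
    intro P hP h2 hn t ht x hx
    have hfin : Finite ↥(MulAut.conj g⁻¹ • P) := by
      have : Finite (P : Set Γ) := hP
      have h3 : ((MulAut.conj g⁻¹ • P : Subgroup Γ) : Set Γ) = (fun x => MulAut.conj g⁻¹ • x) '' (P : Set Γ) := rfl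
      have : Finite ((MulAut.conj g⁻¹ • P : Subgroup Γ) : Set Γ) := by
        rw [h3]
        exact Set.Finite.to_subtype (Set.Finite.image _ (Set.toFinite _))
      exact this
    have h2' : IsPGroup 2 ↥(MulAut.conj g⁻¹ • P) := by
      rintro ⟨y, hy⟩
      have hy' := mem_cs.1 hy
      obtain ⟨k, hk⟩ := h2 ⟨_, hy'⟩
      refine ⟨k, Subtype.ext ?_⟩
      have h4 := congrArg Subtype.val hk
      simp only [SubmonoidClass.coe_pow, OneMemClass.coe_one] at h4 ⊢
      rw [inv_inv, conj_pow, mul_eq_one_iff_eq_inv] at h4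
      exact mul_left_cancel (a := g) (by rw [h4, mul_one, inv_inv])
    have h5 := h.two (MulAut.conj g⁻¹ • P) hfin h2' (by
      intro s hs y hy
      rw [mem_cs, inv_inv] at hy ⊢
      have h6 := hn _ (cs_mem (g := g) hs) _ hy
      have e : g * (s * y * s⁻¹) * g⁻¹ = g * s * g⁻¹ * (g * y * g⁻¹) * (g * s * g⁻¹)⁻¹ := by group
      rwa [e]) (g⁻¹ * t * g) (mem_cs.1 ht) (g⁻¹ * x * g) (by
        rw [mem_cs, inv_inv]
        have e : g * (g⁻¹ * x * g) * g⁻¹ = x := by group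
        rwa [e])
    calc t * x = g * ((g⁻¹ * t * g) * (g⁻¹ * x * g)) * g⁻¹ := by group
      _ = g * ((g⁻¹ * x * g) * (g⁻¹ * t * g)) * g⁻¹ := by rw [h5]
      _ = x * t := by group

/-- an `r`-subgroup is conjugate into a subgroup of index prime to `r` -/
theorem exists_conj_le {M : Type*} [Group M] [Finite M] {r : ℕ} [hr : Fact r.Prime] {K R : Subgroup M}
    (hK : ¬ r ∣ K.index) (hR : IsPGroup r R) : ∃ g : M, ∀ x ∈ R, g * x * g⁻¹ ∈ K := by
  have h1 : ¬ r ∣ Nat.card (M ⧸ K) := hK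
  obtain ⟨a, ha⟩ := hR.nonempty_fixed_point_of_prime_not_dvd_card (M ⧸ K) h1
  obtain ⟨g, rfl⟩ := QuotientGroup.mk_surjective a
  refine ⟨g⁻¹, fun x hx => ?_⟩
  have h2 := ha ⟨x, hx⟩
  have h3 : ((x * g : M) : M ⧸ K) = (g : M ⧸ K) := h2
  rw [eq_comm, QuotientGroup.eq] at h3
  rwa [inv_inv, mul_assoc]

section main

variable {G : Type u} [Group G] [Finite G]

/-- elements of odd order in the product of two commuting subgroups, the first one a 2-group -/
theorem mem_of_sup {P N : Subgroup G} (hP : IsPGroup 2 P) (hc : ∀ x ∈ P, ∀ n ∈ N, x * n = n * x) {x : G} {m : ℕ}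
    (hm : Odd m) (hxm : x ^ m = 1) (hx : x ∈ P ⊔ N) : x ∈ N := by
  have key : ∀ y ∈ P ⊔ N, ∃ k : ℕ, y ^ 2 ^ k ∈ N := by
    intro y hy
    have h1 : ∃ a ∈ P, ∃ b ∈ N, a * b = y := by
      rw [Subgroup.sup_eq_closure] at hy
      induction hy using Subgroup.closure_induction with
      | mem y hy =>
        rcases hy with hy | hy
        · exact ⟨y, hy, 1, one_mem _, mul_one _⟩
        · exact ⟨1, one_mem _, y, hy, one_mul _⟩
      | one => exact ⟨1, one_mem _, 1, one_mem _, one_mul _⟩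
      | mul _ _ _ _ h1 h2 =>
        obtain ⟨a, ha, b, hb, rfl⟩ := h1
        obtain ⟨c, hc', d, hd, rfl⟩ := h2
        refine ⟨a * c, mul_mem ha hc', b * d, mul_mem hb hd, ?_⟩
        rw [mul_assoc, mul_assoc, ← mul_assoc c, hc c hc' b hb, mul_assoc]
      | inv _ _ h1 =>
        obtain ⟨a, ha, b, hb, rfl⟩ := h1
        exact ⟨a⁻¹, inv_mem ha, b⁻¹, inv_mem hb, by
          rw [mul_inv_rev, hc _ (inv_mem ha) _ (inv_mem hb)]⟩
    obtain ⟨a, ha, b, hb, rfl⟩ := h1
    obtain ⟨k, hk⟩ := hP ⟨a, ha⟩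
    refine ⟨k, ?_⟩
    have h2 : Commute a b := hc a ha b hb
    have h3 : a ^ 2 ^ k = 1 := congrArg Subtype.val hk
    rw [h2.mul_pow, h3, one_mul]
    exact pow_mem hb _
  obtain ⟨k, hk⟩ := key x hx
  have hco : Nat.Coprime (2 ^ k) m := Nat.Coprime.pow_left _ (Nat.coprime_two_left.2 hm)
  have h1 : x = x ^ (((2 ^ k : ℕ) : ℤ) * Nat.gcdA (2 ^ k) m + m * Nat.gcdB (2 ^ k) m : ℤ) := by
    have := Nat.gcd_eq_gcd_ab (2 ^ k) m
    rw [hco] at this
    rw [← this]
    simp
  rw [h1, zpow_add, zpow_mul, zpow_mul, zpow_natCast, zpow_natCast, hxm, one_zpow, mul_one]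
  exact zpow_mem hk _

theorem good [IsSimpleGroup G] (hna : ¬ IsMulCommutative G) {π : Set ℕ} (h2 : 2 ∈ π)
    (f : G →* Γ) (hf : Function.Injective f) {T : Subgroup Γ} (hTab : ∀ x ∈ T, ∀ y ∈ T, x * y = y * x)
    (H : Subgroup G) (hH : IsPiHall π H) (h3 : ¬ 3 ∣ Nat.card H)
    (N : Subgroup G) (hNH : N ≤ H) (hNn : ∀ h ∈ H, ∀ n ∈ N, h * n * h⁻¹ ∈ N) (hNT : ∀ n ∈ N, f n ∈ T)
    (hNodd : Odd (Nat.card N))
    (hC : ∀ x ∈ H, (∀ n ∈ N, x * n = n * x) → (∀ y ∈ (pCore 2 H).map H.subtype, x * y = y * x) →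
      x ∈ (pCore 2 H).map H.subtype ⊔ N)
    (hR : N ≠ ⊥ → ∃ r, r.Prime ∧ r ∣ Nat.card N ∧ ∃ R₀ : Subgroup G, IsPGroup r R₀ ∧
      (∀ x ∈ R₀, ∀ n ∈ N, x * n = n * x) ∧ ∃ g₁ : Γ, Reg (R₀.map f) (MulAut.conj g₁ • T)) : Good π G := by
  set P : Subgroup G := (pCore 2 H).map H.subtype with hPdef
  have hP2 : IsPGroup 2 P := (Cfsg.Agent.Lib.Cores.pCore_isPGroup 2).map _
  have hPH : P ≤ H := map_subtype_le _
  have hPn : ∀ h ∈ H, ∀ y ∈ P, h * y * h⁻¹ ∈ P := by
    rintro h hh _ ⟨y, hy, rfl⟩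
    exact ⟨⟨h, hh⟩ * y * ⟨h, hh⟩⁻¹, (by exact (Cfsg.Agent.Lib.Cores.pCore_normal 2).conj_mem y hy _), rfl⟩
  have hPN : ∀ x ∈ P, ∀ n ∈ N, x * n = n * x := by
    intro x hx n hn
    have h1 : x * n * x⁻¹ * n⁻¹ ∈ P := by
      have e : x * n * x⁻¹ * n⁻¹ = x * (n * x * n⁻¹)⁻¹ := by group
      rw [e]
      exact mul_mem hx (inv_mem (hPn n (hNH hn) x hx))
    have h2' : x * n * x⁻¹ * n⁻¹ ∈ N := mul_mem (hNn x (hPH hx) n hn) (inv_mem hn)
    obtain ⟨k, hk⟩ := hP2 ⟨_, h1⟩
    have hk' : (x * n * x⁻¹ * n⁻¹) ^ 2 ^ k = 1 := congrArg Subtype.val hk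
    have h4 : (x * n * x⁻¹ * n⁻¹) ^ Nat.card N = 1 := by
      have := pow_card_eq_one' (x := (⟨_, h2'⟩ : N))
      exact congrArg Subtype.val this
    have h5 : x * n * x⁻¹ * n⁻¹ = 1 := by
      have h6 := Nat.dvd_gcd (orderOf_dvd_of_pow_eq_one hk') (orderOf_dvd_of_pow_eq_one h4)
      rw [(Nat.Coprime.pow_left _ (Nat.coprime_two_left.2 hNodd) : Nat.gcd (2 ^ k) (Nat.card N) = 1)] at h6
      exact orderOf_eq_one_iff.1 (Nat.dvd_one.1 h6)
    exact mul_inv_eq_iff_eq_mul.1 (mul_inv_eq_one.1 h5)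
  by_cases hN : N = ⊥
  · subst hN
    refine good_of_stellmacher hna h2 H hH h3 fun x hx => ?_
    have h1 := hC x x.2 (by
      intro n hn
      rw [mem_bot.1 hn, mul_one, one_mul]) (by
      rintro _ ⟨y, hy, rfl⟩
      have := mem_centralizer_iff.1 hx y hy
      exact (congrArg Subtype.val this).symm)
    rw [sup_bot_eq] at h1
    obtain ⟨y, hy, hyx⟩ := h1
    rwa [← Subtype.ext (hyx : (y : G) = x)]
  obtain ⟨r, hr, hrN, R₀, hR₀, hRN, g₁, hreg⟩ := hR hN
  have := Fact.mk hr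
  have hrπ : r ∈ π := hH.1 r hr (hrN.trans (card_dvd_of_le hNH))
  have hr2 : r ≠ 2 := by
    rintro rfl
    exact (Nat.not_even_iff_odd.2 hNodd) (even_iff_two_dvd.2 hrN)
  have hTab1 : ∀ x ∈ MulAut.conj g₁ • T, ∀ y ∈ MulAut.conj g₁ • T, x * y = y * x := by
    intro x hx y hy
    have h1 := hTab _ (mem_cs.1 hx) _ (mem_cs.1 hy)
    calc x * y = g₁ * ((g₁⁻¹ * x * g₁) * (g₁⁻¹ * y * g₁)) * g₁⁻¹ := by group
      _ = g₁ * ((g₁⁻¹ * y * g₁) * (g₁⁻¹ * x * g₁)) * g₁⁻¹ := by rw [h1]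
      _ = y * x := by group
  -- a conjugate of `R₀` in `H`
  obtain ⟨g, hgN, hgH⟩ : ∃ g : G, (∀ n, n ∈ N ↔ g * n * g⁻¹ ∈ N) ∧ ∀ x ∈ R₀, g * x * g⁻¹ ∈ H := by
    set M := normalizer (N : Set G) with hM
    have hHM : H ≤ M := by
      intro h hh
      rw [hM, mem_normalizer_iff]
      intro n
      refine ⟨fun hn => hNn h hh n hn, fun hn => ?_⟩
      have := hNn h⁻¹ (inv_mem hh) _ hn
      have e : h⁻¹ * (h * n * h⁻¹) * h⁻¹⁻¹ = n := by group
      rwa [e] at this
    have hRM : R₀ ≤ M := by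
      intro x hx
      rw [hM, mem_normalizer_iff]
      intro n
      refine ⟨fun hn => ?_, fun hn => ?_⟩
      · rw [hRN x hx n hn, mul_inv_cancel_right]; exact hn
      · have h4 := hRN x hx _ hn
        have e : n = x⁻¹ * (x * n * x⁻¹ * x) := by group
        rw [e, ← h4]
        have e2 : x⁻¹ * (x * (x * n * x⁻¹)) = x * n * x⁻¹ := by group
        rwa [e2]
    have hidx : ¬ r ∣ (H.subgroupOf M).index := fun h =>
      hH.2 r hr hrπ (h.trans (by
        have := relIndex_mul_index hHM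
        exact Dvd.intro _ this))
    obtain ⟨g, hg⟩ := exists_conj_le hidx (R := R₀.subgroupOf M)
      (hR₀.comap_of_injective M.subtype M.subtype_injective)
    refine ⟨g, fun n => ?_, fun x hx => ?_⟩
    · exact mem_normalizer_iff.1 g.2 n
    · exact hg ⟨x, hRM hx⟩ hx
  set R₁ : Subgroup G := MulAut.conj g • R₀ with hR₁
  have hR₁H : R₁ ≤ H := by
    intro x hx
    have h1 := hgH _ (mem_cs.1 hx)
    have e : g * (g⁻¹ * x * g) * g⁻¹ = x := by group
    rwa [e] at h1
  have hR₁N : ∀ x ∈ R₁, ∀ n ∈ N, x * n = n * x := by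
    intro x hx n hn
    have h1 := hRN _ (mem_cs.1 hx) (g⁻¹ * n * g) (by
      rw [hgN]
      have e : g * (g⁻¹ * n * g) * g⁻¹ = n := by group
      rwa [e])
    calc x * n = g * ((g⁻¹ * x * g) * (g⁻¹ * n * g)) * g⁻¹ := by group
      _ = g * ((g⁻¹ * n * g) * (g⁻¹ * x * g)) * g⁻¹ := by rw [h1]
      _ = n * x := by group
  have hR₁r : ∀ x ∈ R₁, ∃ k : ℕ, x ^ r ^ k = 1 := by
    intro x hx
    obtain ⟨k, hk⟩ := hR₀ ⟨_, mem_cs.1 hx⟩
    refine ⟨k, ?_⟩
    have h1 : (g⁻¹ * x * g) ^ r ^ k = 1 := congrArg Subtype.val hk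
    have e : (g⁻¹ * x * g) ^ r ^ k = g⁻¹ * x ^ r ^ k * g := by
      have := conj_pow (i := r ^ k) (a := g⁻¹) (b := x)
      rwa [inv_inv] at this
    rw [e] at h1
    calc x ^ r ^ k = g * (g⁻¹ * x ^ r ^ k * g) * g⁻¹ := by group
      _ = 1 := by rw [h1]; group
  set T₁ : Subgroup Γ := MulAut.conj (f g * g₁) • T with hT₁
  have hmapR : R₁.map f = MulAut.conj (f g) • R₀.map f := by
    ext y
    rw [mem_cs]
    constructor
    · rintro ⟨x, hx, rfl⟩
      exact ⟨_, mem_cs.1 hx, by simp only [_root_.map_mul, _root_.map_inv]⟩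
    · rintro ⟨x, hx, hxy⟩
      refine ⟨g * x * g⁻¹, cs_mem hx, ?_⟩
      rw [map_mul, map_mul, map_inv, hxy]
      group
  have hreg1 : Reg (R₁.map f) T₁ := by
    rw [hmapR, hT₁, map_mul, mul_smul]
    exact hreg.conj (f g)
  have hregT : Reg (MulAut.conj (f g * g₁)⁻¹ • R₁.map f) T := by
    have := hreg1.conj (f g * g₁)⁻¹
    rwa [hT₁, smul_smul, ← map_mul, inv_mul_cancel, map_one, one_smul] at this
  -- `R₁` centralises `P`
  have hR₁P : ∀ x ∈ R₁, ∀ y ∈ P, x * y = y * x := by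
    intro x hx y hy
    have hfin : Finite ↥(P.map f) := by
      have : Finite (P : Set G) := Set.toFinite _
      exact Set.Finite.to_subtype (Set.Finite.image f (Set.toFinite (P : Set G)))
    have h1 := hreg1.two (P.map f) hfin (hP2.map f) (by
      rintro _ ⟨a, ha, rfl⟩ _ ⟨b, hb, rfl⟩
      exact ⟨a * b * a⁻¹, hPn a (hR₁H ha) b hb, by simp only [_root_.map_mul, _root_.map_inv]⟩) (f x) ⟨x, hx, rfl⟩ (f y) ⟨y, hy, rfl⟩
    rw [← map_mul, ← map_mul] at h1
    exact hf h1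
  have hR₁leN : R₁ ≤ N := by
    intro x hx
    obtain ⟨k, hk⟩ := hR₁r x hx
    refine mem_of_sup hP2 hPN (m := r ^ k) ?_ hk (hC x (hR₁H hx) (hR₁N x hx) (hR₁P x hx))
    exact (hr.eq_two_or_odd'.resolve_left hr2).pow
  -- `T₁ = T`
  have hCN : ∀ x, (∀ n ∈ N, x * f n = f n * x) → x ∈ T₁ := by
    intro x hx
    refine hreg1.cent x ?_
    rintro _ ⟨a, ha, rfl⟩
    exact hx a (hR₁leN ha)
  have hTT₁ : T ≤ T₁ := fun x hx => hCN x fun n hn => hTab x hx _ (hNT n hn)
  have hT₁T : T₁ ≤ T := by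
    intro x hx
    refine hregT.cent x fun t ht => ?_
    have hTab' : ∀ x ∈ T₁, ∀ y ∈ T₁, x * y = y * x := by
      intro x hx y hy
      have h1 := hTab _ (mem_cs.1 hx) _ (mem_cs.1 hy)
      set u := f g * g₁
      calc x * y = u * ((u⁻¹ * x * u) * (u⁻¹ * y * u)) * u⁻¹ := by group
        _ = u * ((u⁻¹ * y * u) * (u⁻¹ * x * u)) * u⁻¹ := by rw [h1]
        _ = y * x := by group
    refine hTab' x hx t (hTT₁ ?_)
    -- `t` is in `u⁻¹ R₁ u ≤ u⁻¹ T₁ u = T`
    rw [mem_cs, inv_inv] at ht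
    have h1 : f g * g₁ * t * (f g * g₁)⁻¹ ∈ T₁ := by
      obtain ⟨a, ha, hat⟩ := ht
      rw [← hat]
      exact hTT₁ (hNT a (hR₁leN ha))
    rw [hT₁, mem_cs] at h1
    have e : (f g * g₁)⁻¹ * (f g * g₁ * t * (f g * g₁)⁻¹) * (f g * g₁) = t := by group
    rwa [e] at h1
  have hTeq : T₁ = T := le_antisymm hT₁T hTT₁
  -- `H` normalises `T`
  have hHT : ∀ h ∈ H, ∀ t ∈ T, f h * t * (f h)⁻¹ ∈ T := by
    intro h hh t ht
    rw [← hTeq]
    refine hCN _ fun n hn => ?_
    have h1 := hTab t ht (f (h⁻¹ * n * h)) (hNT _ (by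
      have := hNn h⁻¹ (inv_mem hh) n hn
      rwa [inv_inv] at this))
    rw [map_mul, map_mul, map_inv] at h1
    calc f h * t * (f h)⁻¹ * f n = f h * (t * ((f h)⁻¹ * f n * f h)) * (f h)⁻¹ := by group
      _ = f h * (((f h)⁻¹ * f n * f h) * t) * (f h)⁻¹ := by rw [h1]
      _ = f n * (f h * t * (f h)⁻¹) := by group
  -- the `r`-part of `H ∩ T`
  let K : Subgroup G :=
    { carrier := {x | x ∈ H ∧ f x ∈ T ∧ ∃ k : ℕ, x ^ r ^ k = 1}
      one_mem' := ⟨one_mem _, by rw [map_one]; exact one_mem _, 0, one_pow _⟩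
      mul_mem' := by
        rintro a b ⟨ha, ha', k, hk⟩ ⟨hb, hb', j, hj⟩
        refine ⟨mul_mem ha hb, by rw [map_mul]; exact mul_mem ha' hb', k + j, ?_⟩
        have hcomm : Commute a b := hf (by rw [map_mul, map_mul]; exact hTab _ ha' _ hb')
        rw [hcomm.mul_pow, pow_add, pow_mul, hk, one_pow, one_mul, mul_comm, pow_mul, hj, one_pow]
      inv_mem' := by
        rintro a ⟨ha, ha', k, hk⟩
        refine ⟨inv_mem ha, by rw [map_inv]; exact inv_mem ha', k, ?_⟩
        rw [inv_pow, hk, inv_one] }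
  have hKmem : ∀ x, x ∈ K ↔ x ∈ H ∧ f x ∈ T ∧ ∃ k : ℕ, x ^ r ^ k = 1 := fun x => Iff.rfl
  have hKH : K ≤ H := fun x hx => hx.1
  have hKn : ∀ h ∈ H, ∀ x ∈ K, h * x * h⁻¹ ∈ K := by
    rintro h hh x ⟨hx, hx', k, hk⟩
    refine ⟨mul_mem (mul_mem hh hx) (inv_mem hh), ?_, k, ?_⟩
    · rw [map_mul, map_mul, map_inv]
      exact hHT h hh _ hx'
    · rw [conj_pow, hk, mul_one, mul_inv_cancel]
  have hKr : IsPGroup r K := fun x => by
    obtain ⟨k, hk⟩ := x.2.2.2
    exact ⟨k, Subtype.ext hk⟩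
  have hR₁K : R₁ ≤ K := fun x hx => ⟨hR₁H hx, hNT x (hR₁leN hx), hR₁r x hx⟩
  have hKne : K ≠ ⊥ := by
    intro hK
    apply hna
    have hall : ∀ x : Γ, x ∈ T₁ := fun x => hreg1.cent x (by
      rintro _ ⟨a, ha, rfl⟩
      have : a = 1 := by
        have := hR₁K ha
        rwa [hK, mem_bot] at this
      rw [this, map_one, mul_one, one_mul])
    exact ⟨⟨fun x y => hf (by
      rw [map_mul, map_mul]
      exact hTab _ (hTeq ▸ hall _) _ (hTeq ▸ hall _))⟩⟩
  -- a Sylow `r`-subgroup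
  obtain ⟨R, hRH⟩ : ∃ R : Sylow r G, (R : Subgroup G) ≤ H := by
    obtain ⟨a, ha⟩ := exists_conj_le (K := H) (hH.2 r hr hrπ) (R := ((default : Sylow r G) : Subgroup G))
      (default : Sylow r G).isPGroup'
    refine ⟨a • (default : Sylow r G), fun x hx => ?_⟩
    have hx' : x ∈ MulAut.conj a • ((default : Sylow r G) : Subgroup G) := hx
    have h1 := ha _ (mem_cs.1 hx')
    have e : a * (a⁻¹ * x * a) * a⁻¹ = x := by group
    rwa [e] at h1
  have hKR : K ≤ R := by
    have hidx : ¬ r ∣ ((R : Subgroup G).subgroupOf H).index := fun h =>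
      R.not_dvd_index (h.trans (Dvd.intro _ (relIndex_mul_index hRH)))
    obtain ⟨a, ha⟩ := exists_conj_le hidx (R := K.subgroupOf H)
      (hKr.comap_of_injective H.subtype H.subtype_injective)
    intro x hx
    have h1 := ha ⟨(a : G)⁻¹ * x * a, mul_mem (mul_mem (inv_mem a.2) (hKH hx)) a.2⟩ (by
      have := hKn (a : G)⁻¹ (inv_mem a.2) x hx
      rw [inv_inv] at this
      exact this)
    have h4 : (a : G) * ((a : G)⁻¹ * x * a) * (a : G)⁻¹ ∈ (R : Subgroup G) := h1
    have e : (a : G) * ((a : G)⁻¹ * x * a) * (a : G)⁻¹ = x := by group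
    rwa [e] at h4
  refine good_of_inv hna R K hKR hKne ?_ H hH ?_
  · intro φ hφ
    have hcardeq : Nat.card ↥(φ • K) = Nat.card K := card_smul φ K
    refine eq_of_le_of_card_ge ?_ hcardeq.ge
    intro b hb
    have hφmem : ∀ x, x ∈ φ • K ↔ φ⁻¹ x ∈ K := fun x => by
      rw [Subgroup.mem_pointwise_smul_iff_inv_smul_mem]; rfl
    have hRφ : ∀ x, x ∈ (R : Subgroup G) ↔ φ⁻¹ x ∈ (R : Subgroup G) := fun x => by
      conv_lhs => rw [← hφ]
      rw [Subgroup.mem_pointwise_smul_iff_inv_smul_mem]; rfl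
    have hbR : b ∈ (R : Subgroup G) := (hRφ b).2 (hKR ((hφmem b).1 hb))
    have hKab : ∀ x ∈ K, ∀ y ∈ K, x * y = y * x := fun x hx y hy =>
      hf (by rw [map_mul, map_mul]; exact hTab _ hx.2.1 _ hy.2.1)
    refine ⟨hRH hbR, ?_, ?_⟩
    · rw [← hTeq]
      refine hreg1.quad (f b) (fun t ht => ?_) ?_
      · rw [hTeq] at ht ⊢
        exact hHT b (hRH hbR) t ht
      · rintro _ ⟨s, hs, rfl⟩
        rw [← map_commutatorElement, ← map_commutatorElement]
        have hsK := hR₁K hs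
        have h1 : ⁅s, b⁆ ∈ φ • K := by
          rw [hφmem, map_commutatorElement, commutatorElement_def]
          refine mul_mem ?_ (inv_mem ((hφmem b).1 hb))
          exact hKn _ (hRH ((hRφ s).1 (hKR hsK))) _ ((hφmem b).1 hb)
        have h2' : ⁅⁅s, b⁆, b⁆ = 1 := by
          rw [commutatorElement_eq_one_iff_mul_comm]
          have := hKab _ ((hφmem _).1 h1) _ ((hφmem b).1 hb)
          rw [← map_mul, ← map_mul] at this
          exact φ⁻¹.injective this
        rw [h2', map_one]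
    · obtain ⟨k, hk⟩ := R.isPGroup' ⟨b, hbR⟩
      exact ⟨k, congrArg Subtype.val hk⟩
  · intro h hh
    rw [mem_normalizer_iff]
    intro n
    refine ⟨fun hn => hKn h hh n hn, fun hn => ?_⟩
    have := hKn h⁻¹ (inv_mem hh) _ hn
    have e : h⁻¹ * (h * n * h⁻¹) * h⁻¹⁻¹ = n := by group
    rwa [e] at this

end main

end Cfsg.Agent.H554.BS
end

-- part: H554/BS/Gen
section
/-!
# Coprime generation, ambient form without finiteness of the ambient group (helper554)
-/

set_option autoImplicit false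

namespace Cfsg.Agent.H554.BS

open Subgroup Cfsg.Agent.Lib.CoprimeHyperplane

/-- the property of subgroups with cyclic quotient -/
def PairP {Γ : Type*} [Group Γ] (q : ℕ) (Om R : Subgroup Γ) : Prop :=
  ∀ h ∈ Om, ∀ h' ∈ Om, ∃ a b : ℕ, ¬ (q ∣ a ∧ q ∣ b) ∧ h ^ a * h' ^ b ∈ R

theorem pair_of_index {A : Type*} [CommGroup A] [Finite A] {q : ℕ} (hq : q.Prime) {B : Subgroup A}
    (hB : B.index = q) (h h' : A) : ∃ a b : ℕ, ¬ (q ∣ a ∧ q ∣ b) ∧ h ^ a * h' ^ b ∈ B := by
  have := Fact.mk hq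
  have hq1 : ¬ q ∣ 1 := fun hd => hq.one_lt.ne' (Nat.dvd_one.1 hd)
  by_cases h1 : h ∈ B
  · exact ⟨1, 0, fun hd => hq1 hd.1, by simpa using h1⟩
  · have h2 : (QuotientGroup.mk h : A ⧸ B) ≠ 1 := fun e => h1 ((QuotientGroup.eq_one_iff h).1 e)
    have hcard : Nat.card (A ⧸ B) = q := hB
    obtain ⟨a, ha⟩ := mem_powers_of_prime_card (p := q) hcard h2 (g' := (QuotientGroup.mk h' : A ⧸ B)⁻¹)
    refine ⟨a, 1, fun hd => hq1 hd.2, ?_⟩
    rw [pow_one, ← QuotientGroup.eq_one_iff, QuotientGroup.mk_mul, QuotientGroup.mk_pow]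
    have ha' : (QuotientGroup.mk h : A ⧸ B) ^ a = (QuotientGroup.mk h' : A ⧸ B)⁻¹ := ha
    rw [ha', inv_mul_cancel]

theorem gen_fix {Γ : Type*} [Group Γ] {Om P K : Subgroup Γ} {q : ℕ} (hq : q.Prime) (hq2 : q ≠ 2)
    (hab : ∀ x ∈ Om, ∀ y ∈ Om, x * y = y * x) (hexp : ∀ x ∈ Om, x ^ q = 1) (hfin : Finite Om) (hne : Om ≠ ⊥)
    (hP : Finite P) (hP2 : IsPGroup 2 P) (hn : ∀ t ∈ Om, ∀ x ∈ P, t * x * t⁻¹ ∈ P)
    (hK : ∀ R : Subgroup Γ, R ≤ Om → PairP q Om R → ∀ x ∈ P, (∀ t ∈ R, t * x = x * t) → x ∈ K) : P ≤ K := by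
  have := Fact.mk hq
  have := Fact.mk Nat.prime_two
  letI : CommGroup ↥Om := { (inferInstance : Group ↥Om) with
    mul_comm := fun a b => Subtype.ext (hab a a.2 b b.2) }
  let φ : ↥Om →* MulAut ↥P :=
    { toFun := fun t =>
        { toFun := fun x => ⟨t * x * (t : Γ)⁻¹, hn t t.2 x x.2⟩
          invFun := fun x => ⟨(t : Γ)⁻¹ * x * t, by
            have h1 := hn _ (inv_mem t.2) x x.2
            rwa [inv_inv] at h1⟩
          left_inv := fun x => Subtype.ext (by simp only [mul_assoc, _root_.inv_mul_cancel_left, _root_.inv_mul_cancel, _root_.mul_one])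
          right_inv := fun x => Subtype.ext (by simp only [mul_assoc, _root_.mul_inv_cancel_left, _root_.mul_inv_cancel, _root_.mul_one])
          map_mul' := fun x y => Subtype.ext (by simp only [mul_assoc, _root_.Subgroup.coe_mul, _root_.MulMemClass.mk_mul_mk, _root_.inv_mul_cancel_left]) }
      map_one' := by
        ext x
        simp only [_root_.OneMemClass.coe_one, _root_.one_mul, _root_.inv_one, _root_.mul_one, _root_.Subtype.coe_eta, _root_.MulEquiv.coe_mk, _root_.Equiv.coe_fn_mk, _root_.MulAut.one_apply]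
      map_mul' := by
        intro s t
        ext x
        simp only [mul_assoc, _root_.Subgroup.coe_mul, _root_.mul_inv_rev, _root_.MulEquiv.coe_mk, _root_.Equiv.coe_fn_mk, _root_.MulAut.mul_apply] }
  have hφ : ∀ (t : Om) (x : P), ((φ t x : P) : Γ) = t * x * (t : Γ)⁻¹ := fun _ _ => rfl
  have hnt : Nontrivial ↥Om := (Subgroup.nontrivial_iff_ne_bot Om).2 hne
  have htop := iSup_fix_eq_top_of_isPGroup (p := q) (q := 2) hq2 (A := ↥Om) (R := ↥P)
    (φ := φ) (fun a => Subtype.ext (hexp a a.2)) hP2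
  intro x hx
  have h1 : (⟨x, hx⟩ : P) ∈ (⨆ B : {B : Subgroup ↥Om // B.index = q}, fix φ B.1) := by
    rw [htop]; exact mem_top _
  have h2 : (⨆ B : {B : Subgroup ↥Om // B.index = q}, fix φ B.1) ≤ K.subgroupOf P := by
    refine iSup_le fun B y hy => ?_
    rw [mem_subgroupOf]
    refine hK (B.1.map Om.subtype) (map_subtype_le _) ?_ y y.2 ?_
    · intro h hh h' hh'
      obtain ⟨a, b, hab', hm⟩ := pair_of_index hq B.2 ⟨h, hh⟩ ⟨h', hh'⟩
      exact ⟨a, b, hab', ⟨_, hm, rfl⟩⟩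
    · rintro _ ⟨t, ht, rfl⟩
      have h3 := congrArg (fun z : P => (z : Γ)) ((mem_fix φ).1 hy t ht)
      simp only [hφ] at h3
      exact mul_inv_eq_iff_eq_mul.1 h3
  exact h2 h1

end Cfsg.Agent.H554.BS
end

-- part: H554/BS/SLTwo
section
/-!
# Elements of order at least 5 normalising a finite 2-subgroup of `SL₂(k)` centralise it (helper554)
-/

set_option autoImplicit false

namespace Cfsg.Agent.H554.BS

open Cfsg.Agent.H167.OP Module

variable {k : Type*} [Field k]

local notation "SL₂" => Matrix.SpecialLinearGroup (Fin 2) k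

theorem nrm_pow' {G : Type*} [Group G] {Γ : Subgroup G} {B : G} (hn : ∀ A ∈ Γ, B * A * B⁻¹ ∈ Γ) (i : ℕ) :
    ∀ A ∈ Γ, B ^ i * A * (B ^ i)⁻¹ ∈ Γ := by
  induction i with
  | zero => intro A hA; simpa using hA
  | succ i ih =>
    intro A hA
    have h1 := ih _ (hn A hA)
    have e : B ^ (i + 1) * A * (B ^ (i + 1))⁻¹ = B ^ i * (B * A * B⁻¹) * (B ^ i)⁻¹ := by
      rw [pow_succ]; group
    rwa [e]

/-- the group `Γ ⟨B⟩` -/
def prodCyc {G : Type*} [Group G] (Γ : Subgroup G) (B : G) (s : ℕ) (hs : s ≠ 0) (hB : B ^ s = 1)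
    (hn : ∀ A ∈ Γ, B * A * B⁻¹ ∈ Γ) : Subgroup G where
  carrier := {x | ∃ A ∈ Γ, ∃ i : ℕ, x = A * B ^ i}
  one_mem' := ⟨1, one_mem _, 0, by simp⟩
  mul_mem' := by
    rintro _ _ ⟨A, hA, i, rfl⟩ ⟨A', hA', j, rfl⟩
    exact ⟨A * (B ^ i * A' * (B ^ i)⁻¹), mul_mem hA (nrm_pow' hn i _ hA'), i + j, by rw [pow_add]; group⟩
  inv_mem' := by
    rintro _ ⟨A, hA, i, rfl⟩
    have hinv : (B ^ i)⁻¹ = B ^ ((s - 1) * i) := by
      rw [inv_eq_iff_mul_eq_one, ← pow_add]
      have e : i + (s - 1) * i = s * i := by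
        obtain ⟨n, rfl⟩ := Nat.exists_eq_succ_of_ne_zero hs
        show i + (n + 1 - 1) * i = (n + 1) * i
        rw [Nat.add_sub_cancel]
        ring
      rw [e, pow_mul, hB, one_pow]
    refine ⟨B ^ ((s - 1) * i) * A⁻¹ * (B ^ ((s - 1) * i))⁻¹, nrm_pow' hn _ _ (inv_mem hA), (s - 1) * i, ?_⟩
    rw [mul_inv_rev, hinv]
    group

theorem finite_prodCyc {G : Type*} [Group G] {Γ : Subgroup G} {B : G} {s : ℕ} {hs : s ≠ 0} {hB : B ^ s = 1}
    {hn : ∀ A ∈ Γ, B * A * B⁻¹ ∈ Γ} (hfin : Finite Γ) : Finite ↥(prodCyc Γ B s hs hB hn) := by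
  let f : Γ × Fin s → ↥(prodCyc Γ B s hs hB hn) := fun x => ⟨x.1 * B ^ (x.2 : ℕ), ⟨x.1, x.1.2, _, rfl⟩⟩
  refine Finite.of_surjective f ?_
  rintro ⟨_, A, hA, i, rfl⟩
  refine ⟨(⟨A, hA⟩, ⟨i % s, Nat.mod_lt _ (Nat.pos_of_ne_zero hs)⟩), Subtype.ext ?_⟩
  show A * B ^ (i % s) = A * B ^ i
  rw [← Nat.mod_add_div i s, pow_add, pow_mul, hB, one_pow, mul_one]
  simp

/-- the natural representation -/
noncomputable def nat2 (k : Type*) [Field k] : Matrix.SpecialLinearGroup (Fin 2) k →* End k (Fin 2 → k) :=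
  (Matrix.toLinAlgEquiv' (R := k) (n := Fin 2) : Matrix (Fin 2) (Fin 2) k →* End k (Fin 2 → k)).comp
    { toFun := fun A => A.1
      map_one' := rfl
      map_mul' := fun _ _ => rfl }

theorem nat2_injective : Function.Injective (nat2 k) := by
  intro A B h
  apply Subtype.ext
  exact (Matrix.toLinAlgEquiv' (R := k) (n := Fin 2)).injective h

/-- an element of order at most 2 of `SL₂(k)` is `±1` -/
theorem sq_one {A : Matrix.SpecialLinearGroup (Fin 2) k} (h2 : (2 : k) ≠ 0) (hA : A ^ 2 = 1) (B : SL₂) : B * A = A * B := by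
  have hinv : A = A⁻¹ := by
    rw [eq_inv_iff_mul_eq_one, ← pow_two, hA]
  have h1 : A.1 0 1 = 0 := by
    have := congrArg (fun X : SL₂ => X.1 0 1) hinv
    simp only [Matrix.SpecialLinearGroup.SL2_inv_expl] at this
    have h3 : A.1 0 1 = - A.1 0 1 := by simpa using this
    have h4 : 2 * A.1 0 1 = 0 := by linear_combination h3
    exact (mul_eq_zero.1 h4).resolve_left h2
  have h3 : A.1 1 0 = 0 := by
    have := congrArg (fun X : SL₂ => X.1 1 0) hinv
    simp only [Matrix.SpecialLinearGroup.SL2_inv_expl] at this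
    have h3 : A.1 1 0 = - A.1 1 0 := by simpa using this
    have h4 : 2 * A.1 1 0 = 0 := by linear_combination h3
    exact (mul_eq_zero.1 h4).resolve_left h2
  have h4 : A.1 0 0 = A.1 1 1 := by
    have := congrArg (fun X : SL₂ => X.1 0 0) hinv
    simp only [Matrix.SpecialLinearGroup.SL2_inv_expl] at this
    simpa using this
  apply Subtype.ext
  ext i j
  show (B.1 * A.1) i j = (A.1 * B.1) i j
  rw [Matrix.mul_apply, Matrix.mul_apply, Fin.sum_univ_two, Fin.sum_univ_two]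
  (revert i j; simp only [h1, h3, h4, _root_.Fin.forall_fin_succ, Fin.isValue, _root_.MulZeroClass.mul_zero, _root_.add_zero, _root_.Fin.succ_zero_eq_one, _root_.zero_add, _root_.IsEmpty.forall_iff, _root_.and_true, _root_.MulZeroClass.zero_mul]) <;> (repeat' with_reducible apply And.intro) <;> ring

theorem comm_of_two (h2 : (2 : k) ≠ 0) {s : ℕ} (hs : s.Prime) (h5 : 5 ≤ s) (Γ : Subgroup SL₂) (hfin : Finite Γ)
    (hΓ : IsPGroup 2 Γ) (B : SL₂) (hB : B ^ s = 1) (hn : ∀ A ∈ Γ, B * A * B⁻¹ ∈ Γ) : ∀ A ∈ Γ, B * A = A * B := by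
  set S := prodCyc Γ B s hs.ne_zero hB hn with hS
  have hSfin : Finite ↥S := finite_prodCyc hfin
  have hΓS : Γ ≤ S := fun A hA => ⟨A, hA, 0, by simp⟩
  have hBS : B ∈ S := ⟨1, one_mem _, 1, by simp⟩
  set y : ↥S := ⟨B, hBS⟩ with hy
  by_contra hcon
  push Not at hcon
  obtain ⟨A₀, hA₀, hne⟩ := hcon
  obtain ⟨E, hE, hmin⟩ := exists_minD (G := ↥S) Nat.prime_two hs (by omega) (y := y) (B := Γ.subgroupOf S) (by
    rintro ⟨d, hd⟩ hd'
    obtain ⟨j, hj⟩ := hΓ ⟨d, hd'⟩
    exact ⟨j, Subtype.ext (congrArg (fun z : Γ => (z : SL₂)) hj)⟩) ⟨1, Subtype.ext (by simpa only [_root_.pow_one, _root_.SubmonoidClass.coe_pow, _root_.OneMemClass.coe_one] using hB)⟩ (by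
    rintro ⟨d, hd⟩ hd'
    exact hn d hd') (by
    intro h
    exact hne (congrArg Subtype.val (h ⟨A₀, hΓS hA₀⟩ hA₀)))
  by_cases hab : ∀ a ∈ E, ∀ b ∈ E, a * b = b * a
  · apply hmin.ncen
    intro d hd
    have h1 := hmin.pow_eq_one hab hd
    exact Subtype.ext (sq_one h2 (congrArg Subtype.val h1) B)
  · push Not at hab
    obtain ⟨a, ha, b, hb, hab⟩ := hab
    let ρ : Representation k ↥S (Fin 2 → k) := (nat2 k).comp S.subtype
    have hρ : ρ (a * b * a⁻¹ * b⁻¹) ≠ 1 := by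
      intro h
      have h1 : nat2 k (a * b * a⁻¹ * b⁻¹ : ↥S) = nat2 k 1 := by
        rw [map_one]
        exact h
      have h3 := nat2_injective h1
      have h4 : a * b * a⁻¹ * b⁻¹ = 1 := Subtype.ext h3
      exact hab (mul_inv_eq_iff_eq_mul.1 (mul_inv_eq_one.1 h4))
    obtain ⟨δ, hδ1, hδ2, -, hδ⟩ := beta_gen ρ hmin (by exact_mod_cast h2) ha hb hρ
    have h3 : finrank k (LinearMap.range (ρ (a * b * a⁻¹ * b⁻¹) - 1)) ≤ 2 := by
      refine (Submodule.finrank_le _).trans ?_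
      simp
    have h4 : δ = 2 := by omega
    subst h4
    have h6 := (Nat.modEq_iff_dvd' (by norm_num : 1 ≤ 2 ^ 2)).1 hδ.symm
    have := Nat.le_of_dvd (by norm_num) h6
    omega

end Cfsg.Agent.H554.BS
end

-- part: H554/BS/TwoCore
section
/-!
# 2-subgroups of `L₁ L₂ T` normalised by a toral `q`-group, `q ≥ 5` (helper554)
-/

set_option autoImplicit false
set_option linter.unusedSectionVars false

namespace Cfsg.Agent.H554.BS

open CoxeterSystem Cfsg Cfsg.Lie Cfsg.Lie.ChevalleyDatum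
open Cfsg.Agent.ChevalleyStructure Cfsg.Agent.ChevalleyStructure.Elts Cfsg.Agent.ChevalleyStructure.CoxeterGeom
  Cfsg.Agent.ChevalleyStructure.CoxeterGeomTypes Cfsg.Agent.ChevalleyStructure.NPerm
open Cfsg.Agent.Tits.Roots Cfsg.Agent.Tits.Core Cfsg.Agent.Nodes Cfsg.Agent.Nodes.Reps Cfsg.Agent.Nodes.BNOf
  Cfsg.Agent.Nodes.RGDChev Cfsg.Agent.Nodes.Bruhat Cfsg.Agent.Nodes.NormalForm
open Cfsg.Agent.KFacts.RgdField Cfsg.Agent.KFacts.RgdChevCoord
open Cfsg.Agent.BpExc Cfsg.Agent.BpExc.TorCent Cfsg.Agent.BpExc.TorChev Cfsg.Agent.BpExc.Tow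
  Cfsg.Agent.BpExc.TowChev Cfsg.Agent.BpExc.Fr Cfsg.Agent.BpExc.Pair Cfsg.Agent.BpExc.LangFr Cfsg.Agent.GpExc.Field
  Cfsg.Agent.BpExc.TorAll
open Cfsg.Agent.H469.Exc Cfsg.Agent.H469.Exc.SigFr
open Cfsg.Agent.Nodes.RGDFoldSL
open Cfsg.Agent.ChevalleyStructure.SL2Hom (up lo mem_closure_SL2)
open Cfsg.Agent.H167.EX
open Module

universe u v

variable {D : ChevalleyDatum} {l : ℕ} {M : CoxeterMatrix (Fin l)} (hp : IsType D l M) {k : Type u} [Field k]

/-- `ph` is injective if some root has pairing 1 with the root `s` -/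
theorem ph_inj {s : ℕ} (hs : s < D.nroots) [IsAlgClosed k] (h2 : (2 : k) ≠ 0) (p : ℕ) [Fact p.Prime] [CharP k p]
    (hk : LocFin k) {r : ℕ} (hr : r < D.nroots) (he : HMatDiagAll.expo D s r = 1) {A : SL k}
    (hA : ph hp k hs A = 1) : A = 1 := by
  obtain ⟨P, hP⟩ := exists_tri h2 A
  have hB : ph hp k hs (P⁻¹ * A * P) = 1 := by
    rw [map_mul, map_mul, hA, mul_one, ← map_mul, inv_mul_cancel, map_one]
  obtain ⟨h0, hB1⟩ := tri_eq hP
  set x := (P⁻¹ * A * P).1 0 0 with hx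
  set y := (x)⁻¹ * (P⁻¹ * A * P).1 0 1 with hy
  rw [hB1, map_mul, ph_up] at hB
  have hy0 : y = 0 := by
    refine xs_TT hp hs p hk ?_
    rw [eq_inv_of_mul_eq_one_right (hB :)]
    exact inv_mem (ph_hS_mem hp hs h0)
  rw [hy0] at hB hB1
  have hx1 : x = 1 := by
    have h3 : xs hp.inList s (0 : k) = 1 := by rw [← ph_up hp hs, up_zero, map_one]
    rw [h3, mul_one] at hB
    have h4 := ch_ph_hS hp hs p hk h0 hr
    rw [hB, ch_one hp p hk hr, he, zpow_one] at h4
    exact h4.symm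
  have h5 : P⁻¹ * A * P = 1 := by
    rw [hB1, hx1, up_zero, mul_one]
    apply Subtype.ext
    rw [coe_hS one_ne_zero]
    ext a b
    (revert a b; simp only [_root_.Fin.forall_fin_succ, _root_.inv_one, _root_.Matrix.of_apply, _root_.Matrix.cons_val', _root_.Matrix.cons_val_fin_one, _root_.Matrix.SpecialLinearGroup.coe_one, Fin.isValue, _root_.Matrix.cons_val_zero, _root_.Matrix.cons_val_succ, _root_.IsEmpty.forall_iff, _root_.and_true, _root_.Matrix.one_apply_eq, Nat.reduceAdd, _root_.Fin.succ_zero_eq_one, _root_.ne_eq, _root_.zero_ne_one, _root_.not_false_eq_true, _root_.Matrix.one_apply_ne, _root_.and_self, _root_.Fin.succ_ne_zero, _root_.true_and])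
  have h6 : A = P * (P⁻¹ * A * P) * P⁻¹ := by group
  rw [h6, h5, mul_one, mul_inv_cancel]

/-- strongly orthogonal roots -/
def pairOK (D : ChevalleyDatum) (s s' : ℕ) : Bool :=
  decide (s < D.nroots) && decide (s' < D.nroots) && decide (s' ≠ s) && decide (s' ≠ D.neg s) &&
    decide (s ≠ D.neg s') && decide (D.neg s ≠ D.neg s') &&
    (D.commTerms s s').isEmpty && (D.commTerms (D.neg s) s').isEmpty &&
    (D.commTerms s (D.neg s')).isEmpty && (D.commTerms (D.neg s) (D.neg s')).isEmpty &&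
    decide (HMatDiagAll.expo D s s' = 0) && decide (HMatDiagAll.expo D s' s = 0) &&
    ((List.range D.nroots).any fun r => decide (HMatDiagAll.expo D s r = 1)) &&
    ((List.range D.nroots).any fun r => decide (HMatDiagAll.expo D s' r = 1))

structure POK (D : ChevalleyDatum) (s s' : ℕ) : Prop where
  hs : s < D.nroots
  hs' : s' < D.nroots
  ne : s' ≠ s
  ne1 : s' ≠ D.neg s
  ne2 : s ≠ D.neg s'
  ne3 : D.neg s ≠ D.neg s'
  c1 : (D.commTerms s s').isEmpty = true
  c2 : (D.commTerms (D.neg s) s').isEmpty = true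
  c3 : (D.commTerms s (D.neg s')).isEmpty = true
  c4 : (D.commTerms (D.neg s) (D.neg s')).isEmpty = true
  e1 : HMatDiagAll.expo D s s' = 0
  e2 : HMatDiagAll.expo D s' s = 0
  o1 : ∃ r < D.nroots, HMatDiagAll.expo D s r = 1
  o2 : ∃ r < D.nroots, HMatDiagAll.expo D s' r = 1

theorem POK.of {s s' : ℕ} (h : pairOK D s s' = true) : POK D s s' := by
  unfold pairOK at h
  simp only [Bool.and_eq_true, decide_eq_true_iff] at h
  obtain ⟨⟨⟨⟨⟨⟨⟨⟨⟨⟨⟨⟨⟨h1, h2⟩, h3⟩, h4⟩, h5⟩, h6⟩, h7⟩, h8⟩, h9⟩, h10⟩, h11⟩, h12⟩, h13⟩, h14⟩ := h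
  refine ⟨h1, h2, h3, h4, h5, h6, h7, h8, h9, h10, h11, h12, ?_, ?_⟩
  · obtain ⟨r, hr, h⟩ := List.any_eq_true.1 h13
    exact ⟨r, List.mem_range.1 hr, of_decide_eq_true h⟩
  · obtain ⟨r, hr, h⟩ := List.any_eq_true.1 h14
    exact ⟨r, List.mem_range.1 hr, of_decide_eq_true h⟩

variable {s s' : ℕ} (hP : POK D s s')

include hP in
theorem ph_comm (A B : SL k) : ph hp k hP.hs A * ph hp k hP.hs' B = ph hp k hP.hs' B * ph hp k hP.hs A := by
  have hns := neg_lt hp.inList hP.hs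
  have hns' := neg_lt hp.inList hP.hs'
  have h1 : ∀ u, xs hp.inList s' u ∈ Subgroup.centralizer ((ph hp k hP.hs).range : Set ↥(D.group k)) := fun u =>
    mem_cent hp hP.hs (fun t => Subtype.ext (KFacts.Mult.Chev.commute_of_empty hp hP.hs hP.hs' hP.ne hP.ne1 hP.c1 t u))
      (fun t => Subtype.ext (KFacts.Mult.Chev.commute_of_empty hp hns hP.hs' hP.ne1
        (by rw [neg_neg_eq hp hP.hs]; exact hP.ne) hP.c2 t u))
  have h2 : ∀ u, xs hp.inList (D.neg s') u ∈ Subgroup.centralizer ((ph hp k hP.hs).range : Set ↥(D.group k)) := fun u =>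
    mem_cent hp hP.hs (fun t => Subtype.ext (KFacts.Mult.Chev.commute_of_empty hp hP.hs hns' (Ne.symm hP.ne2)
        (Ne.symm hP.ne3) hP.c3 t u))
      (fun t => Subtype.ext (KFacts.Mult.Chev.commute_of_empty hp hns hns' (Ne.symm hP.ne3)
        (by rw [neg_neg_eq hp hP.hs]; exact Ne.symm hP.ne2) hP.c4 t u))
  have h3 : B ∈ (Subgroup.centralizer ((ph hp k hP.hs).range : Set ↥(D.group k))).comap (ph hp k hP.hs') := by
    refine (Subgroup.closure_le _).2 ?_ (mem_closure_SL2 B)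
    rintro _ (⟨t, rfl⟩ | ⟨t, rfl⟩)
    · rw [SetLike.mem_coe, Subgroup.mem_comap, ph_up]; exact h1 t
    · rw [SetLike.mem_coe, Subgroup.mem_comap, ph_lo]; exact h2 t
  exact Subgroup.mem_centralizer_iff.1 (Subgroup.mem_comap.1 h3) _ ⟨A, rfl⟩

section core

variable {Y : Type v} [Group Y] {f₁ f₂ : SL k →* Y} {C : Subgroup Y}

/-- a central element of `SL₂` -/
theorem central_of (hinj : Function.Injective f₁) {X : SL k} (hX : ∀ A, f₁ X * f₁ A = f₁ A * f₁ X) :
    X ∈ Subgroup.center (SL k) := by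
  rw [Subgroup.mem_center_iff]
  intro A
  apply hinj
  rw [map_mul, map_mul]
  exact (hX A).symm

theorem first_factor (h2 : (2 : k) ≠ 0) (hinj : Function.Injective f₁)
    (hc : ∀ A B, f₁ A * f₂ B = f₂ B * f₁ A) (hCab : ∀ c ∈ C, ∀ d ∈ C, c * d = d * c)
    (hC1 : ∀ c ∈ C, ∀ A, c * f₁ A = f₁ A * c) (hC2 : ∀ c ∈ C, ∀ A, c * f₂ A = f₂ A * c)
    {q : ℕ} (hq : q.Prime) (h5 : 5 ≤ q) {P : Subgroup Y} (hfin : Finite P) (hP : IsPGroup 2 P) {h : Y} {B₁ B₂ : SL k} {e : Y}
    (he : e ∈ C) (hh : h = f₁ B₁ * f₂ B₂ * e) (hB : B₁ ^ q = 1) (hn : ∀ x ∈ P, h * x * h⁻¹ ∈ P) {A B : SL k} {c : Y}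
    (hcC : c ∈ C) (hA : f₁ A * f₂ B * c ∈ P) : B₁ * A = A * B₁ := by
  -- elements `f₂ B * c` commute with `f₁`
  have hbc : ∀ B, ∀ c ∈ C, ∀ A, f₂ B * c * f₁ A = f₁ A * (f₂ B * c) := by
    intro B c hcC A
    rw [mul_assoc, hC1 c hcC, ← mul_assoc, ← hc, mul_assoc]
  let Γ : Subgroup (SL k) :=
    { carrier := {A | ∃ B, ∃ c ∈ C, f₁ A * f₂ B * c ∈ P}
      one_mem' := ⟨1, 1, one_mem _, by simp only [one_mem, _root_.map_one, _root_.mul_one]⟩
      mul_mem' := by
        rintro A A' ⟨B, c, hcC, hA⟩ ⟨B', c', hcC', hA'⟩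
        refine ⟨B * B', c * c', mul_mem hcC hcC', ?_⟩
        have e1 : f₁ (A * A') * f₂ (B * B') * (c * c') = (f₁ A * f₂ B * c) * (f₁ A' * f₂ B' * c') := by
          have h1 := hbc B c hcC A'
          have h3 := hC2 c hcC B'
          calc f₁ (A * A') * f₂ (B * B') * (c * c') = f₁ A * f₁ A' * f₂ B * (f₂ B' * c) * c' := by
                rw [map_mul, map_mul]; group
            _ = f₁ A * f₁ A' * f₂ B * (c * f₂ B') * c' := by rw [h3]
            _ = f₁ A * (f₁ A' * (f₂ B * c)) * f₂ B' * c' := by group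
            _ = f₁ A * (f₂ B * c * f₁ A') * f₂ B' * c' := by rw [h1]
            _ = (f₁ A * f₂ B * c) * (f₁ A' * f₂ B' * c') := by group
        rw [e1]
        exact mul_mem hA hA'
      inv_mem' := by
        rintro A ⟨B, c, hcC, hA⟩
        refine ⟨B⁻¹, c⁻¹, inv_mem hcC, ?_⟩
        have e1 : f₁ A⁻¹ * f₂ B⁻¹ * c⁻¹ = (f₁ A * f₂ B * c)⁻¹ := by
          have h1 : f₁ A * f₂ B * c = c * f₂ B * f₁ A := by rw [hc, mul_assoc, ← hC1 c hcC, ← mul_assoc, hC2 c hcC]
          rw [h1]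
          simp only [mul_assoc, _root_.map_inv, _root_.mul_inv_rev]
        rw [e1]
        exact inv_mem hA }
  have hΓ : ∀ A, A ∈ Γ ↔ ∃ B, ∃ c ∈ C, f₁ A * f₂ B * c ∈ P := fun A => Iff.rfl
  have hZ : ∀ A B c A' B' c', c ∈ C → c' ∈ C → f₁ A * f₂ B * c = f₁ A' * f₂ B' * c' →
      A'⁻¹ * A ∈ Subgroup.center (SL k) := by
    intro A B c A' B' c' hcC hcC' he
    refine central_of hinj fun X => ?_
    have h1 : f₁ (A'⁻¹ * A) = f₂ B' * c' * (f₂ B * c)⁻¹ := by
      rw [map_mul, map_inv, eq_mul_inv_iff_mul_eq, mul_assoc, inv_mul_eq_iff_eq_mul, ← mul_assoc, he, mul_assoc]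
    rw [h1]
    have h3 := hbc B' c' hcC' X
    have h4 := hbc B c hcC X
    calc f₂ B' * c' * (f₂ B * c)⁻¹ * f₁ X = f₂ B' * c' * ((f₂ B * c)⁻¹ * (f₁ X * (f₂ B * c)) * (f₂ B * c)⁻¹) := by group
      _ = f₂ B' * c' * ((f₂ B * c)⁻¹ * (f₂ B * c * f₁ X) * (f₂ B * c)⁻¹) := by rw [h4]
      _ = (f₂ B' * c' * f₁ X) * (f₂ B * c)⁻¹ := by group
      _ = f₁ X * (f₂ B' * c') * (f₂ B * c)⁻¹ := by rw [h3]
      _ = f₁ X * (f₂ B' * c' * (f₂ B * c)⁻¹) := by group
  have hcen : Finite ↥(Subgroup.center (SL k)) := by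
    have e1 := Matrix.SpecialLinearGroup.center_equiv_rootsOfUnity (n := Fin 2) (R := k)
    have : NeZero (max (Fintype.card (Fin 2)) 1) := ⟨by simp⟩
    exact Finite.of_equiv _ e1.symm.toEquiv
  -- `Γ` is finite
  have hΓfin : Finite ↥Γ := by
    choose b hb using fun A : Γ => (hΓ A).1 A.2
    choose c hcc using hb
    let y : Γ → P := fun A => ⟨f₁ A * f₂ (b A) * c A, (hcc A).2⟩
    classical
    let g : P → SL k := fun z => if h : ∃ A : Γ, y A = z then (h.choose : SL k) else 1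
    have hg : ∀ A : Γ, (g (y A))⁻¹ * (A : SL k) ∈ Subgroup.center (SL k) := by
      intro A
      have hex : ∃ A' : Γ, y A' = y A := ⟨A, rfl⟩
      have h3 : g (y A) = (hex.choose : SL k) := dif_pos hex
      rw [h3]
      exact hZ _ _ _ _ _ _ (hcc A).1 (hcc hex.choose).1 (congrArg Subtype.val hex.choose_spec).symm
    refine Finite.of_injective (fun A : Γ => (y A, (⟨_, hg A⟩ : ↥(Subgroup.center (SL k))))) ?_
    intro A A' hAA
    have h3 := congrArg Prod.fst hAA
    have h4 := congrArg (fun z => ((Prod.snd z : ↥(Subgroup.center (SL k))) : SL k)) hAA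
    simp only at h3 h4
    rw [h3] at h4
    exact Subtype.ext (mul_left_cancel h4)
  have hpw : ∀ (A B : SL k) (c : Y), c ∈ C → ∀ n : ℕ, (f₁ A * f₂ B * c) ^ n = f₁ (A ^ n) * f₂ (B ^ n) * c ^ n := by
    intro A B c hcC n
    have h3 : Commute (f₁ A) (f₂ B * c) := by
      have := hbc B c hcC A
      exact this.symm
    have h4 : Commute (f₂ B) c := (hC2 c hcC B).symm
    rw [mul_assoc, h3.mul_pow, h4.mul_pow, map_pow, map_pow, mul_assoc]
  have hΓ2 : IsPGroup 2 ↥Γ := by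
    rintro ⟨A, hA⟩
    obtain ⟨B, c, hcC, hA'⟩ := (hΓ A).1 hA
    obtain ⟨n, hn'⟩ := hP ⟨_, hA'⟩
    have h3 : (f₁ A * f₂ B * c) ^ 2 ^ n = 1 := congrArg Subtype.val hn'
    rw [hpw A B c hcC] at h3
    have h4 := hZ (A ^ 2 ^ n) (B ^ 2 ^ n) (c ^ 2 ^ n) 1 1 1 (pow_mem hcC _) (one_mem _) (by rw [h3]; simp)
    rw [inv_one, one_mul] at h4
    have h6 : (A ^ 2 ^ n) ^ 2 = 1 := sq_of_comm (Subgroup.mem_center_iff.1 h4 _).symm (Subgroup.mem_center_iff.1 h4 _).symm
    refine ⟨n + 1, Subtype.ext ?_⟩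
    show A ^ 2 ^ (n + 1) = 1
    rw [pow_succ, pow_mul, h6]
  refine comm_of_two h2 hq h5 Γ hΓfin hΓ2 B₁ hB (fun A hA => ?_) A ⟨B, c, hcC, hA⟩
  obtain ⟨B, c, hcC, hA'⟩ := (hΓ A).1 hA
  refine ⟨B₂ * B * B₂⁻¹, c, hcC, ?_⟩
  have h3 := hn _ hA'
  have e1 : f₁ (B₁ * A * B₁⁻¹) * f₂ (B₂ * B * B₂⁻¹) * c = h * (f₁ A * f₂ B * c) * h⁻¹ := by
    have g1 := hbc B₂ e he A
    have g2 := hCab c hcC e he
    have g3 : ∀ X, e * f₂ X = f₂ X * e := fun X => hC2 e he X
    have g4 : ∀ X, e * f₁ X = f₁ X * e := fun X => hC1 e he X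
    have g5 : ∀ X, c * f₂ X = f₂ X * c := fun X => hC2 c hcC X
    have g6 : ∀ X, c * f₁ X = f₁ X * c := fun X => hC1 c hcC X
    have k1 : h * (f₁ A * f₂ B * c) = f₁ (B₁ * A) * f₂ (B₂ * B) * c * e := by
      rw [hh, map_mul, map_mul]
      calc f₁ B₁ * f₂ B₂ * e * (f₁ A * f₂ B * c) = f₁ B₁ * f₂ B₂ * (e * f₁ A) * f₂ B * c := by group
        _ = f₁ B₁ * f₂ B₂ * (f₁ A * e) * f₂ B * c := by rw [g4]
        _ = f₁ B₁ * (f₂ B₂ * f₁ A) * (e * f₂ B) * c := by group
        _ = f₁ B₁ * (f₁ A * f₂ B₂) * (f₂ B * e) * c := by rw [← hc, g3]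
        _ = f₁ B₁ * f₁ A * (f₂ B₂ * f₂ B) * (e * c) := by group
        _ = f₁ B₁ * f₁ A * (f₂ B₂ * f₂ B) * (c * e) := by rw [g2]
        _ = f₁ B₁ * f₁ A * (f₂ B₂ * f₂ B) * c * e := by group
    have k2 : f₁ (B₁ * A * B₁⁻¹) * f₂ (B₂ * B * B₂⁻¹) * c * h = f₁ (B₁ * A) * f₂ (B₂ * B) * c * e := by
      have e5 : ∀ X X', f₂ X * f₁ X' = f₁ X' * f₂ X := fun X X' => (hc X' X).symm
      rw [hh]
      calc f₁ (B₁ * A * B₁⁻¹) * f₂ (B₂ * B * B₂⁻¹) * c * (f₁ B₁ * f₂ B₂ * e)
          = f₁ (B₁ * A * B₁⁻¹) * f₂ (B₂ * B * B₂⁻¹) * (c * f₁ B₁) * f₂ B₂ * e := by group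
        _ = f₁ (B₁ * A * B₁⁻¹) * f₂ (B₂ * B * B₂⁻¹) * (f₁ B₁ * c) * f₂ B₂ * e := by rw [g6]
        _ = f₁ (B₁ * A * B₁⁻¹) * (f₂ (B₂ * B * B₂⁻¹) * f₁ B₁) * (c * f₂ B₂) * e := by group
        _ = f₁ (B₁ * A * B₁⁻¹) * (f₁ B₁ * f₂ (B₂ * B * B₂⁻¹)) * (f₂ B₂ * c) * e := by rw [e5, g5]
        _ = (f₁ (B₁ * A * B₁⁻¹) * f₁ B₁) * (f₂ (B₂ * B * B₂⁻¹) * f₂ B₂) * c * e := by group
        _ = f₁ (B₁ * A) * f₂ (B₂ * B) * c * e := by
          rw [← map_mul, ← map_mul, inv_mul_cancel_right, inv_mul_cancel_right]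
    rw [k1, ← k2, mul_inv_cancel_right]
  rw [e1]
  exact h3

/-- both factors -/
theorem both (h2 : (2 : k) ≠ 0) (hinj1 : Function.Injective f₁) (hinj2 : Function.Injective f₂)
    (hc : ∀ A B, f₁ A * f₂ B = f₂ B * f₁ A) (hCab : ∀ c ∈ C, ∀ d ∈ C, c * d = d * c)
    (hC1 : ∀ c ∈ C, ∀ A, c * f₁ A = f₁ A * c) (hC2 : ∀ c ∈ C, ∀ A, c * f₂ A = f₂ A * c)
    {q : ℕ} (hq : q.Prime) (h5 : 5 ≤ q) {P : Subgroup Y} (hfin : Finite P) (hP : IsPGroup 2 P) {h : Y} {B₁ B₂ : SL k} {e : Y}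
    (he : e ∈ C) (hh : h = f₁ B₁ * f₂ B₂ * e) (hB : B₁ ^ q = 1) (hB' : B₂ ^ q = 1) (hn : ∀ x ∈ P, h * x * h⁻¹ ∈ P)
    {A B : SL k} {c : Y} (hcC : c ∈ C) (hA : f₁ A * f₂ B * c ∈ P) :
    h * (f₁ A * f₂ B * c) = (f₁ A * f₂ B * c) * h := by
  have h3 := first_factor h2 hinj1 hc hCab hC1 hC2 hq h5 hfin hP he hh hB hn hcC hA
  have h4 := first_factor h2 hinj2 (fun A B => (hc B A).symm) hCab hC2 hC1 hq h5 hfin hP he
    (by rw [hh, hc]) hB' hn hcC (A := B) (B := A) (by rw [← hc]; exact hA)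
  have g2 := hCab c hcC e he
  have k1 : h * (f₁ A * f₂ B * c) = f₁ (B₁ * A) * f₂ (B₂ * B) * (e * c) := by
    rw [hh, map_mul, map_mul]
    calc f₁ B₁ * f₂ B₂ * e * (f₁ A * f₂ B * c) = f₁ B₁ * f₂ B₂ * (e * f₁ A) * f₂ B * c := by group
      _ = f₁ B₁ * f₂ B₂ * (f₁ A * e) * f₂ B * c := by rw [hC1 e he]
      _ = f₁ B₁ * (f₂ B₂ * f₁ A) * (e * f₂ B) * c := by group
      _ = f₁ B₁ * (f₁ A * f₂ B₂) * (f₂ B * e) * c := by rw [← hc, hC2 e he]
      _ = f₁ B₁ * f₁ A * (f₂ B₂ * f₂ B) * (e * c) := by group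
  have k2 : (f₁ A * f₂ B * c) * h = f₁ (A * B₁) * f₂ (B * B₂) * (c * e) := by
    rw [hh, map_mul, map_mul]
    calc f₁ A * f₂ B * c * (f₁ B₁ * f₂ B₂ * e) = f₁ A * f₂ B * (c * f₁ B₁) * f₂ B₂ * e := by group
      _ = f₁ A * f₂ B * (f₁ B₁ * c) * f₂ B₂ * e := by rw [hC1 c hcC]
      _ = f₁ A * (f₂ B * f₁ B₁) * (c * f₂ B₂) * e := by group
      _ = f₁ A * (f₁ B₁ * f₂ B) * (f₂ B₂ * c) * e := by rw [← hc, hC2 c hcC]
      _ = f₁ A * f₁ B₁ * (f₂ B * f₂ B₂) * (c * e) := by group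
  rw [k1, k2, h3, h4, g2]

end core

/-! ### the application -/

/-- the elements of the torus commuting with both groups -/
noncomputable def CC (hP : POK D s s') : Subgroup ↥(D.group k) :=
  TT D k ⊓ (Subgroup.centralizer ((ph hp k hP.hs).range : Set ↥(D.group k)) ⊓
    Subgroup.centralizer ((ph hp k hP.hs').range : Set ↥(D.group k)))

include hP in
theorem cc_comm1 {c : ↥(D.group k)} (hc : c ∈ CC hp hP) (A : SL k) : c * ph hp k hP.hs A = ph hp k hP.hs A * c :=
  (Subgroup.mem_centralizer_iff.1 hc.2.1 _ ⟨A, rfl⟩).symm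

include hP in
theorem cc_comm2 {c : ↥(D.group k)} (hc : c ∈ CC hp hP) (A : SL k) : c * ph hp k hP.hs' A = ph hp k hP.hs' A * c :=
  (Subgroup.mem_centralizer_iff.1 hc.2.2 _ ⟨A, rfl⟩).symm

/-- `L₁ L₂ T` -/
noncomputable def MG (hP : POK D s s') : Subgroup ↥(D.group k) where
  carrier := {g | ∃ A B : SL k, ∃ c ∈ CC hp (k := k) hP, g = ph hp k hP.hs A * ph hp k hP.hs' B * c}
  one_mem' := ⟨1, 1, 1, one_mem _, by simp only [_root_.map_one, _root_.mul_one]⟩
  mul_mem' := by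
    rintro _ _ ⟨A, B, c, hc, rfl⟩ ⟨A', B', c', hc', rfl⟩
    refine ⟨A * A', B * B', c * c', mul_mem hc hc', ?_⟩
    rw [map_mul, map_mul]
    calc ph hp k hP.hs A * ph hp k hP.hs' B * c * (ph hp k hP.hs A' * ph hp k hP.hs' B' * c')
        = ph hp k hP.hs A * ph hp k hP.hs' B * (c * ph hp k hP.hs A') * ph hp k hP.hs' B' * c' := by group
      _ = ph hp k hP.hs A * ph hp k hP.hs' B * (ph hp k hP.hs A' * c) * ph hp k hP.hs' B' * c' := by
          rw [cc_comm1 hp hP hc]
      _ = ph hp k hP.hs A * (ph hp k hP.hs' B * ph hp k hP.hs A') * (c * ph hp k hP.hs' B') * c' := by group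
      _ = ph hp k hP.hs A * (ph hp k hP.hs A' * ph hp k hP.hs' B) * (ph hp k hP.hs' B' * c) * c' := by
          rw [← ph_comm hp hP, cc_comm2 hp hP hc]
      _ = ph hp k hP.hs A * ph hp k hP.hs A' * (ph hp k hP.hs' B * ph hp k hP.hs' B') * (c * c') := by group
  inv_mem' := by
    rintro _ ⟨A, B, c, hc, rfl⟩
    refine ⟨A⁻¹, B⁻¹, c⁻¹, inv_mem hc, ?_⟩
    have h1 : ph hp k hP.hs A * ph hp k hP.hs' B * c = c * ph hp k hP.hs' B * ph hp k hP.hs A := by
      rw [ph_comm hp hP, mul_assoc, ← cc_comm1 hp hP hc, ← mul_assoc, cc_comm2 hp hP hc]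
    rw [h1]
    simp only [mul_assoc, _root_.mul_inv_rev, _root_.map_inv]

theorem mem_MG {g : ↥(D.group k)} : g ∈ MG hp (k := k) hP ↔
    ∃ A B : SL k, ∃ c ∈ CC hp (k := k) hP, g = ph hp k hP.hs A * ph hp k hP.hs' B * c := Iff.rfl

theorem hS_pow {c : k} (hc : c ≠ 0) (n : ℕ) : (hS c : SL k) ^ n = hS (c ^ n) := by
  induction n with
  | zero =>
    rw [pow_zero, pow_zero]
    apply Subtype.ext
    rw [coe_hS one_ne_zero]
    ext a b
    (revert a b; simp only [_root_.Fin.forall_fin_succ, _root_.Matrix.SpecialLinearGroup.coe_one, _root_.inv_one, _root_.Matrix.of_apply, _root_.Matrix.cons_val', _root_.Matrix.cons_val_fin_one, Fin.isValue, _root_.Matrix.cons_val_zero, _root_.Matrix.cons_val_succ, _root_.IsEmpty.forall_iff, _root_.and_true, _root_.Matrix.one_apply_eq, Nat.reduceAdd, _root_.Fin.succ_zero_eq_one, _root_.ne_eq, _root_.zero_ne_one, _root_.not_false_eq_true, _root_.Matrix.one_apply_ne, _root_.and_self, _root_.Fin.succ_ne_zero, _root_.true_and])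
  | succ n ih =>
    rw [pow_succ, ih, pow_succ]
    obtain ⟨u1, u2, u3, u4⟩ := hS_entries (pow_ne_zero n hc)
    obtain ⟨v1, v2, v3, v4⟩ := hS_entries hc
    obtain ⟨w1, w2, w3, w4⟩ := hS_entries (mul_ne_zero (pow_ne_zero n hc) hc)
    refine sl_ext ?_ ?_ ?_ ?_
    · rw [mul00, u1, v1, u2, v3, w1]; ring
    · rw [mul01, u1, v2, u2, v4, w2]; ring
    · rw [mul10, u3, v1, u4, v3, w3]; ring
    · rw [mul11, u3, v2, u4, v4, w4, mul_inv]; ring

theorem hS_one : (hS (1 : k) : SL k) = 1 := by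
  have := hS_pow (k := k) (c := 1) one_ne_zero 0
  rw [pow_zero, pow_zero] at this
  exact this.symm

include hP in
/-- the torus lies in `MG`; version with prescribed square roots -/
theorem TT_decomp (p : ℕ) [Fact p.Prime] [CharP k p] (hk : LocFin k) {t : ↥(D.group k)} (ht : t ∈ TT D k)
    {μ μ' : k} (h0 : μ ≠ 0) (h0' : μ' ≠ 0) (hμ : μ ^ 2 = ch hp (vec D l s) t) (hμ' : μ' ^ 2 = ch hp (vec D l s') t) :
    (ph hp k hP.hs (hS μ) * ph hp k hP.hs' (hS μ'))⁻¹ * t ∈ CC hp (k := k) hP := by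
  have m1 := ph_hS_mem hp (k := k) hP.hs h0
  have m2 := ph_hS_mem hp (k := k) hP.hs' h0'
  have m3 := mul_mem m1 m2
  set c := (ph hp k hP.hs (hS μ) * ph hp k hP.hs' (hS μ'))⁻¹ * t with hc
  have hcT : c ∈ TT D k := mul_mem (inv_mem m3) ht
  have hself : ∀ r, HMatDiagAll.expo D r r = 2 := fun r => by unfold HMatDiagAll.expo; rw [if_pos rfl]
  have e1 : ch hp (vec D l s) c = 1 := by
    have h2 := ch_mul hp p hk hP.hs m3 hcT
    rw [hc, mul_inv_cancel_left, ch_mul hp p hk hP.hs m1 m2, ch_ph_hS hp hP.hs p hk h0 hP.hs,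
      ch_ph_hS hp hP.hs' p hk h0' hP.hs, hself, hP.e2, zpow_zero, mul_one, ← hμ] at h2
    have h4 : μ ^ (2 : ℤ) = μ ^ 2 := by norm_cast
    rw [h4] at h2
    exact (mul_eq_left₀ (pow_ne_zero 2 h0)).1 h2.symm
  have e2 : ch hp (vec D l s') c = 1 := by
    have h2 := ch_mul hp p hk hP.hs' m3 hcT
    rw [hc, mul_inv_cancel_left, ch_mul hp p hk hP.hs' m1 m2, ch_ph_hS hp hP.hs p hk h0 hP.hs',
      ch_ph_hS hp hP.hs' p hk h0' hP.hs', hself, hP.e1, zpow_zero, one_mul, ← hμ'] at h2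
    have h4 : μ' ^ (2 : ℤ) = μ' ^ 2 := by norm_cast
    rw [h4] at h2
    exact (mul_eq_left₀ (pow_ne_zero 2 h0')).1 h2.symm
  refine ⟨hcT, mem_cent hp hP.hs (comm_xs_of_ch hp hP.hs hcT e1) (comm_xs_of_ch hp (neg_lt hp.inList hP.hs) hcT ?_),
    mem_cent hp hP.hs' (comm_xs_of_ch hp hP.hs' hcT e2) (comm_xs_of_ch hp (neg_lt hp.inList hP.hs') hcT ?_)⟩
  · rw [ch_neg hp hP.hs p hk hcT, e1, inv_one]
  · rw [ch_neg hp hP.hs' p hk hcT, e2, inv_one]

include hP in
theorem TT_le_MG [IsAlgClosed k] (p : ℕ) [Fact p.Prime] [CharP k p] (hk : LocFin k) : TT D k ≤ MG hp (k := k) hP := by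
  intro t ht
  obtain ⟨μ, hμ⟩ := IsAlgClosed.exists_pow_nat_eq (ch hp (vec D l s) t) (show 0 < 2 by norm_num)
  obtain ⟨μ', hμ'⟩ := IsAlgClosed.exists_pow_nat_eq (ch hp (vec D l s') t) (show 0 < 2 by norm_num)
  have h0 : μ ≠ 0 := by
    rintro rfl
    exact (act hp hP.hs ht).1 (by rw [← hμ, zero_pow (by norm_num)])
  have h0' : μ' ≠ 0 := by
    rintro rfl
    exact (act hp hP.hs' ht).1 (by rw [← hμ', zero_pow (by norm_num)])
  exact ⟨hS μ, hS μ', _, TT_decomp hp hP p hk ht h0 h0' hμ hμ', by rw [mul_inv_cancel_left]⟩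

include hP in
theorem X_le_MG {r : ℕ} (hr : r = s ∨ r = D.neg s ∨ r = s' ∨ r = D.neg s') :
    XX D l k (vec D l r) ≤ MG hp (k := k) hP := by
  have hr' : r < D.nroots := by
    rcases hr with rfl | rfl | rfl | rfl
    · exact hP.hs
    · exact neg_lt hp.inList hP.hs
    · exact hP.hs'
    · exact neg_lt hp.inList hP.hs'
  intro y hy
  obtain ⟨t, ht⟩ := (LangThm.mem_XX_vec hp hr').1 hy
  have hy' : y = xs hp.inList r t := Subtype.ext ht
  subst hy'
  rcases hr with rfl | rfl | rfl | rfl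
  · exact ⟨up t, 1, 1, one_mem _, by rw [ph_up, map_one, mul_one, mul_one]⟩
  · exact ⟨lo t, 1, 1, one_mem _, by rw [ph_lo, map_one, mul_one, mul_one]⟩
  · exact ⟨1, up t, 1, one_mem _, by rw [ph_up, map_one, one_mul, mul_one]⟩
  · exact ⟨1, lo t, 1, one_mem _, by rw [ph_lo, map_one, one_mul, mul_one]⟩

include hP in
/-- **The core**: a toral element of prime order `q ≥ 5` centralises the 2-subgroups of `L₁ L₂ T` which it normalises. -/
theorem two_core [IsAlgClosed k] (h2 : (2 : k) ≠ 0) (p : ℕ) [Fact p.Prime] [CharP k p] (hk : LocFin k)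
    (hTab : ∀ x ∈ TT D k, ∀ y ∈ TT D k, x * y = y * x)
    {q : ℕ} (hq : q.Prime) (h5 : 5 ≤ q) {P : Subgroup ↥(D.group k)} (hfin : Finite P) (hP2 : IsPGroup 2 P)
    (hPM : P ≤ MG hp (k := k) hP) {h : ↥(D.group k)} (hh : h ∈ TT D k) (hhq : h ^ q = 1)
    (hn : ∀ x ∈ P, h * x * h⁻¹ ∈ P) : ∀ x ∈ P, h * x = x * h := by
  intro x hx
  obtain ⟨A, B, c, hc, rfl⟩ := (mem_MG hp hP).1 (hPM hx)
  obtain ⟨m, hm⟩ : ∃ m, q + 1 = 2 * m := by
    have : Odd q := hq.odd_of_ne_two (by omega)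
    obtain ⟨j, hj⟩ := this
    exact ⟨j + 1, by omega⟩
  have root : ∀ a : k, a ^ q = 1 → (a ^ m) ^ 2 = a := by
    intro a ha
    rw [← pow_mul, mul_comm, ← hm, pow_succ, ha, one_mul]
  have root' : ∀ a : k, a ^ q = 1 → (a ^ m) ^ q = 1 := by
    intro a ha
    rw [← pow_mul, mul_comm, pow_mul, ha, one_pow]
  have hα : ch hp (vec D l s) h ^ q = 1 := by
    rw [← _root_.Cfsg.Agent.H167.EX.ch_pow hp p hk hP.hs hh, hhq, ch_one hp p hk hP.hs]
  have hβ : ch hp (vec D l s') h ^ q = 1 := by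
    rw [← _root_.Cfsg.Agent.H167.EX.ch_pow hp p hk hP.hs' hh, hhq, ch_one hp p hk hP.hs']
  have h0 : ch hp (vec D l s) h ^ m ≠ 0 := pow_ne_zero _ (act hp hP.hs hh).1
  have h0' : ch hp (vec D l s') h ^ m ≠ 0 := pow_ne_zero _ (act hp hP.hs' hh).1
  have he := TT_decomp hp hP p hk hh h0 h0' (root _ hα) (root _ hβ)
  obtain ⟨r1, hr1, o1⟩ := hP.o1
  obtain ⟨r2, hr2, o2⟩ := hP.o2
  refine both (f₁ := ph hp k hP.hs) (f₂ := ph hp k hP.hs') (C := CC hp (k := k) hP) h2
    ((injective_iff_map_eq_one _).2 fun A hA => ph_inj hp hP.hs h2 p hk hr1 o1 hA)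
    ((injective_iff_map_eq_one _).2 fun A hA => ph_inj hp hP.hs' h2 p hk hr2 o2 hA)
    (ph_comm hp hP) (fun c hc d hd => hTab c hc.1 d hd.1) (fun c hc A => cc_comm1 hp hP hc A)
    (fun c hc A => cc_comm2 hp hP hc A) hq h5 hfin hP2
    (h := h) (B₁ := hS (ch hp (vec D l s) h ^ m)) (B₂ := hS (ch hp (vec D l s') h ^ m)) he
    (by rw [mul_inv_cancel_left]) ?_ ?_ hn hc hx
  · rw [hS_pow (pow_ne_zero _ (act hp hP.hs hh).1), root' _ hα, hS_one]
  · rw [hS_pow (pow_ne_zero _ (act hp hP.hs' hh).1), root' _ hβ, hS_one]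

end Cfsg.Agent.H554.BS
end

-- part: H554/BS/RegOm
section
/-!
# Regular toral `q`-subgroups of `D.group k` (helper554)
-/

set_option autoImplicit false
set_option linter.unusedSectionVars false

namespace Cfsg.Agent.H554.BS

open CoxeterSystem Cfsg Cfsg.Lie Cfsg.Lie.ChevalleyDatum
open Cfsg.Agent.ChevalleyStructure Cfsg.Agent.ChevalleyStructure.Elts Cfsg.Agent.ChevalleyStructure.CoxeterGeom
  Cfsg.Agent.ChevalleyStructure.CoxeterGeomTypes Cfsg.Agent.ChevalleyStructure.NPerm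
open Cfsg.Agent.Tits.Roots Cfsg.Agent.Tits.Core Cfsg.Agent.Nodes Cfsg.Agent.Nodes.Reps Cfsg.Agent.Nodes.BNOf
  Cfsg.Agent.Nodes.RGDChev Cfsg.Agent.Nodes.Bruhat Cfsg.Agent.Nodes.NormalForm
open Cfsg.Agent.KFacts.RgdField Cfsg.Agent.KFacts.RgdChevCoord
open Cfsg.Agent.BpExc Cfsg.Agent.BpExc.TorCent Cfsg.Agent.BpExc.TorChev Cfsg.Agent.BpExc.Tow
  Cfsg.Agent.BpExc.TowChev Cfsg.Agent.BpExc.Fr Cfsg.Agent.BpExc.Pair Cfsg.Agent.BpExc.LangFr Cfsg.Agent.GpExc.Field
  Cfsg.Agent.BpExc.TorAll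
open Cfsg.Agent.H469.Exc Cfsg.Agent.H469.Exc.SigFr
open Cfsg.Agent.Nodes.RGDFoldSL
open Cfsg.Agent.ChevalleyStructure.SL2Hom (up lo mem_closure_SL2)
open Cfsg.Agent.H167.EX Cfsg.Agent.H795.LangT Cfsg.Agent.H129.TorusChar
open scoped commutatorElement Pointwise

universe u v

variable {D : ChevalleyDatum} {l : ℕ} {M : CoxeterMatrix (Fin l)} (hp : IsType D l M) {k : Type u} [Field k]
  (hk : LocFin k) {p : ℕ} [Fact p.Prime] [CharP k p]

/-- combinatorial conditions on a toral `q`-group `Om` -/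
structure OmOK (p : ℕ) [Fact p.Prime] [CharP k p] (q : ℕ) (Om : Subgroup ↥(D.group k)) : Prop where
  le : Om ≤ TT D k
  fin : Finite Om
  exp : ∀ h ∈ Om, h ^ q = 1
  noroot : ∀ r < D.nroots, ∃ h ∈ Om, ch hp (vec D l r) h ≠ 1
  hyper : ∀ R : Subgroup ↥(D.group k), R ≤ Om → PairP q Om R →
    ∃ (w : M.Group) (s s' : ℕ) (_ : POK D s s'), ∀ a, IsRoot M.toCoxeterSystem hp.isCartan a →
      (∀ h ∈ R, ch hp a h = 1) → ∃ r, (r = s ∨ r = D.neg s ∨ r = s' ∨ r = D.neg s') ∧
        rep M.toCoxeterSystem hp.isCartan w a = vec D l r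
  quad : ∀ w b, Rp M.toCoxeterSystem (tow hp M.toCoxeterSystem hk p).nsys w b → (∀ t ∈ Om, ⁅⁅t, b⁆, b⁆ = 1) → w = 1

variable {hp hk} {q : ℕ} {Om : Subgroup ↥(D.group k)}

theorem TTab (hp : IsType D l M) : ∀ x ∈ TT D k, ∀ y ∈ TT D k, x * y = y * x := TT_comm hp (K := k)

/-- **Regularity.** -/
theorem OmOK.reg [IsAlgClosed k] (h2 : (2 : k) ≠ 0) (hq : q.Prime) (h5 : 5 ≤ q) (hO : OmOK hp hk p q Om)
    (h0 : 0 < D.nroots) : Reg Om (TT D k) := by
  classical
  have hWf := finite_W hp (M.toCoxeterSystem)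
  have H := tow hp M.toCoxeterSystem hk p
  have C : Coords M.toCoxeterSystem hp.isCartan (TL (Tj hp (k := k))) (nc hp k) (XL (Xj hp)) (xc hp) (ch hp) := by
    rw [TL_eq hp hk, XL_eq hp hk]
    exact coordsL hp M.toCoxeterSystem hk p
  have hGt := GG_eq_top hp M.toCoxeterSystem hk
  have hTL := TL_eq (k := k) hp hk
  refine ⟨?_, ?_, ?_⟩
  · -- the centraliser
    intro x hx
    have := hO.fin
    obtain ⟨m, hm, w, n, hn, hnZ, e⟩ := H795.SetCent.exists_form_centralizer H C hGt (Z := (Om : Set ↥(D.group k)))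
      (Set.toFinite _) (fun t ht => by rw [hTL]; exact hO.le ht) (c := x) (fun t ht => hx t ht)
    have hS : H795.SetCent.SxZ M.toCoxeterSystem hp.isCartan (ch hp) (Om : Set ↥(D.group k)) = ∅ := by
      rw [Set.eq_empty_iff_forall_notMem]
      intro a ha
      obtain ⟨r, hr, rfl⟩ := (isRoot_iff hp M.toCoxeterSystem a).1 ha.1
      obtain ⟨h, hh, hne⟩ := hO.noroot r hr
      exact hne (ha.2 h hh)
    have hm1 : m = 1 := by
      have h1 : H795.SetCent.MMZ M.toCoxeterSystem hp.isCartan (XL (Xj hp (k := k))) (ch hp) (Om : Set ↥(D.group k)) ≤ ⊥ := by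
        refine RGD.Sup_le fun a ha => ?_
        rw [hS] at ha
        exact absurd ha (Set.notMem_empty a)
      exact Subgroup.mem_bot.1 (h1 hm)
    rw [hm1, one_mul] at e
    have hw : w = 1 := hO.quad w n hn fun t ht => by
      have h3 : ⁅t, n⁆ = 1 := by rw [commutatorElement_eq_one_iff_mul_comm]; exact (hnZ t ht).symm
      rw [h3, commutatorElement_one_left]
    subst hw
    have := hn.mem_of_one
    rw [hTL] at this
    rw [e]
    exact this
  · -- quadratic action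
    intro b hb hquad
    obtain ⟨w, hw⟩ := exists_rp_of_normalizes hp hk (r := p) hb
    have hw1 := hO.quad w b hw hquad
    subst hw1
    have := hw.mem_of_one
    rwa [hTL] at this
  · -- two-groups
    intro P hPfin hP2 hn
    have hne : Om ≠ ⊥ := by
      intro h
      obtain ⟨g, hg, hg1⟩ := hO.noroot 0 h0
      rw [h, Subgroup.mem_bot] at hg
      rw [hg] at hg1
      exact hg1 (ch_one hp p hk h0)
    have hab : ∀ x ∈ Om, ∀ y ∈ Om, x * y = y * x := fun x hx y hy => TTab hp x (hO.le hx) y (hO.le hy)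
    have key : P ≤ Subgroup.centralizer (Om : Set ↥(D.group k)) := by
      refine gen_fix hq (by omega) hab hO.exp hO.fin hne hPfin hP2 hn fun R hR hpair x hx hxR => ?_
      obtain ⟨w, s, s', hs, hroots⟩ := hO.hyper R hR hpair
      obtain ⟨n, hnw⟩ := exists_rp M.toCoxeterSystem (tow hp M.toCoxeterSystem hk p).nsys w
      -- the fixed points of `R` on `P`
      let P₁ : Subgroup ↥(D.group k) := P ⊓ Subgroup.centralizer (R : Set ↥(D.group k))
      have hP₁P : P₁ ≤ P := inf_le_left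
      have hP₁2 : IsPGroup 2 ↥P₁ := hP2.to_le hP₁P
      have hnn : ∀ t ∈ Om, ∀ x ∈ P₁, t * x * t⁻¹ ∈ P₁ := by
        intro t ht x hx0
        obtain ⟨hx, hx'⟩ := Subgroup.mem_inf.1 hx0
        rw [Subgroup.mem_centralizer_iff] at hx'
        refine Subgroup.mem_inf.2 ⟨hn t ht x hx, Subgroup.mem_centralizer_iff.2 ?_⟩
        intro r hr
        have h3 := hx' r hr
        have h4 := hab r (hR hr) t ht
        calc r * (t * x * t⁻¹) = (r * t) * x * t⁻¹ := by group
          _ = t * (r * x) * t⁻¹ := by rw [h4]; group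
          _ = t * (x * r) * t⁻¹ := by rw [h3]
          _ = t * x * t⁻¹ * (t * r * t⁻¹) := by group
          _ = t * x * t⁻¹ * r := by rw [← h4]; group
      -- `n P₁ n⁻¹ ≤ MG`
      have hMG : ∀ x ∈ P₁, n * x * n⁻¹ ∈ MG hp (k := k) hs := by
        intro x hx
        obtain ⟨m, hm⟩ := pow_mem_set hp hk p (S := (R : Set ↥(D.group k))) (fun t ht => hO.le (hR ht)) hq
          (fun t ht => ⟨1, by rw [pow_one]; exact hO.exp t (hR ht)⟩) (g := x)
          (fun t ht => ((Subgroup.mem_centralizer_iff.1 hx.2) t ht).symm)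
        have hle : SetC.MMs M.toCoxeterSystem hp.isCartan (XX D l k) (ch hp) (R : Set ↥(D.group k)) ⊔ TT D k ≤
            (MG hp (k := k) hs).comap (MulAut.conj n).toMonoidHom := by
          refine sup_le (RGD.Sup_le fun a ha => ?_) ?_
          · obtain ⟨r, hr, hra⟩ := hroots a ha.1 ha.2
            intro y hy
            show n * y * n⁻¹ ∈ MG hp (k := k) hs
            refine X_le_MG hp hs hr ?_
            rw [← hra]
            have hF := Fr.conj H hnw
            have h3 := (hF.map a ha.1 y).2 (by rw [XL_eq hp hk]; exact hy)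
            rw [XL_eq hp hk] at h3
            exact h3
          · intro t ht
            exact TT_le_MG hp hs p hk (rp_conj_mem hp hk hnw ht)
        have h3 := hle hm
        have h4 : n * (x ^ q ^ m) * n⁻¹ ∈ MG hp (k := k) hs := h3
        have hcop : Nat.Coprime (orderOf (n * x * n⁻¹)) (q ^ m) := by
          refine Nat.Coprime.pow_right m ?_
          obtain ⟨j, hj⟩ := hP₁2 ⟨x, hx⟩
          have h6 : (n * x * n⁻¹) ^ 2 ^ j = 1 := by
            rw [conj_pow, show x ^ 2 ^ j = 1 from congrArg Subtype.val hj, mul_one, mul_inv_cancel]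
          refine Nat.Coprime.coprime_dvd_left (orderOf_dvd_of_pow_eq_one h6) ?_
          exact Nat.Coprime.pow_left _ ((Nat.coprime_primes Nat.prime_two hq).2 (by omega))
        have h5 : n * x * n⁻¹ ∈ Subgroup.zpowers ((n * x * n⁻¹) ^ q ^ m) := mem_zpowers_pow_iff.2 hcop.symm
        rw [conj_pow] at h5
        exact (Subgroup.zpowers_le.2 h4) h5
      rw [Subgroup.mem_centralizer_iff]
      intro t ht
      have hxP₁ : x ∈ P₁ := Subgroup.mem_inf.2 ⟨hx, Subgroup.mem_centralizer_iff.2 hxR⟩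
      -- apply the core to the conjugates
      have hfin' : Finite ↥(MulAut.conj n • P₁) := by
        have h7 : (P₁ : Set ↥(D.group k)).Finite := Set.Finite.subset (Set.toFinite (P : Set ↥(D.group k))) hP₁P
        exact ((h7.image (fun x => MulAut.conj n • x)).to_subtype :)
      have h8 := two_core hp hs h2 p hk (TTab hp) hq h5 (P := MulAut.conj n • P₁) hfin' (by
          rintro ⟨y, hy⟩
          obtain ⟨z, hz, rfl⟩ := hy
          obtain ⟨j, hj⟩ := hP₁2 ⟨z, hz⟩
          refine ⟨j, Subtype.ext ?_⟩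
          show (n * z * n⁻¹) ^ 2 ^ j = 1
          rw [conj_pow, show z ^ 2 ^ j = 1 from congrArg Subtype.val hj, mul_one, mul_inv_cancel])
        (by
          rintro _ ⟨z, hz, rfl⟩
          exact hMG z hz)
        (h := n * t * n⁻¹) (rp_conj_mem hp hk hnw (hO.le ht)) (by
          rw [conj_pow, hO.exp t ht, mul_one, mul_inv_cancel])
        (by
          rintro _ ⟨z, hz, rfl⟩
          refine ⟨t * z * t⁻¹, hnn t ht z hz, ?_⟩
          show n * (t * z * t⁻¹) * n⁻¹ = n * t * n⁻¹ * (n * z * n⁻¹) * (n * t * n⁻¹)⁻¹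
          group)
        (n * x * n⁻¹) ⟨x, hxP₁, rfl⟩
      calc t * x = n⁻¹ * ((n * t * n⁻¹) * (n * x * n⁻¹)) * n := by group
        _ = n⁻¹ * ((n * x * n⁻¹) * (n * t * n⁻¹)) * n := by rw [h8]
        _ = x * t := by group
    intro t ht x hx
    exact (Subgroup.mem_centralizer_iff.1 (key hx)) t ht

end Cfsg.Agent.H554.BS
end

-- part: H554/BS/Sigma
section
/-!
# Twisting by products of reflections (helper554)

* `cX_ph_hS`, `cX_wE` : the characters of `ph (hS c)` and of the reflection conjugates;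
* `exists_twist` : `z` with `σ (z h z⁻¹) = z h z⁻¹ ↔ ∀ x, cX h (g⁻¹ (rhoL L x)) ^ p ^ e = cX h x`.
-/

set_option autoImplicit false
set_option linter.unusedSectionVars false

namespace Cfsg.Agent.H554.BS

open CoxeterSystem Cfsg Cfsg.Lie Cfsg.Lie.ChevalleyDatum
open Cfsg.Agent.ChevalleyStructure Cfsg.Agent.ChevalleyStructure.Elts Cfsg.Agent.ChevalleyStructure.CoxeterGeom
  Cfsg.Agent.ChevalleyStructure.CoxeterGeomTypes Cfsg.Agent.ChevalleyStructure.NPerm
open Cfsg.Agent.Tits.Roots Cfsg.Agent.Tits.Core Cfsg.Agent.Nodes Cfsg.Agent.Nodes.Reps Cfsg.Agent.Nodes.BNOf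
  Cfsg.Agent.Nodes.RGDChev Cfsg.Agent.Nodes.Bruhat Cfsg.Agent.Nodes.NormalForm
open Cfsg.Agent.KFacts.RgdField Cfsg.Agent.KFacts.RgdChevCoord
open Cfsg.Agent.BpExc Cfsg.Agent.BpExc.TorCent Cfsg.Agent.BpExc.TorChev Cfsg.Agent.BpExc.Tow
  Cfsg.Agent.BpExc.TowChev Cfsg.Agent.BpExc.Fr Cfsg.Agent.BpExc.Pair Cfsg.Agent.BpExc.LangFr Cfsg.Agent.GpExc.Field
  Cfsg.Agent.BpExc.TorAll
open Cfsg.Agent.H469.Exc Cfsg.Agent.H469.Exc.SigFr
open Cfsg.Agent.Nodes.RGDFoldSL
open Cfsg.Agent.ChevalleyStructure.SL2Hom (up lo mem_closure_SL2)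
open Cfsg.Agent.H167.EX Cfsg.Agent.H795.LangT Cfsg.Agent.H129.TorusChar
open scoped commutatorElement Pointwise

universe u v

variable {D : ChevalleyDatum} {l : ℕ} {M : CoxeterMatrix (Fin l)} (hp : IsType D l M) {k : Type u} [Field k]
  (hk : LocFin k) {p : ℕ} [Fact p.Prime] [CharP k p]

/-- the pairing of the coroot of the root `s` with `x` -/
def fs (D : ChevalleyDatum) (l : ℕ) (s : ℕ) (x : Fin l → ℤ) : ℤ := ∑ j, x j * HMatDiagAll.expo D s (D.simple j)

theorem fs_add (s : ℕ) (x y : Fin l → ℤ) : fs D l s (x + y) = fs D l s x + fs D l s y := by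
  unfold fs
  rw [← Finset.sum_add_distrib]
  exact Finset.sum_congr rfl fun j _ => by rw [Pi.add_apply, add_mul]

theorem fs_sr (hp : IsType D l M) (s : ℕ) (j : Fin l) : fs D l s (sr j) = HMatDiagAll.expo D s (D.simple j) := by
  unfold fs
  rw [Finset.sum_eq_single j]
  · rw [sr_self, one_mul]
  · intro b _ hb
    rw [sr_ne hb, zero_mul]
  · intro h
    exact absurd (Finset.mem_univ j) h

include hk in
/-- the characters of `ph (hS c)` -/
theorem cX_ph_hS {s : ℕ} (hs : s < D.nroots) (p : ℕ) [Fact p.Prime] [CharP k p] {c : k} (hc : c ≠ 0)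
    (x : Fin l → ℤ) : cX hp (ph hp k hs (hS c)) x = c ^ fs D l s x := by
  unfold cX fs
  have h1 : ∀ i : Fin l, ch hp (sr i) (ph hp k hs (hS c)) ^ x i = c ^ (x i * HMatDiagAll.expo D s (D.simple i)) := by
    intro i
    rw [← vec_simple hp i, ch_ph_hS hp hs p hk hc (simple_lt hp.inList (lt_rank hp i)), ← zpow_mul, mul_comm]
  rw [Finset.prod_congr rfl fun i _ => h1 i]
  have h2 : ∀ S : Finset (Fin l), ∏ i ∈ S, c ^ (x i * HMatDiagAll.expo D s (D.simple i)) =
      c ^ ∑ i ∈ S, x i * HMatDiagAll.expo D s (D.simple i) := by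
    intro S
    induction S using Finset.induction_on with
    | empty => simp
    | insert a S ha ih => rw [Finset.prod_insert ha, Finset.sum_insert ha, ih, zpow_add₀ hc]
  exact h2 _

/-- the reflection of the root `s` -/
def sra (D : ChevalleyDatum) (l : ℕ) (s : ℕ) (x : Fin l → ℤ) : Fin l → ℤ := x - fs D l s x • vec D l s

/-- product of reflections -/
def rhoL (D : ChevalleyDatum) (l : ℕ) : List ℕ → (Fin l → ℤ) → (Fin l → ℤ)
  | [], x => x
  | s :: L, x => rhoL D l L (sra D l s x)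

theorem sra_add (s : ℕ) (x y : Fin l → ℤ) : sra D l s (x + y) = sra D l s x + sra D l s y := by
  unfold sra
  rw [fs_add, add_smul]
  abel

theorem rhoL_add (L : List ℕ) : ∀ x y : Fin l → ℤ, rhoL D l L (x + y) = rhoL D l L x + rhoL D l L y := by
  induction L with
  | nil => intro x y; rfl
  | cons s L ih =>
    intro x y
    show rhoL D l L (sra D l s (x + y)) = _
    rw [sra_add, ih]
    rfl

/-- as an additive map -/
def rhoM (D : ChevalleyDatum) (l : ℕ) (L : List ℕ) : (Fin l → ℤ) →+ (Fin l → ℤ) :=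
  AddMonoidHom.mk' (rhoL D l L) (rhoL_add L)

theorem rhoM_apply (L : List ℕ) (x : Fin l → ℤ) : rhoM D l L x = rhoL D l L x := rfl

/-- additive maps agree if they agree on the basis -/
theorem addHom_ext {A : Type*} [AddCommGroup A] {f g : (Fin l → ℤ) →+ A} (h : ∀ i, f (sr i) = g (sr i)) (x : Fin l → ℤ) :
    f x = g x := by
  rw [IsMC.eq_sum_sr x, map_sum, map_sum]
  exact Finset.sum_congr rfl fun i _ => by rw [map_zsmul, map_zsmul, h i]

theorem wS_hS {c : k} (hc : c ≠ 0) : (wS 1 * hS c : SL k) = hS c⁻¹ * wS 1 := by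
  obtain ⟨w1, w2, w3, w4⟩ := wS_entries (k := k) (t := 1) one_ne_zero
  obtain ⟨a1, a2, a3, a4⟩ := hS_entries hc
  obtain ⟨b1, b2, b3, b4⟩ := hS_entries (inv_ne_zero hc)
  refine sl_ext ?_ ?_ ?_ ?_
  · rw [mul00, mul00, w1, w2, w3, a1, a3, b1, b2]; ring
  · rw [mul01, mul01, w1, w2, w4, a2, a4, b1, b2]; ring
  · rw [mul10, mul10, w3, w4, w1, a1, a3, b3, b4, inv_inv]; ring
  · rw [mul11, mul11, w3, w4, w2, a2, a4, b3, b4]; ring

include hk in
/-- the reflection on the torus -/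
theorem ref_torus [IsAlgClosed k] {s : ℕ} (hs : s < D.nroots) (p : ℕ) [Fact p.Prime] [CharP k p] {t : ↥(D.group k)}
    (ht : t ∈ TT D k) : ∃ c : k, c ≠ 0 ∧ c = ch hp (vec D l s) t ∧
      ph hp k hs (wS 1) * t * (ph hp k hs (wS 1))⁻¹ = t * (ph hp k hs (hS c))⁻¹ := by
  obtain ⟨μ, hμ⟩ := IsAlgClosed.exists_pow_nat_eq (ch hp (vec D l s) t) (show 0 < 2 by norm_num)
  have h0 := (act hp hs ht).1
  have hμ0 : μ ≠ 0 := by
    rintro rfl
    apply h0
    rw [← hμ, zero_pow (by norm_num)]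
  refine ⟨μ ^ 2, pow_ne_zero 2 hμ0, hμ, ?_⟩
  have hh := ph_hS_mem hp (k := k) hs hμ0
  have hc : (ph hp k hs (hS μ))⁻¹ * t ∈ TT D k := mul_mem (inv_mem hh) ht
  have e1 : ch hp (vec D l s) ((ph hp k hs (hS μ))⁻¹ * t) = 1 := by
    have h2 := Cfsg.Agent.H167.EX.ch_mul hp p hk hs hh hc
    rw [mul_inv_cancel_left, ch_ph_hS hp hs p hk hμ0 hs] at h2
    have h3 : HMatDiagAll.expo D s s = 2 := by unfold HMatDiagAll.expo; rw [if_pos rfl]
    rw [h3, ← hμ] at h2
    have h4 : μ ^ (2 : ℤ) = μ ^ 2 := by norm_cast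
    rw [h4] at h2
    exact (mul_eq_left₀ (pow_ne_zero 2 hμ0)).1 h2.symm
  have hcc : (ph hp k hs (hS μ))⁻¹ * t ∈ Subgroup.centralizer ((ph hp k hs).range : Set ↥(D.group k)) :=
    mem_cent hp hs (comm_xs_of_ch hp hs hc e1) (comm_xs_of_ch hp (neg_lt hp.inList hs) hc (by
      rw [ch_neg hp hs p hk hc, e1, inv_one]))
  set c := (ph hp k hs (hS μ))⁻¹ * t with hcdef
  have htc : t = ph hp k hs (hS μ) * c := by rw [hcdef, mul_inv_cancel_left]
  have hcomm : ph hp k hs (wS 1) * c = c * ph hp k hs (wS 1) := Subgroup.mem_centralizer_iff.1 hcc _ ⟨wS 1, rfl⟩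
  have hcomm2 : ∀ A, ph hp k hs A * c = c * ph hp k hs A := fun A => Subgroup.mem_centralizer_iff.1 hcc _ ⟨A, rfl⟩
  have h5 : ph hp k hs (wS 1) * ph hp k hs (hS μ) = ph hp k hs (hS μ⁻¹) * ph hp k hs (wS 1) := by
    rw [← map_mul, wS_hS hμ0, map_mul]
  have h6 : (ph hp k hs (hS (μ ^ 2)))⁻¹ = (ph hp k hs (hS μ))⁻¹ * (ph hp k hs (hS μ))⁻¹ := by
    rw [← mul_inv_rev, ← map_mul, ← pow_two, hS_pow hμ0]
  have h7 : ph hp k hs (hS μ⁻¹) = (ph hp k hs (hS μ))⁻¹ := by
    rw [eq_inv_iff_mul_eq_one, ← map_mul]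
    have h8 : (hS μ⁻¹ * hS μ : SL k) = 1 := by
      obtain ⟨a1, a2, a3, a4⟩ := hS_entries hμ0
      obtain ⟨b1, b2, b3, b4⟩ := hS_entries (inv_ne_zero hμ0)
      refine sl_ext ?_ ?_ ?_ ?_
      · rw [mul00, b1, b2, a1, a3, inv_mul_cancel₀ hμ0, mul_zero, add_zero]; rfl
      · rw [mul01, b1, b2, a2, a4, mul_zero, zero_mul, add_zero]; rfl
      · rw [mul10, b3, b4, a1, a3, mul_zero, zero_mul, add_zero]; rfl
      · rw [mul11, b3, b4, a2, a4, inv_inv, mul_zero, zero_add, mul_inv_cancel₀ hμ0]; rfl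
    rw [h8, map_one]
  calc ph hp k hs (wS 1) * t * (ph hp k hs (wS 1))⁻¹
      = (ph hp k hs (wS 1) * ph hp k hs (hS μ)) * c * (ph hp k hs (wS 1))⁻¹ := by rw [htc]; group
    _ = ph hp k hs (hS μ⁻¹) * (ph hp k hs (wS 1) * c) * (ph hp k hs (wS 1))⁻¹ := by rw [h5]; group
    _ = ph hp k hs (hS μ⁻¹) * c := by rw [hcomm]; group
    _ = t * (ph hp k hs (hS (μ ^ 2)))⁻¹ := by
      rw [h7, h6, htc, hcomm2]
      have h8 := hcomm2 (hS μ)
      calc (ph hp k hs (hS μ))⁻¹ * c = (ph hp k hs (hS μ))⁻¹ * (c * ph hp k hs (hS μ)) * (ph hp k hs (hS μ))⁻¹ := by group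
        _ = (ph hp k hs (hS μ))⁻¹ * (ph hp k hs (hS μ) * c) * (ph hp k hs (hS μ))⁻¹ := by rw [h8]
        _ = c * ph hp k hs (hS μ) * ((ph hp k hs (hS μ))⁻¹ * (ph hp k hs (hS μ))⁻¹) := by group

/-- the element `ph (wS 1)` -/
noncomputable def wE (k : Type u) [Field k] (s : ℕ) : ↥(D.group k) :=
  if hs : s < D.nroots then ph hp k hs (wS 1) else 1

theorem wE_eq {s : ℕ} (hs : s < D.nroots) : wE hp k s = ph hp k hs (wS 1) := dif_pos hs

include hk in
/-- the characters of the conjugate by the reflection element -/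
theorem cX_wE [IsAlgClosed k] {s : ℕ} (hs : s < D.nroots) (p : ℕ) [Fact p.Prime] [CharP k p] {t : ↥(D.group k)}
    (ht : t ∈ TT D k) : wE hp k s * t * (wE hp k s)⁻¹ ∈ TT D k ∧ ∀ x,
      cX hp (wE hp k s * t * (wE hp k s)⁻¹) x = cX hp t (sra D l s x) := by
  obtain ⟨c, hc, hcc, e⟩ := ref_torus hp hk hs p ht
  rw [wE_eq hp hs, e]
  have hm := ph_hS_mem hp (k := k) hs hc
  refine ⟨mul_mem ht (inv_mem hm), fun x => ?_⟩
  have hinv : cX hp (ph hp k hs (hS c))⁻¹ x = (cX hp (ph hp k hs (hS c)) x)⁻¹ := by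
    refine eq_inv_of_mul_eq_one_left ?_
    rw [← cX_mul hp (inv_mem hm) hm, inv_mul_cancel, cX_one]
  have hMC := isMC_cX hp ht
  rw [cX_mul hp ht (inv_mem hm), hinv, cX_ph_hS hp hk hs p hc, hcc, ← cX_vec hp ht hs]
  unfold sra
  rw [hMC.sub, hMC.zsmul, div_eq_mul_inv]

/-- product of the elements `wE` -/
noncomputable def wL (k : Type u) [Field k] (L : List ℕ) : ↥(D.group k) := (L.map (wE hp k)).prod

include hk in
theorem cX_wL [IsAlgClosed k] (p : ℕ) [Fact p.Prime] [CharP k p] (L : List ℕ) (hL : ∀ s ∈ L, s < D.nroots) :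
    ∀ t ∈ TT D k, wL hp k L * t * (wL hp k L)⁻¹ ∈ TT D k ∧ ∀ x,
      cX hp (wL hp k L * t * (wL hp k L)⁻¹) x = cX hp t (rhoL D l L x) := by
  induction L with
  | nil =>
    intro t ht
    have h1 : wL hp k [] = 1 := rfl
    rw [h1, one_mul, inv_one, mul_one]
    exact ⟨ht, fun x => rfl⟩
  | cons s L ih =>
    intro t ht
    have h1 : wL hp k (s :: L) = wE hp k s * wL hp k L := by
      unfold wL; rw [List.map_cons, List.prod_cons]
    obtain ⟨h2, h3⟩ := ih (fun a ha => hL a (List.mem_cons_of_mem _ ha)) t ht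
    obtain ⟨h4, h5⟩ := cX_wE hp hk (hL s List.mem_cons_self) p h2
    have e : wL hp k (s :: L) * t * (wL hp k (s :: L))⁻¹ =
        wE hp k s * (wL hp k L * t * (wL hp k L)⁻¹) * (wE hp k s)⁻¹ := by rw [h1]; group
    rw [e]
    exact ⟨h4, fun x => by rw [h5, h3]; rfl⟩

/-- `ph (SL₂)` lies in the group generated by the root groups -/
theorem ph_mem_Sup {S : Set (Fin l → ℤ)} {s : ℕ} (hs : s < D.nroots) (h1 : vec D l s ∈ S) (h2 : -vec D l s ∈ S) (A : SL k) :
    ph hp k hs A ∈ RGD.Sup (XX D l k) S := by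
  have hns := neg_lt hp.inList hs
  have h3 : A ∈ (RGD.Sup (XX D l k) S).comap (ph hp k hs) := by
    refine (Subgroup.closure_le _).2 ?_ (mem_closure_SL2 A)
    rintro _ (⟨t, rfl⟩ | ⟨t, rfl⟩)
    · rw [SetLike.mem_coe, Subgroup.mem_comap, ph_up]
      refine RGD.le_Sup (z := vec D l s) h1 ?_
      exact (LangThm.mem_XX_vec hp hs).2 ⟨t, rfl⟩
    · rw [SetLike.mem_coe, Subgroup.mem_comap, ph_lo]
      refine RGD.le_Sup (z := -vec D l s) h2 ?_
      rw [← vec_neg hp hs]
      exact (LangThm.mem_XX_vec hp hns).2 ⟨t, rfl⟩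
  exact h3

theorem wL_mem_Sup {S : Set (Fin l → ℤ)} {L : List ℕ} (hL : ∀ s ∈ L, s < D.nroots ∧ vec D l s ∈ S ∧ -vec D l s ∈ S) :
    wL hp k L ∈ RGD.Sup (XX D l k) S := by
  unfold wL
  refine list_prod_mem ?_
  intro x hx
  obtain ⟨s, hs, rfl⟩ := List.mem_map.1 hx
  rw [wE_eq hp (hL s hs).1]
  exact ph_mem_Sup hp _ (hL s hs).2.1 (hL s hs).2.2 _

section twist

variable {e : ℕ} {σ : MulAut ↥(D.group k)} {g : (Fin l → ℤ) ≃+ (Fin l → ℤ)}

include hk in
/-- **Twisting.** -/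
theorem exists_twist [IsAlgClosed k] (he : 0 < e) (hσ : IsFrob p e σ)
    (F : Fr M.toCoxeterSystem hp.isCartan (TT D k) (XX D l k) σ g) {S : Set (Fin l → ℤ)}
    (hS : ∀ a ∈ S, IsRoot M.toCoxeterSystem hp.isCartan a) (hg : ∀ a ∈ S, g a ∈ S) {L : List ℕ}
    (hL : ∀ s ∈ L, s < D.nroots ∧ vec D l s ∈ S ∧ -vec D l s ∈ S) :
    ∃ z ∈ RGD.Sup (XX D l k) S, z⁻¹ * σ z = wL hp k L ∧ ∀ h ∈ TT D k,
      (σ (z * h * z⁻¹) = z * h * z⁻¹ ↔ ∀ x, cX hp h (g.symm (rhoL D l L x)) ^ p ^ e = cX hp h x) := by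
  obtain ⟨z, hz, hzm⟩ := lang_fr hp M.toCoxeterSystem he hσ F hS hg (wL_mem_Sup hp (k := k) hL)
  refine ⟨z, hz, hzm.symm, fun h hh => ?_⟩
  have hσh : σ h ∈ TT D k := (F.tor h).2 hh
  obtain ⟨h1, h2⟩ := cX_wL hp hk p L (fun s hs => (hL s hs).1) _ hσh
  have e1 : σ (z * h * z⁻¹) = z * (wL hp k L * σ h * (wL hp k L)⁻¹) * z⁻¹ := by
    rw [hzm, map_mul, map_mul, map_inv]; group
  have h3 : ∀ x, cX hp (wL hp k L * σ h * (wL hp k L)⁻¹) x = cX hp h (g.symm (rhoL D l L x)) ^ p ^ e := by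
    intro x
    rw [h2]
    have h4 := cX_sigma hp M.toCoxeterSystem hσ F hh (g.symm (rhoL D l L x))
    rwa [AddEquiv.apply_symm_apply] at h4
  have h5 : σ (z * h * z⁻¹) = z * h * z⁻¹ ↔ wL hp k L * σ h * (wL hp k L)⁻¹ = h := by
    rw [e1]
    constructor
    · intro h6
      exact mul_left_cancel (mul_right_cancel h6)
    · intro h6
      rw [h6]
  rw [h5]
  constructor
  · intro h6 x
    rw [← h3, h6]
  · intro h6
    refine cX_inj hp h1 hh fun i => ?_
    rw [h3, h6]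

end twist

end Cfsg.Agent.H554.BS
end

private theorem dce_c6e59d314352 : _root_.True := by
  try have : _root_.True := by simp only [_root_.Cfsg.Agent.H554.BS.wE.congr_simp]
  try have : _root_.True := by simp only [_root_.Cfsg.Agent.H554.BS.wL.congr_simp]
  try have : _root_.True := by simp only [_root_.Cfsg.Agent.H167.EX.ph.congr_simp]
  exact _root_.True.intro
end

-- part: H566/OmFE
section
prune_inst 0x103075444d220200000005062000244422000090006f8400cd0103400388236085002700000013175a082e0020040028131800d0422800000e00000040050100002810028148010020000e001004400000000000000000000000000000000004000000000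
set_option linter.all false
open scoped Cfsg.Agent.FastGrp

/-!
# The torus elements of order dividing `q ≥ 5` are regular: `F4`, `E7`, `E8` (helper566)

* `Tq hp q` : the subgroup of the elements `t` of the torus with `t ^ q = 1`;
* `omOK_F4`, `omOK_E7`, `omOK_E8` : `OmOK hp hk p q (Tq hp q)` for the primes `q ≥ 5`, `q ≠ p`.
-/

set_option autoImplicit false
set_option linter.unusedSectionVars false
set_option maxRecDepth 100000

namespace Cfsg.Agent.H566.OmFE

open CoxeterSystem Cfsg Cfsg.Lie Cfsg.Lie.ChevalleyDatum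
open Cfsg.Agent.ChevalleyStructure Cfsg.Agent.ChevalleyStructure.Elts Cfsg.Agent.ChevalleyStructure.CoxeterGeom
  Cfsg.Agent.ChevalleyStructure.CoxeterGeomTypes Cfsg.Agent.ChevalleyStructure.NPerm
open Cfsg.Agent.Tits.Roots Cfsg.Agent.Tits.Core Cfsg.Agent.Nodes Cfsg.Agent.Nodes.Reps Cfsg.Agent.Nodes.BNOf
  Cfsg.Agent.Nodes.RGDChev Cfsg.Agent.Nodes.Bruhat Cfsg.Agent.Nodes.NormalForm
open Cfsg.Agent.KFacts.RgdField Cfsg.Agent.KFacts.RgdChevCoord
open Cfsg.Agent.BpExc Cfsg.Agent.BpExc.TorCent Cfsg.Agent.BpExc.TorChev Cfsg.Agent.BpExc.Tow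
  Cfsg.Agent.BpExc.TowChev Cfsg.Agent.BpExc.Fr Cfsg.Agent.BpExc.Pair Cfsg.Agent.BpExc.LangFr Cfsg.Agent.GpExc.Field
  Cfsg.Agent.BpExc.TorAll
open Cfsg.Agent.H795.LangT Cfsg.Agent.H129.TorusChar Cfsg.Agent.H554.BS Cfsg.Agent.H566.OmForm
open Cfsg.Agent.ChevalleyStructure.RootVec (rt)
open scoped commutatorElement

universe u

/-! ### the tables -/

/-- the coefficients are at most 6, and not all divisible by 5; a root whose coefficients other than the `i`-th are
divisible by 5 is `±` the `i`-th simple root -/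
def tabS (D : ChevalleyDatum) (l : ℕ) : Bool :=
  (List.range D.nroots).all fun r =>
    ((List.range l).all fun j => decide (-6 ≤ rt D r j) && decide (rt D r j ≤ 6)) &&
      (((List.range l).any fun j => decide (rt D r j % 5 ≠ 0)) &&
        (List.range l).all fun i =>
          (!((List.range l).all fun j => decide (j = i) || decide (rt D r j % 5 = 0))) ||
            (decide (r = D.simple i) || decide (r = D.neg (D.simple i))))

theorem tabS_F4 : tabS chevF4 4 = true := by decide +kernel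
theorem tabS_E7 : tabS chevE7 7 = true := by (delta Cfsg.Agent.H566.OmFE.tabS; rewrite [Cfsg.Agent.ChevFast.E7.neg]; decide +kernel)
theorem tabS_E8 : tabS chevE8 8 = true := by (delta Cfsg.Agent.H566.OmFE.tabS; rewrite [Cfsg.Agent.ChevFast.E8.neg]; decide +kernel)

/-- strongly orthogonal partners of the simple roots -/
def tabP (D : ChevalleyDatum) (L : List ℕ) : Bool :=
  (List.range L.length).all fun i => pairOK D (D.simple i) (L.getD i 0)

theorem tabP_F4 : tabP chevF4 [0, 0, 0, 2] = true := by decide +kernel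
theorem tabP_E7 : tabP chevE7 [2, 0, 0, 0, 0, 0, 0] = true := by (delta Cfsg.Agent.ChevalleyStructure.HMatDiagAll.expo Cfsg.Agent.H554.BS.pairOK Cfsg.Agent.H566.OmFE.tabP; rewrite [Cfsg.Agent.ChevFast.E7.chainEntry, Cfsg.Agent.ChevFast.E7.commTerms, Cfsg.Agent.ChevFast.E7.neg]; decide +kernel)
theorem tabP_E8 : tabP chevE8 [0, 0, 0, 0, 0, 0, 0, 2] = true := by (delta Cfsg.Agent.ChevalleyStructure.HMatDiagAll.expo Cfsg.Agent.H554.BS.pairOK Cfsg.Agent.H566.OmFE.tabP; rewrite [Cfsg.Agent.ChevFast.E8.chainEntry, Cfsg.Agent.ChevFast.E8.commTerms, Cfsg.Agent.ChevFast.E8.neg]; decide +kernel)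

theorem tabS_le {D : ChevalleyDatum} {l : ℕ} (h : tabS D l = true) {r : ℕ} (hr : r < D.nroots) {j : ℕ} (hj : j < l) :
    -6 ≤ rt D r j ∧ rt D r j ≤ 6 := by
  have h1 := List.all_eq_true.1 h r (List.mem_range.2 hr)
  rw [Bool.and_eq_true] at h1
  have h2 := List.all_eq_true.1 h1.1 j (List.mem_range.2 hj)
  rw [Bool.and_eq_true, decide_eq_true_iff, decide_eq_true_iff] at h2
  exact h2

theorem tabS_ne {D : ChevalleyDatum} {l : ℕ} (h : tabS D l = true) {r : ℕ} (hr : r < D.nroots) :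
    ∃ j < l, rt D r j % 5 ≠ 0 := by
  have h1 := List.all_eq_true.1 h r (List.mem_range.2 hr)
  rw [Bool.and_eq_true, Bool.and_eq_true] at h1
  obtain ⟨j, hj, hj'⟩ := List.any_eq_true.1 h1.2.1
  exact ⟨j, List.mem_range.1 hj, by simpa using hj'⟩

theorem tabS_simple {D : ChevalleyDatum} {l : ℕ} (h : tabS D l = true) {r : ℕ} (hr : r < D.nroots) {i : ℕ} (hi : i < l)
    (h5 : ∀ j < l, j ≠ i → rt D r j % 5 = 0) : r = D.simple i ∨ r = D.neg (D.simple i) := by
  have h1 := List.all_eq_true.1 h r (List.mem_range.2 hr)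
  rw [Bool.and_eq_true, Bool.and_eq_true] at h1
  have h2 := List.all_eq_true.1 h1.2.2 i (List.mem_range.2 hi)
  rw [Bool.or_eq_true, Bool.or_eq_true, decide_eq_true_iff, decide_eq_true_iff] at h2
  refine h2.resolve_left fun h3 => ?_
  rw [Bool.not_eq_true', ← Bool.not_eq_true] at h3
  apply h3
  rw [List.all_eq_true]
  intro j hj
  rw [Bool.or_eq_true, decide_eq_true_iff, decide_eq_true_iff]
  by_cases hji : j = i
  · exact Or.inl hji
  · exact Or.inr (h5 j (List.mem_range.1 hj) hji)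

theorem tabP_pok {D : ChevalleyDatum} {L : List ℕ} (h : tabP D L = true) {i : ℕ} (hi : i < L.length) :
    ∃ s', POK D (D.simple i) s' :=
  ⟨_, POK.of (List.all_eq_true.1 h i (List.mem_range.2 hi))⟩

theorem mod_five {q : ℕ} (hq : q.Prime) (h5 : 5 ≤ q) {x : ℤ} (h1 : -6 ≤ x) (h2 : x ≤ 6) (hx : (q : ℤ) ∣ x) :
    x % 5 = 0 := by
  rcases h5.eq_or_lt with h | h
  · rw [← h] at hx
    exact Int.emod_eq_zero_of_dvd hx
  · have h7 : 7 ≤ q := by
      by_contra hcon
      have : q = 6 := by omega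
      rw [this] at hq
      exact absurd hq (by norm_num)
    have h0 : x = 0 := by
      obtain ⟨c, hc⟩ := hx
      have hq7 : (7 : ℤ) ≤ q := by exact_mod_cast h7
      rcases lt_trichotomy c 0 with h8 | h8 | h8
      · have : (q : ℤ) * c ≤ q * (-1) := mul_le_mul_of_nonneg_left (by omega) (by omega)
        omega
      · rw [hc, h8, mul_zero]
      · have : (q : ℤ) * 1 ≤ q * c := mul_le_mul_of_nonneg_left (by omega) (by omega)
        omega
    rw [h0]
    rfl

/-! ### the elements of order dividing `q` -/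

section General

variable {D : ChevalleyDatum} {l : ℕ} {M : CoxeterMatrix (Fin l)} (hp : IsType D l M) {k : Type u} [Field k]

/-- the elements `t` of the torus with `t ^ q = 1` -/
def Tq (hp : IsType D l M) {k : Type u} [Field k] (q : ℕ) : Subgroup ↥(D.group k) where
  carrier := {t | t ∈ TT D k ∧ t ^ q = 1}
  one_mem' := ⟨one_mem _, one_pow q⟩
  mul_mem' := by
    rintro s t ⟨hs, hs'⟩ ⟨ht, ht'⟩
    exact ⟨mul_mem hs ht, by rw [(show Commute s t from TTab hp s hs t ht).mul_pow, hs', ht', one_mul]⟩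
  inv_mem' := by
    rintro s ⟨hs, hs'⟩
    exact ⟨inv_mem hs, by rw [inv_pow, hs', inv_one]⟩

variable {hp}

variable (hp)

theorem exists_tq [IsAlgClosed k] {d : ℕ} {B : Fin l → Fin l → ℤ} (hB : InvC D l d B) (hd : d ≠ 0) {q : ℕ} {ζ : k}
    (hz : ζ ^ q = 1) (hz0 : ζ ≠ 0) (f : (Fin l → ℤ) →+ ℤ) : ∃ t ∈ Tq hp (k := k) q, ∀ x, cX hp t x = ζ ^ f x := by
  have hφ : IsMC (fun x : Fin l → ℤ => ζ ^ f x) := ⟨by rw [map_zero, zpow_zero], fun x y => by
    rw [map_add, zpow_add₀ hz0]⟩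
  obtain ⟨t, ht, h⟩ := exists_cX hp hB hd hφ (fun i => IsAlgClosed.exists_pow_nat_eq _ (Nat.pos_of_ne_zero hd))
  refine ⟨t, ⟨ht, ?_⟩, h⟩
  refine cX_inj hp (pow_mem ht q) (one_mem _) fun i => ?_
  rw [cX_pow hp ht, h, cX_one, ← zpow_natCast, ← zpow_mul, mul_comm, zpow_mul, zpow_natCast, hz, one_zpow]

theorem finite_Tq {q : ℕ} (hq : 0 < q) : Finite (Tq hp (k := k) q) := by
  classical
  have hfin : Finite {x : k // x ^ q = 1} := by
    refine Set.Finite.to_subtype (Set.Finite.subset (Finset.finite_toSet (Polynomial.nthRoots q (1 : k)).toFinset) ?_)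
    intro x hx
    rw [Finset.mem_coe, Multiset.mem_toFinset, Polynomial.mem_nthRoots hq]
    exact hx
  refine Finite.of_injective (fun (t : Tq hp (k := k) q) (i : Fin l) =>
    (⟨cX hp t.1 (sr i), by rw [← cX_pow hp t.2.1, t.2.2, cX_one]⟩ : {x : k // x ^ q = 1})) ?_
  intro s t hst
  exact Subtype.ext (cX_inj hp s.2.1 t.2.1 fun i => congrArg Subtype.val (congrFun hst i))

/-- the minors of two characters trivial on a subgroup of corank one -/
theorem minor [IsAlgClosed k] {d : ℕ} {B : Fin l → Fin l → ℤ} (hB : InvC D l d B) (hd : d ≠ 0) {q : ℕ} (hq : q.Prime)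
    {ζ : k} (hζ : IsPrimitiveRoot ζ q) {R : Subgroup ↥(D.group k)} (hpair : PairP q (Tq hp q) R) {a a' : Fin l → ℤ}
    (ha : ∀ h ∈ R, cX hp h a = 1) (ha' : ∀ h ∈ R, cX hp h a' = 1) (f g : (Fin l → ℤ) →+ ℤ) :
    (q : ℤ) ∣ f a * g a' - f a' * g a := by
  have hz0 : ζ ≠ 0 := hζ.ne_zero hq.ne_zero
  obtain ⟨t, ht, htf⟩ := exists_tq hp hB hd hζ.pow_eq_one hz0 f
  obtain ⟨s, hs, hsg⟩ := exists_tq hp hB hd hζ.pow_eq_one hz0 g
  obtain ⟨α, β, hab, hm⟩ := hpair t ht s hs
  have key : ∀ b, (∀ h ∈ R, cX hp h b = 1) → (q : ℤ) ∣ α * f b + β * g b := by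
    intro b hb
    have h1 := hb _ hm
    rw [cX_mul hp (pow_mem ht.1 α) (pow_mem hs.1 β), cX_pow hp ht.1, cX_pow hp hs.1, htf, hsg, ← zpow_natCast,
      ← zpow_natCast, ← zpow_mul, ← zpow_mul, ← zpow_add₀ hz0] at h1
    have h2 := (hζ.zpow_eq_one_iff_dvd _).1 h1
    have e : (α : ℤ) * f b + β * g b = f b * α + g b * β := by ring
    rw [e]
    exact h2
  have h1 := key a ha
  have h2 := key a' ha'
  have hqi : Prime (q : ℤ) := Nat.prime_iff_prime_int.1 hq
  have h3 : (q : ℤ) ∣ α * (f a * g a' - f a' * g a) := by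
    have : (α : ℤ) * (f a * g a' - f a' * g a) = (α * f a + β * g a) * g a' - (α * f a' + β * g a') * g a := by ring
    rw [this]
    exact dvd_sub (h1.mul_right _) (h2.mul_right _)
  have h4 : (q : ℤ) ∣ β * (f a * g a' - f a' * g a) := by
    have : (β : ℤ) * (f a * g a' - f a' * g a) = (α * f a' + β * g a') * f a - (α * f a + β * g a) * f a' := by ring
    rw [this]
    exact dvd_sub (h2.mul_right _) (h1.mul_right _)
  by_contra hcon
  exact hab ⟨Int.natCast_dvd_natCast.1 ((hqi.dvd_or_dvd h3).resolve_right hcon),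
    Int.natCast_dvd_natCast.1 ((hqi.dvd_or_dvd h4).resolve_right hcon)⟩

/-- the coordinates -/
def co (l : ℕ) (j : Fin l) : (Fin l → ℤ) →+ ℤ := Pi.evalAddMonoidHom (fun _ : Fin l => ℤ) j

theorem co_apply (j : Fin l) (x : Fin l → ℤ) : co l j x = x j := rfl

/-- the pairing -/
def pr (A : Fin l → Fin l → ℤ) (i : Fin l) : (Fin l → ℤ) →+ ℤ where
  toFun := pairing A i
  map_zero' := by
    unfold pairing
    exact Finset.sum_eq_zero fun j _ => by rw [Pi.zero_apply, mul_zero]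
  map_add' := pairing_add A i

theorem pr_apply (A : Fin l → Fin l → ℤ) (i : Fin l) (x : Fin l → ℤ) : pr A i x = pairing A i x := rfl

theorem exists_zeta [IsAlgClosed k] {p : ℕ} [Fact p.Prime] [CharP k p] {q : ℕ} (hq : q.Prime) (hqp : q ≠ p) :
    ∃ ζ : k, IsPrimitiveRoot ζ q := by
  have hp' : p.Prime := Fact.out
  have h0 : NeZero ((q : ℕ) : k) := ⟨by
    rw [Ne, CharP.cast_eq_zero_iff k p]
    intro h
    exact hqp ((Nat.prime_dvd_prime_iff_eq hp' hq).1 h).symm⟩
  exact HasEnoughRootsOfUnity.exists_primitiveRoot k q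

variable (hk : LocFin k) {p : ℕ} [Fact p.Prime] [CharP k p]

theorem omOK_gen [IsAlgClosed k] {d : ℕ} {B : Fin l → Fin l → ℤ} (hB : InvC D l d B) (hd : d ≠ 0) {e : Fin l → ℤ}
    (F : Fm (cartanOf D l) e) (hS : tabS D l = true) {L : List ℕ} (hL : L.length = l) (hP : tabP D L = true)
    (hl : 0 < l) {q : ℕ} (hq : q.Prime) (h5 : 5 ≤ q) (hqp : q ≠ p) : OmOK hp hk p q (Tq hp q) := by
  obtain ⟨ζ, hζ⟩ := exists_zeta (k := k) (p := p) hq hqp
  have hz0 : ζ ≠ 0 := hζ.ne_zero hq.ne_zero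
  refine ⟨fun t ht => ht.1, finite_Tq hp hq.pos, fun t ht => ht.2, ?_, ?_, ?_⟩
  · -- no root is trivial
    intro r hr
    obtain ⟨j, hj, hj5⟩ := tabS_ne hS hr
    obtain ⟨t, ht, h1⟩ := exists_tq hp hB hd hζ.pow_eq_one hz0 (co l ⟨j, hj⟩)
    refine ⟨t, ht, fun h2 => hj5 ?_⟩
    rw [← cX_vec hp ht.1 hr, h1, hζ.zpow_eq_one_iff_dvd, co_apply] at h2
    obtain ⟨b1, b2⟩ := tabS_le hS hr hj
    exact mod_five hq h5 b1 b2 h2
  · -- the hyperplanes
    intro R hR hpair
    by_cases hex : ∃ a, IsRoot M.toCoxeterSystem hp.isCartan a ∧ ∀ h ∈ R, ch hp a h = 1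
    · obtain ⟨a, ha, haR⟩ := hex
      obtain ⟨v, i, hvi⟩ := ha
      obtain ⟨s', hs'⟩ := tabP_pok hP (i := (i : ℕ)) (by rw [hL]; exact i.2)
      refine ⟨v⁻¹, D.simple i, s', hs', fun a' ha' ha'R => ?_⟩
      have hb := ha'.act v⁻¹
      obtain ⟨r, hr, hrb⟩ := (isRoot_iff hp M.toCoxeterSystem _).1 hb
      refine ⟨r, ?_, hrb.symm⟩
      have hva : rep M.toCoxeterSystem hp.isCartan v⁻¹ a = sr i := by
        rw [hvi, ← rep_mul_apply, inv_mul_cancel, map_one, Module.End.one_apply]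
      have hroot : IsRoot M.toCoxeterSystem hp.isCartan a := ⟨v, i, hvi⟩
      have hmin : ∀ j : Fin l, j ≠ i → (q : ℤ) ∣ rt D r j := by
        intro j hj
        have h1 := minor hp hB hd hq hζ (R := R) hpair (a := a) (a' := a')
          (fun h hh => by rw [cX_root hp M.toCoxeterSystem (hR hh).1 hroot]; exact haR h hh)
          (fun h hh => by rw [cX_root hp M.toCoxeterSystem (hR hh).1 ha']; exact ha'R h hh)
          ((co l i).comp (rep M.toCoxeterSystem hp.isCartan v⁻¹).toAddMonoidHom)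
          ((co l j).comp (rep M.toCoxeterSystem hp.isCartan v⁻¹).toAddMonoidHom)
        simp only [AddMonoidHom.comp_apply, LinearMap.toAddMonoidHom_coe, hva, co_apply, sr_self, sr_ne hj,
          mul_zero, sub_zero, one_mul, ← hrb] at h1
        exact h1
      have h6 := tabS_simple hS hr i.2 (fun j hj hji => by
        obtain ⟨b1, b2⟩ := tabS_le hS hr hj
        exact mod_five hq h5 b1 b2 (hmin ⟨j, hj⟩ (fun h => hji (congrArg Fin.val h))))
      rcases h6 with h6 | h6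
      · exact Or.inl h6
      · exact Or.inr (Or.inl h6)
    · obtain ⟨s', hs'⟩ := tabP_pok hP (i := 0) (by rw [hL]; exact hl)
      refine ⟨1, D.simple 0, s', hs', fun a' ha' ha'R => absurd ⟨a', ha', ha'R⟩ hex⟩
  · -- quadratic action
    intro w b hb hquad
    refine F.w_one hp.isCartan hq h5 w fun i => ?_
    obtain ⟨t, ht, h1⟩ := exists_tq hp hB hd hζ.pow_eq_one hz0 (pr (cartanOf D l) i)
    have ht1 : b * t * b⁻¹ ∈ TT D k := rp_conj_mem hp hk hb ht.1
    have ht2 : b * (b * t * b⁻¹) * b⁻¹ ∈ TT D k := rp_conj_mem hp hk hb ht1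
    have e0 : t * (b * (b * t * b⁻¹) * b⁻¹) = (b * t * b⁻¹) * (b * t * b⁻¹) := by
      have h2 := hquad t ht
      have h3 : ⁅⁅t, b⁆, b⁆ = t * (b * t * b⁻¹)⁻¹ * (b * (b * t * b⁻¹) * b⁻¹) * (b * t * b⁻¹)⁻¹ := by
        simp only [commutatorElement_def]; group
      rw [h3] at h2
      have c1 : (b * t * b⁻¹)⁻¹ * (b * (b * t * b⁻¹) * b⁻¹) = (b * (b * t * b⁻¹) * b⁻¹) * (b * t * b⁻¹)⁻¹ :=
        TTab hp _ (inv_mem ht1) _ ht2
      rw [mul_assoc t, c1, ← mul_assoc t, mul_assoc (t * _), ← mul_inv_rev] at h2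
      exact mul_inv_eq_one.1 h2
    have hx := congrArg (fun y => cX hp y (rep M.toCoxeterSystem hp.isCartan w (Pi.single i 1))) e0
    simp only [cX_mul hp ht.1 ht2, cX_mul hp ht1 ht1] at hx
    rw [cX_rp' hp hk hb ht1, cX_rp' hp hk hb ht.1] at hx
    have hy : cX hp (b * t * b⁻¹) (Pi.single i 1) = cX hp t (rep M.toCoxeterSystem hp.isCartan w⁻¹ (Pi.single i 1)) := by
      have h2 := cX_rp' hp hk hb ht.1 (rep M.toCoxeterSystem hp.isCartan w⁻¹ (Pi.single i 1))
      rw [← rep_mul_apply, mul_inv_cancel, map_one, Module.End.one_apply] at h2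
      exact h2
    rw [hy, h1, h1, h1, ← zpow_add₀ hz0, ← zpow_add₀ hz0] at hx
    have e2 : pr (cartanOf D l) i (Pi.single i 1) = 2 := by
      rw [pr_apply, pairing_single, hp.isCartan.diag, mul_one]
    have h7 : ζ ^ (pr (cartanOf D l) i (rep M.toCoxeterSystem hp.isCartan w (Pi.single i 1)) - 4 +
        pr (cartanOf D l) i (rep M.toCoxeterSystem hp.isCartan w⁻¹ (Pi.single i 1))) = 1 := by
      rw [e2] at hx
      have h8 : ζ ^ (pr (cartanOf D l) i (rep M.toCoxeterSystem hp.isCartan w (Pi.single i 1)) - 4 +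
        pr (cartanOf D l) i (rep M.toCoxeterSystem hp.isCartan w⁻¹ (Pi.single i 1))) * ζ ^ ((2 : ℤ) + 2) = ζ ^ ((2 : ℤ) + 2) := by
        rw [← zpow_add₀ hz0, ← hx]
        congr 1
        ring
      exact (mul_eq_right₀ (zpow_ne_zero _ hz0)).1 h8
    exact (hζ.zpow_eq_one_iff_dvd _).1 h7

end General

section Rows

variable {k : Type u} [Field k] [IsAlgClosed k] (hk : LocFin k) {p : ℕ} [Fact p.Prime] [CharP k p]

theorem cartan_F4 : cartanOf chevF4 4 = A4 := by
  funext i j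
  revert i j
  decide +kernel

theorem cartan_E7 : cartanOf chevE7 7 = WeylTwo.A7 := by
  funext i j
  revert i j
  (delta Cfsg.Agent.ChevalleyStructure.CoxeterGeomTypes.cartanOf; rewrite [Cfsg.Agent.ChevFast.E7.cartan]; decide +kernel)

theorem cartan_E8 : cartanOf chevE8 8 = WeylTwo.A8 := by
  funext i j
  revert i j
  (delta Cfsg.Agent.ChevalleyStructure.CoxeterGeomTypes.cartanOf; rewrite [Cfsg.Agent.ChevFast.E8.cartan]; decide +kernel)

theorem omOK_F4 {M : CoxeterMatrix (Fin 4)} (hp : IsType chevF4 4 M) {q : ℕ} (hq : q.Prime) (h5 : 5 ≤ q)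
    (hqp : q ≠ p) : OmOK hp hk p q (Tq hp (k := k) q) :=
  omOK_gen hp hk invC_F4 (by norm_num) (e := ![1, 1, 2, 2]) (by rw [cartan_F4]; exact fm4) tabS_F4 rfl tabP_F4
    (by norm_num) hq h5 hqp

theorem omOK_E7 {M : CoxeterMatrix (Fin 7)} (hp : IsType chevE7 7 M) {q : ℕ} (hq : q.Prime) (h5 : 5 ≤ q)
    (hqp : q ≠ p) : OmOK hp hk p q (Tq hp (k := k) q) :=
  omOK_gen hp hk invC_E7 (by norm_num) (e := fun _ => 1) (by rw [cartan_E7]; exact fm7) tabS_E7 rfl tabP_E7
    (by norm_num) hq h5 hqp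

theorem omOK_E8 {M : CoxeterMatrix (Fin 8)} (hp : IsType chevE8 8 M) {q : ℕ} (hq : q.Prime) (h5 : 5 ≤ q)
    (hqp : q ≠ p) : OmOK hp hk p q (Tq hp (k := k) q) :=
  omOK_gen hp hk invC_E8 (by norm_num) (e := fun _ => 1) (by rw [cartan_E8]; exact fm8) tabS_E8 rfl tabP_E8
    (by norm_num) hq h5 hqp

end Rows

end Cfsg.Agent.H566.OmFE

private theorem dce_d229d995aea9 : _root_.True := by
  try have : _root_.True := by simp only [_root_.Cfsg.Agent.H129.TorusChar.cX.congr_simp]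
  exact _root_.True.intro
end

-- part: H14/CommRange
section
prune_inst 0x203064440922020000180506620020040000000200470400ac4109000040476025012701000011175a08a81020040060021800c0401800000e00000000050100002816029149a108e0000e000004400000000000020000000000000000000004000000000
set_option linter.all false
open scoped Cfsg.Agent.FastGrp

/-!
# Root torus elements of order 4 in the twisted finite group (S4312 row (f))

* `comm_mem_range` : `z * h_d(i) * z⁻¹` lies in the image of the finite group (it is a commutator of fixed points).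
-/

set_option autoImplicit false
set_option linter.unusedSectionVars false

namespace Cfsg.Agent.H14.CommRange

open CoxeterSystem Cfsg Cfsg.Lie Cfsg.Lie.ChevalleyDatum
open Cfsg.Agent.ChevalleyStructure Cfsg.Agent.ChevalleyStructure.Elts Cfsg.Agent.ChevalleyStructure.CoxeterGeom
  Cfsg.Agent.ChevalleyStructure.CoxeterGeomTypes Cfsg.Agent.ChevalleyStructure.NPerm
open Cfsg.Agent.Tits.Roots Cfsg.Agent.Tits.Core Cfsg.Agent.Nodes Cfsg.Agent.Nodes.Reps Cfsg.Agent.Nodes.BNOf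
  Cfsg.Agent.Nodes.RGDChev Cfsg.Agent.Nodes.Bruhat Cfsg.Agent.Nodes.NormalForm
open Cfsg.Agent.KFacts.RgdField Cfsg.Agent.KFacts.RgdChevCoord
open Cfsg.Agent.BpExc Cfsg.Agent.BpExc.TorCent Cfsg.Agent.BpExc.TorChev Cfsg.Agent.BpExc.Tow
  Cfsg.Agent.BpExc.TowChev Cfsg.Agent.BpExc.Fr Cfsg.Agent.BpExc.Pair Cfsg.Agent.BpExc.LangFr Cfsg.Agent.GpExc.Field
  Cfsg.Agent.BpExc.TorAll
open Cfsg.Agent.H469.Exc Cfsg.Agent.H469.Exc.SigFr
open Cfsg.Agent.Nodes.RGDFoldSL
open Cfsg.Agent.H167.EX Cfsg.Agent.H795.LangT Cfsg.Agent.H129.TorusChar Cfsg.Agent.H129.TorusUntw Cfsg.Agent.H554.BS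
open scoped commutatorElement Pointwise

universe u v

section Comm

variable {D : ChevalleyDatum} {l : ℕ} {M : CoxeterMatrix (Fin l)} (hp : IsType D l M) {k : Type u} [Field k]
  [IsAlgClosed k] {p e : ℕ} [Fact p.Prime] [CharP k p] {F : Type u} [Field F] [Fintype F] (f0 : F →+* k)

/-- commutators of fixed points lie in the image of the finite group -/
theorem comm_range (hq : Fintype.card F = p ^ e) {a b : ↥(D.group k)} (ha : phi D k p e a = a)
    (hb : phi D k p e b = b) : ⁅a, b⁆ ∈ (emb hp.inList f0).range := by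
  obtain ⟨x, t, ht, rfl⟩ := fix_split hp f0 hq ha
  obtain ⟨y, s, hs, rfl⟩ := fix_split hp f0 hq hb
  have hft : phi D k p e t = t := by
    rw [map_mul, phi_emb hp f0 hq] at ha
    exact mul_left_cancel ha
  have hfs : phi D k p e s = s := by
    rw [map_mul, phi_emb hp f0 hq] at hb
    exact mul_left_cancel hb
  have hconj : ∀ (u : ↥(D.group k)), phi D k p e u = u → ∀ n ∈ (emb hp.inList f0).range,
      u * n * u⁻¹ ∈ (emb hp.inList f0).range := fun u hu n hn =>
    Emb.conj_mem_range (F := F) (hD := hp.inList) (f := f0) (φ := iterateFrobenius k p e)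
      (fun t => by rw [iterateFrobenius_def, hq]) (σ := phi D k p e) coe_phi hu hn
  have h1 := hconj t hft _ ⟨y, rfl⟩
  have h2 := hconj s hfs _ ⟨x, rfl⟩
  have hts : t * s = s * t := TT_comm hp (K := k) t ht s hs
  have e1 : ⁅emb hp.inList f0 x * t, emb hp.inList f0 y * s⁆ =
      emb hp.inList f0 x * (t * emb hp.inList f0 y * t⁻¹) *
        (emb hp.inList f0 y * (s * emb hp.inList f0 x * s⁻¹))⁻¹ := by
    rw [commutatorElement_def]
    calc emb hp.inList f0 x * t * (emb hp.inList f0 y * s) * (emb hp.inList f0 x * t)⁻¹ * (emb hp.inList f0 y * s)⁻¹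
        = emb hp.inList f0 x * (t * emb hp.inList f0 y * t⁻¹) * (t * s) * t⁻¹ * (emb hp.inList f0 x)⁻¹ * s⁻¹ *
          (emb hp.inList f0 y)⁻¹ := by group
      _ = _ := by rw [hts]; group
  rw [e1]
  exact mul_mem (mul_mem ⟨x, rfl⟩ h1) (inv_mem (mul_mem ⟨y, rfl⟩ h2))

variable (hk : LocFin k)

include hk in
theorem comm_mem_range (he : 0 < e) (hq : Fintype.card F = p ^ e) {d : ℕ} {B : Fin l → Fin l → ℤ} (hB : InvC D l d B)
    (hd : d ≠ 0) (_h2 : (2 : k) ≠ 0) {i : k} (hi : i * i = -1) {ε : ℤ} (hε : ε = 1 ∨ ε = -1)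
    (h4 : (4 : ℤ) ∣ (p : ℤ) ^ e - ε) {z : ↥(D.group k)}
    (hzT : ∀ t ∈ TT D k, (z⁻¹ * phi D k p e z) * t * (z⁻¹ * phi D k p e z)⁻¹ ∈ TT D k)
    (hzX : ∀ t ∈ TT D k, ∀ x, cX hp ((z⁻¹ * phi D k p e z) * t * (z⁻¹ * phi D k p e z)⁻¹) x = cX hp t (ε • x))
    {d0 : ℕ} (hd0 : d0 < D.nroots) (c : Fin l → ℤ) (hc : ∑ j, c j * vec D l d0 j = 1) :
    z * ph hp k hd0 (hS i) * z⁻¹ ∈ (emb hp.inList f0).range := by
  classical
  have hi0 : i ≠ 0 := by rintro rfl; rw [mul_zero] at hi; exact one_ne_zero (neg_eq_zero.1 hi.symm)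
  have hi4 : i ^ (4 : ℤ) = 1 := by
    have : i ^ (4 : ℤ) = (i * i) * (i * i) := by
      rw [show (4 : ℤ) = ((4 : ℕ) : ℤ) by norm_num, zpow_natCast]; ring
    rw [this, hi]; ring
  have hεε : ε * ε = 1 := by rcases hε with rfl | rfl <;> norm_num
  obtain ⟨n, hn⟩ : ∃ n, n = z⁻¹ * phi D k p e z := ⟨_, rfl⟩
  rw [← hn] at hzT hzX
  -- the twisted automorphism
  obtain ⟨σ, hσ⟩ : ∃ σ : MulAut ↥(D.group k), σ = MulAut.conj n * phi D k p e := ⟨_, rfl⟩
  have hσa : ∀ y, σ y = n * phi D k p e y * n⁻¹ := fun y => by rw [hσ]; rfl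
  have hfix : ∀ y, σ y = y → phi D k p e (z * y * z⁻¹) = z * y * z⁻¹ := by
    intro y hy
    rw [hσa] at hy
    have h3 : phi D k p e z = z * n := by rw [hn]; group
    rw [map_mul, map_mul, map_inv, h3]
    calc z * n * phi D k p e y * (z * n)⁻¹ = z * (n * phi D k p e y * n⁻¹) * z⁻¹ := by group
      _ = _ := by rw [hy]
  have F0 : Fr M.toCoxeterSystem hp.isCartan (TT D k) (XX D l k) (phi D k p e) (AddEquiv.refl (Fin l → ℤ)) :=
    fr_phi hp M.toCoxeterSystem
  -- the Weyl group element of `n`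
  obtain ⟨w, hw⟩ := exists_rp_of_normalizes hp hk (r := p) hzT
  have hrep : ∀ x, rep M.toCoxeterSystem hp.isCartan w x = ε • x := by
    have h3 : ∀ x, rep M.toCoxeterSystem hp.isCartan w⁻¹ x = ε • x := by
      intro x
      refine cX_sep hp (k := k) hB hd fun t ht => ?_
      have h5 := cX_rp' hp hk hw ht (rep M.toCoxeterSystem hp.isCartan w⁻¹ x)
      rw [rep_apply_inv] at h5
      rw [← h5, hzX t ht]
    intro x
    have h5 := h3 (rep M.toCoxeterSystem hp.isCartan w x)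
    rw [rep_inv_apply] at h5
    calc rep M.toCoxeterSystem hp.isCartan w x = (ε * ε) • rep M.toCoxeterSystem hp.isCartan w x := by
          rw [hεε, one_smul]
      _ = ε • x := by rw [mul_smul, ← h5]
  have H := tow hp M.toCoxeterSystem hk p
  have F1 : Fr M.toCoxeterSystem hp.isCartan (TT D k) (XX D l k) (MulAut.conj n)
      (repAut M.toCoxeterSystem hp.isCartan w) := by
    have h3 := Fr.conj H hw
    rwa [TL_eq hp hk, XL_eq hp hk] at h3
  have F2 := F1.mul F0
  rw [← hσ] at F2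
  have hFσ : IsFrob p e σ := by rw [hσ]; exact isFrob_phi.conj_mul n
  -- the torus element
  obtain ⟨L, hL⟩ : ∃ L : (Fin l → ℤ) → ℤ, L = fun x => ∑ j, c j * x j := ⟨_, rfl⟩
  have hLa : ∀ x y, L (x + y) = L x + L y := by
    intro x y
    rw [hL]
    simp only [Pi.add_apply, mul_add, Finset.sum_add_distrib]
  have hLs : ∀ (m : ℤ) x, L (m • x) = m * L x := by
    intro m x
    rw [hL]
    simp only [Pi.smul_apply, smul_eq_mul, Finset.mul_sum]
    exact Finset.sum_congr rfl fun j _ => by ring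
  have hLd : L (vec D l d0) = 1 := by rw [hL]; exact hc
  have hφ : IsMC (fun x : Fin l → ℤ => i ^ L x) :=
    { zero := by
        show i ^ L 0 = 1
        have h3 := hLs 0 0
        rw [zero_smul, zero_mul] at h3
        rw [h3, zpow_zero]
      add := fun x y => by
        show i ^ L (x + y) = _
        rw [hLa, zpow_add₀ hi0] }
  obtain ⟨s, hs, hsX⟩ := exists_cX hp hB hd hφ (fun j => IsAlgClosed.exists_pow_nat_eq _ (Nat.pos_of_ne_zero hd))
  have hphis : phi D k p e s ∈ TT D k := (F0.tor s).2 hs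
  have hσs : σ s = s := by
    rw [hσa]
    refine cX_inj hp (hzT _ hphis) hs fun j => ?_
    rw [hzX _ hphis]
    have h3 := cX_sigma hp M.toCoxeterSystem isFrob_phi F0 hs (ε • sr j)
    have h5 : (AddEquiv.refl (Fin l → ℤ)) (ε • sr j) = ε • sr j := rfl
    rw [h5] at h3
    rw [h3, hsX, hsX, hLs, ← zpow_natCast, ← zpow_mul]
    obtain ⟨m, hm⟩ := h4
    have h6 : ε * L (sr j) * ((p ^ e : ℕ) : ℤ) = L (sr j) + 4 * (ε * m * L (sr j)) := by
      have h7 : ((p ^ e : ℕ) : ℤ) = ε + 4 * m := by push_cast; linarith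
      rw [h7]
      linear_combination (L (sr j)) * hεε
    rw [h6, zpow_add₀ hi0, zpow_mul, hi4, one_zpow, mul_one]
  -- the reflection
  obtain ⟨v, hv⟩ := exists_rp_of_normalizes hp hk (r := p) (c := wE hp k d0) (fun t ht => (cX_wE hp hk hd0 p ht).1)
  have hvX : ∀ y, rep M.toCoxeterSystem hp.isCartan v⁻¹ y = sra D l d0 y := by
    intro y
    refine cX_sep hp (k := k) hB hd fun t ht => ?_
    have h5 := cX_rp' hp hk hv ht (rep M.toCoxeterSystem hp.isCartan v⁻¹ y)
    rw [rep_apply_inv] at h5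
    rw [← h5, (cX_wE hp hk hd0 p ht).2]
  obtain ⟨m, hm, hσm⟩ := exists_fixed_lift hp hk hB hd he hFσ F2 (v := v) (by
    intro x
    show rep M.toCoxeterSystem hp.isCartan v (rep M.toCoxeterSystem hp.isCartan w x) =
      rep M.toCoxeterSystem hp.isCartan w (rep M.toCoxeterSystem hp.isCartan v x)
    rw [hrep, hrep, map_zsmul])
  have hsm : m * s * m⁻¹ ∈ TT D k := rp_conj_mem hp hk hm hs
  have key : ph hp k hd0 (hS i) = ⁅s, m⁆ := by
    have e1 : ⁅s, m⁆ = s * (m * s * m⁻¹)⁻¹ := by rw [commutatorElement_def]; group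
    rw [e1]
    refine cX_inj hp (ph_hS_mem hp hd0 hi0) (mul_mem hs (inv_mem hsm)) fun j => ?_
    have hinv : cX hp (m * s * m⁻¹)⁻¹ (sr j) = (cX hp (m * s * m⁻¹) (sr j))⁻¹ := by
      refine eq_inv_of_mul_eq_one_left ?_
      rw [← cX_mul hp (inv_mem hsm) hsm, inv_mul_cancel, cX_one]
    have h5 := cX_rp' hp hk hm hs (rep M.toCoxeterSystem hp.isCartan v⁻¹ (sr j))
    rw [rep_apply_inv, hvX, hsX] at h5
    rw [cX_mul hp hs (inv_mem hsm), hinv, h5, hsX, cX_ph_hS hp hk hd0 p hi0]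
    have h6 : L (sra D l d0 (sr j)) = L (sr j) - fs D l d0 (sr j) := by
      have h7 := hLa (sra D l d0 (sr j)) (fs D l d0 (sr j) • vec D l d0)
      rw [hLs, hLd] at h7
      unfold sra at h7 ⊢
      rw [sub_add_cancel] at h7
      linarith
    show i ^ fs D l d0 (sr j) = i ^ L (sr j) * (i ^ L (sra D l d0 (sr j)))⁻¹
    rw [h6, ← zpow_neg, ← zpow_add₀ hi0]
    congr 1
    ring
  have e2 : z * ph hp k hd0 (hS i) * z⁻¹ = ⁅z * s * z⁻¹, z * m * z⁻¹⁆ := by
    rw [key, commutatorElement_def, commutatorElement_def]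
    group
  rw [e2]
  exact comm_range hp f0 hq (hfix s hσs) (hfix m hσm)

end Comm

end Cfsg.Agent.H14.CommRange

private theorem dce_c249eb8ad1e6 : _root_.True := by
  try have : _root_.True := by simp only [_root_.Cfsg.Agent.H129.TorusChar.cX.congr_simp]
  try have : _root_.True := by simp only [_root_.Cfsg.Agent.H129.TorusUntw.phi.congr_simp]
  exact _root_.True.intro
end

-- part: H167/EX/ChkAll
section
set_option linter.all false
open scoped Cfsg.Agent.FastGrp

/-!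
# The combinatorial conditions (helper167, S4312, exceptional groups)
-/

set_option autoImplicit false
set_option linter.unusedSectionVars false

namespace Cfsg.Agent.H167.EX

open Cfsg Cfsg.Lie Cfsg.Lie.ChevalleyDatum Cfsg.Agent.ChevalleyStructure

/-- every root has an odd pairing with the given root -/
def oddB (D : ChevalleyDatum) (L1 : List ℕ) (w : List ℕ) : Bool :=
  (List.range D.nroots).all fun b => L1.contains (w.getD b 0) && decide (HMatDiagAll.expo D (w.getD b 0) b % 2 = 1)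

/-- the pairings modulo 4 -/
def code (D : ChevalleyDatum) : List ℕ → ℕ → ℕ
  | [], _ => 0
  | d :: L, b => (HMatDiagAll.expo D d b % 4).toNat + 4 * code D L b

/-- every root has a pairing 1 with the given root -/
def oneB (D : ChevalleyDatum) (w : List ℕ) : Bool :=
  (List.range D.nroots).all fun b => decide (w.getD b 0 < D.nroots) && decide (HMatDiagAll.expo D b (w.getD b 0) = 1)

theorem code_eq {D : ChevalleyDatum} {L : List ℕ} {b b' : ℕ}
    (h : ∀ d ∈ L, HMatDiagAll.expo D d b' % 4 = HMatDiagAll.expo D d b % 4) : code D L b' = code D L b := by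
  induction L with
  | nil => rfl
  | cons d L ih =>
    show (HMatDiagAll.expo D d b' % 4).toNat + 4 * code D L b' = (HMatDiagAll.expo D d b % 4).toNat + 4 * code D L b
    rw [h d List.mem_cons_self, ih fun d' hd' => h d' (List.mem_cons_of_mem _ hd')]

theorem of_oddB {D : ChevalleyDatum} {L1 w : List ℕ} (h : oddB D L1 w = true) :
    ∀ b < D.nroots, ∃ d ∈ L1, HMatDiagAll.expo D d b % 2 ≠ 0 := by
  intro b hb
  have h1 := List.all_eq_true.1 h b (List.mem_range.2 hb)
  rw [Bool.and_eq_true, decide_eq_true_iff, List.contains_iff_mem] at h1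
  refine ⟨_, h1.1, ?_⟩
  rw [h1.2]
  exact one_ne_zero

theorem of_oneB {D : ChevalleyDatum} {w : List ℕ} (h : oneB D w = true) :
    ∀ b < D.nroots, ∃ r < D.nroots, HMatDiagAll.expo D b r = 1 := by
  intro b hb
  have h1 := List.all_eq_true.1 h b (List.mem_range.2 hb)
  rw [Bool.and_eq_true, decide_eq_true_iff, decide_eq_true_iff] at h1
  exact ⟨_, h1⟩

theorem chk_of_nodup {D : ChevalleyDatum} {L1 w w' : List ℕ} (h1 : oddB D L1 w = true) (h2 : oneB D w' = true)
    (h3 : ((List.range D.nroots).map (code D L1)).Nodup) : Chk D L1 id where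
  odd := of_oddB h1
  sep _ hb _ hb' h := Or.inl (List.inj_on_of_nodup_map h3 (List.mem_range.2 hb') (List.mem_range.2 hb) (code_eq h))
  one := of_oneB h2
  lt _ h := h
  ort _ _ := Or.inl rfl

/-- the separation of the roots outside the orbits of `g` -/
def sepB (D : ChevalleyDatum) (L1 g : List ℕ) : Bool :=
  (List.range D.nroots).all fun b => (List.range D.nroots).all fun b' =>
    decide (b' = b) || decide (b' = g.getD b 0) || !decide (code D L1 b' = code D L1 b)

/-- the orbits of `g` are strongly orthogonal -/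
def ortB (D : ChevalleyDatum) (g : List ℕ) : Bool :=
  (List.range D.nroots).all fun b => decide (g.getD b 0 < D.nroots) && (decide (g.getD b 0 = b) ||
    (decide (g.getD b 0 ≠ D.neg b) && (D.commTerms b (g.getD b 0)).isEmpty &&
    (D.commTerms (D.neg b) (g.getD b 0)).isEmpty && (D.commTerms b (D.neg (g.getD b 0))).isEmpty &&
    (D.commTerms (D.neg b) (D.neg (g.getD b 0))).isEmpty))

theorem chk_of_sep {D : ChevalleyDatum} {L1 g w w' : List ℕ} (h1 : oddB D L1 w = true) (h2 : oneB D w' = true)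
    (h3 : sepB D L1 g = true) (h4 : ortB D g = true) : Chk D L1 (fun b => g.getD b 0) where
  odd := of_oddB h1
  sep b hb b' hb' h := by
    have h5 := List.all_eq_true.1 (List.all_eq_true.1 h3 b (List.mem_range.2 hb)) b' (List.mem_range.2 hb')
    rw [Bool.or_eq_true, Bool.or_eq_true, decide_eq_true_iff, decide_eq_true_iff, Bool.not_eq_true',
      decide_eq_false_iff_not] at h5
    rcases h5 with (h5 | h5) | h5
    · exact Or.inl h5
    · exact Or.inr h5
    · exact absurd (code_eq h) h5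
  one := of_oneB h2
  lt b hb := by
    have h5 := List.all_eq_true.1 h4 b (List.mem_range.2 hb)
    rw [Bool.and_eq_true, decide_eq_true_iff] at h5
    exact h5.1
  ort b hb := by
    have h5 := List.all_eq_true.1 h4 b (List.mem_range.2 hb)
    rw [Bool.and_eq_true, Bool.or_eq_true, decide_eq_true_iff, decide_eq_true_iff, Bool.and_eq_true, Bool.and_eq_true,
      Bool.and_eq_true, Bool.and_eq_true, decide_eq_true_iff] at h5
    rcases h5.2 with h6 | ⟨⟨⟨⟨h6, h7⟩, h8⟩, h9⟩, h10⟩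
    · exact Or.inl h6
    · exact Or.inr ⟨h6, h7, h8, h9, h10⟩

/-! ### the chain tables of `E₆`, `E₇`, `E₈` as bit masks (for the kernel computations) -/

namespace Fast

/-- the roots with an entry in a row of the chain table -/
noncomputable def msk (l : List (ℕ × Array (ℕ × ℤ))) : ℕ :=
  List.rec (motive := fun _ => ℕ) 0 (fun e _ a => Nat.lor (Nat.pow 2 e.1) a) l

/-- all chains of the row have length one -/
noncomputable def one (l : List (ℕ × Array (ℕ × ℤ))) : Bool :=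
  List.rec (motive := fun _ => Bool) true (fun e _ a => and (Nat.beq e.2.toList.length 1) a) l

/-- `T` is the table of the masks of the rows -/
noncomputable def rows (n : ℕ) (L : List (Array (ℕ × Array (ℕ × ℤ)))) : ℕ → Bool :=
  List.rec (motive := fun _ => ℕ → Bool) (fun T => Nat.beq T 0)
    (fun row _ ih T => and (one row.toList) (and (Nat.beq (msk row.toList) (Nat.mod T (Nat.pow 2 n)))
      (ih (Nat.shiftRight T n)))) L

/-- the bit `(r, s)` of the table -/
def bt (n T r s : ℕ) : Bool :=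
  Nat.beq (Nat.land 1 (Nat.shiftRight (Nat.mod (Nat.shiftRight T (Nat.mul n r)) (Nat.pow 2 n)) s)) 1

theorem bt_eq (n T r s : ℕ) : bt n T r s = ((T >>> (n * r)) % 2 ^ n).testBit s := by
  show Nat.beq (1 &&& (((T >>> (n * r)) % 2 ^ n) >>> s)) 1 = (1 &&& (((T >>> (n * r)) % 2 ^ n) >>> s) != 0)
  generalize ((T >>> (n * r)) % 2 ^ n) >>> s = x
  rw [Nat.one_and_eq_mod_two]
  rcases Nat.mod_two_eq_zero_or_one x with h | h <;> rw [h] <;> rfl

theorem msk_bit (l : List (ℕ × Array (ℕ × ℤ))) (s : ℕ) : (msk l).testBit s = (l.find? fun e => e.1 = s).isSome := by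
  induction l with
  | nil => exact Nat.zero_testBit s
  | cons e l ih =>
    show (2 ^ e.1 ||| msk l).testBit s = _
    rw [Nat.testBit_or, ih, Nat.testBit_two_pow, List.find?_cons]
    cases decide (e.1 = s) <;> rfl

theorem one_spec {l : List (ℕ × Array (ℕ × ℤ))} (h : one l = true) : ∀ e ∈ l, e.2.toList.length = 1 := by
  induction l with
  | nil => exact fun e he => absurd he List.not_mem_nil
  | cons a l ih =>
    have h' : (Nat.beq a.2.toList.length 1 && one l) = true := h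
    rw [Bool.and_eq_true] at h'
    intro e he
    rcases List.mem_cons.1 he with rfl | he
    · exact Nat.eq_of_beq_eq_true h'.1
    · exact ih h'.2 e he

theorem rows_spec {n : ℕ} {L : List (Array (ℕ × Array (ℕ × ℤ)))} {T : ℕ} (h : rows n L T = true) (r : ℕ) :
    one (L[r]?.getD #[]).toList = true ∧ msk (L[r]?.getD #[]).toList = (T >>> (n * r)) % 2 ^ n := by
  induction L generalizing T r with
  | nil =>
    have h' : T = 0 := Nat.eq_of_beq_eq_true h
    rw [h', Nat.zero_shiftRight, Nat.zero_mod]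
    exact ⟨rfl, rfl⟩
  | cons a L ih =>
    have h' : (one a.toList && (Nat.beq (msk a.toList) (T % 2 ^ n) && rows n L (T >>> n))) = true := h
    rw [Bool.and_eq_true, Bool.and_eq_true] at h'
    cases r with
    | zero => exact ⟨h'.1, Nat.eq_of_beq_eq_true h'.2.1⟩
    | succ r =>
      have h1 := ih h'.2.2 r
      rw [← Nat.shiftRight_add, Nat.add_comm n, ← Nat.mul_succ] at h1
      exact h1

/-- the table `T` and the opposite roots are correct -/
noncomputable def ok (D : ChevalleyDatum) (n T : ℕ) : Bool :=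
  and (rows n D.chain.toList T) (decide (D.negIdx.toList = (List.range n).map fun r => n - 1 - r))

variable {D : ChevalleyDatum} {n T : ℕ}

theorem neg_eq (h : ok D n T = true) : D.neg = fun r => Nat.sub (Nat.sub n 1) r := by
  have h1 : D.negIdx.toList = (List.range n).map fun r => n - 1 - r := of_decide_eq_true (Bool.and_eq_true_iff.1 h).2
  funext r
  show D.negIdx.getD r 0 = n - 1 - r
  rw [Array.getD_eq_getD_getElem?, ← Array.getElem?_toList, h1, List.getElem?_map]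
  by_cases hr : r < n
  · rw [List.getElem?_range hr]; rfl
  · rw [List.getElem?_eq_none (by rw [List.length_range]; exact Nat.le_of_not_lt hr)]
    show 0 = n - 1 - r
    omega

theorem len_eq (h : ok D n T = true) (r s : ℕ) : (D.chainEntry r s).length = bif bt n T r s then 1 else 0 := by
  have h1 := rows_spec (Bool.and_eq_true_iff.1 h).1 r
  rw [Array.getElem?_toList, ← Array.getD_eq_getD_getElem?] at h1
  rw [bt_eq, ← h1.2, msk_bit]
  delta ChevalleyDatum.chainEntry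
  cases he : (D.chain.getD r #[]).toList.find? (fun e => e.1 = s) with
  | none => rfl
  | some e => exact one_spec h1.1 e (List.mem_of_find?_eq_some he)

/-- the pairing of two roots -/
def exT (n T r s : ℕ) : ℤ :=
  bif Nat.beq s r then Int.ofNat 2 else bif Nat.beq s (Nat.sub (Nat.sub n 1) r) then Int.negSucc 1 else
  bif bt n T (Nat.sub (Nat.sub n 1) r) s then (bif bt n T r s then Int.ofNat 0 else Int.ofNat 1)
  else (bif bt n T r s then Int.negSucc 0 else Int.ofNat 0)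

theorem expo_eq (h : ok D n T = true) : HMatDiagAll.expo D = exT n T := by
  funext r s
  rw [HMatDiagAll.expo_def, len_eq h, len_eq h, neg_eq h]
  delta exT
  by_cases h1 : s = r
  · rw [if_pos h1, Nat.beq_eq.mpr h1]; rfl
  have h1' : Nat.beq s r = false := Bool.eq_false_iff.2 fun h3 => h1 (Nat.eq_of_beq_eq_true h3)
  rw [if_neg h1, h1']
  by_cases h2 : s = Nat.sub (Nat.sub n 1) r
  · rw [if_pos h2, Nat.beq_eq.mpr h2]; rfl
  have h2' : Nat.beq s (Nat.sub (Nat.sub n 1) r) = false := Bool.eq_false_iff.2 fun h3 => h2 (Nat.eq_of_beq_eq_true h3)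
  rw [if_neg h2, h2']
  cases bt n T (Nat.sub (Nat.sub n 1) r) s <;> cases bt n T r s <;> rfl

/-- the terms of the commutator formula -/
def cmT (D : ChevalleyDatum) (n T r s : ℕ) : List (ℕ × ℤ × ℕ × ℕ) := bif bt n T r s then D.commTerms r s else []

theorem comm_eq (h : ok D n T = true) : D.commTerms = cmT D n T := by
  funext r s
  delta cmT
  have h1 := len_eq h r s
  have h2 := len_eq h s r
  cases hb : bt n T r s with
  | true => rfl
  | false =>
    rw [hb] at h1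
    have h0 : ∀ i, D.chainRoot r s i = none := fun i => by
      delta ChevalleyDatum.chainRoot
      rw [List.getElem?_eq_none (by rw [h1]; exact Nat.zero_le _)]; rfl
    have h3 : ∀ i, D.chainRoot s r (i + 2) = none := fun i => by
      delta ChevalleyDatum.chainRoot
      rw [List.getElem?_eq_none (by rw [h2]; cases bt n T s r <;> exact Nat.le_add_left _ _ |>.trans (Nat.le_refl _))]; rfl
    delta ChevalleyDatum.commTerms
    simp only [h0, h3 0, h3 1]
    rfl

/-- traversal of a list with its indices -/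
noncomputable def trav (P : ℕ → ℕ → Bool) (n : ℕ) (l : List ℕ) : ℕ → Bool :=
  List.rec (motive := fun _ => ℕ → Bool) (fun k => Nat.beq k n) (fun a _ ih k => and (P k a) (ih (Nat.succ k))) l

theorem trav_spec {P : ℕ → ℕ → Bool} {n : ℕ} {l : List ℕ} {k : ℕ} (h : trav P n l k = true) (j : ℕ) (hj : k + j < n) :
    P (k + j) (l.getD j 0) = true := by
  induction l generalizing k j with
  | nil =>
    have h' : k = n := Nat.eq_of_beq_eq_true h
    omega
  | cons a l ih =>
    have h' : (P k a && trav P n l (k + 1)) = true := h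
    rw [Bool.and_eq_true] at h'
    cases j with
    | zero => exact h'.1
    | succ j =>
      have h1 := ih h'.2 j (by omega)
      rw [Nat.add_assoc, Nat.add_comm 1 j] at h1
      exact h1

theorem all_getD {P : ℕ → ℕ → Bool} {n : ℕ} {l : List ℕ} (h : trav P n l 0 = true) :
    ((List.range n).all fun b => P b (l.getD b 0)) = true := by
  refine List.all_eq_true.2 fun b hb => ?_
  have h1 := trav_spec h b (by rw [Nat.zero_add]; exact List.mem_range.1 hb)
  rwa [Nat.zero_add] at h1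

/-- no repetition, and no entry in the mask -/
noncomputable def nd (l : List ℕ) : ℕ → Bool :=
  List.rec (motive := fun _ => ℕ → Bool) (fun _ => true)
    (fun a _ ih m => and (Nat.beq (Nat.land m (Nat.pow 2 a)) 0) (ih (Nat.lor m (Nat.pow 2 a)))) l

theorem nd_spec {l : List ℕ} {m : ℕ} (h : nd l m = true) : l.Nodup ∧ ∀ a ∈ l, m.testBit a = false := by
  induction l generalizing m with
  | nil => exact ⟨List.nodup_nil, fun a ha => absurd ha List.not_mem_nil⟩
  | cons a l ih =>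
    have h' : (Nat.beq (m &&& 2 ^ a) 0 && nd l (m ||| 2 ^ a)) = true := h
    rw [Bool.and_eq_true] at h'
    obtain ⟨h1, h2⟩ := ih h'.2
    have h3 : m.testBit a = false := by
      have h4 := Nat.testBit_and m (2 ^ a) a
      rw [Nat.eq_of_beq_eq_true h'.1, Nat.zero_testBit, Nat.testBit_two_pow_self, Bool.and_true] at h4
      exact h4.symm
    refine ⟨List.nodup_cons.2 ⟨fun ha => ?_, h1⟩, fun b hb => ?_⟩
    · have h4 := h2 a ha
      rw [Nat.testBit_or, Nat.testBit_two_pow_self, Bool.or_true] at h4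
      exact absurd h4 (by decide)
    · rcases List.mem_cons.1 hb with rfl | hb
      · exact h3
      · have h4 := h2 b hb
        rw [Nat.testBit_or, Bool.or_eq_false_iff] at h4
        exact h4.1

theorem exT_cases (n T r s : ℕ) : s = r ∨ s = Nat.sub (Nat.sub n 1) r ∨ exT n T r s =
    bif bt n T (Nat.sub (Nat.sub n 1) r) s then (bif bt n T r s then Int.ofNat 0 else Int.ofNat 1)
    else (bif bt n T r s then Int.negSucc 0 else Int.ofNat 0) := by
  delta exT
  cases h1 : Nat.beq s r with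
  | true => exact Or.inl (Nat.eq_of_beq_eq_true h1)
  | false =>
    cases h2 : Nat.beq s (Nat.sub (Nat.sub n 1) r) with
    | true => exact Or.inr (Or.inl (Nat.eq_of_beq_eq_true h2))
    | false => exact Or.inr (Or.inr rfl)

theorem two_of (h : ok D n T = true) (s : ℕ) : two D s = true := by
  delta two
  rw [expo_eq h]
  refine decide_eq_true (le_trans (Finset.card_le_card (t := {s, Nat.sub (Nat.sub n 1) s}) fun r hr => ?_)
    Finset.card_le_two)
  have h7 := (Finset.mem_filter.1 hr).2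
  rcases exT_cases n T s r with h8 | h8 | h8
  · exact Finset.mem_insert.2 (Or.inl h8)
  · exact Finset.mem_insert.2 (Or.inr (Finset.mem_singleton.2 h8))
  · rw [h8] at h7
    exfalso
    revert h7
    cases bt n T s r <;> cases bt n T (Nat.sub (Nat.sub n 1) s) r <;> decide

/-- `code` from the table -/
noncomputable def codeT (n T : ℕ) (L : List ℕ) (b : ℕ) : ℕ :=
  List.rec (motive := fun _ => ℕ) 0 (fun d _ a => Nat.add (exT n T d b % 4).toNat (Nat.mul 4 a)) L

theorem code_eq (h : ok D n T = true) (L : List ℕ) : code D L = codeT n T L := by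
  funext b
  induction L with
  | nil => rfl
  | cons d L ih =>
    show (HMatDiagAll.expo D d b % 4).toNat + 4 * code D L b = (exT n T d b % 4).toNat + 4 * codeT n T L b
    rw [ih, expo_eq h]

theorem oddB_of (h : ok D n T = true) {L1 w : List ℕ}
    (h2 : trav (fun b x => L1.contains x && decide (exT n T x b % 2 = 1)) D.nroots w 0 = true) : oddB D L1 w = true := by
  delta oddB
  rw [expo_eq h]
  exact all_getD h2

theorem oneB_of (h : ok D n T = true) {w : List ℕ}
    (h2 : trav (fun b x => decide (x < D.nroots) && decide (exT n T b x = 1)) D.nroots w 0 = true) : oneB D w = true := by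
  delta oneB
  rw [expo_eq h]
  exact all_getD h2

theorem ortB_of (h : ok D n T = true) {g : List ℕ}
    (h2 : trav (fun b x => decide (x < D.nroots) && (decide (x = b) ||
      (decide (x ≠ Nat.sub (Nat.sub n 1) b) && (cmT D n T b x).isEmpty && (cmT D n T (Nat.sub (Nat.sub n 1) b) x).isEmpty &&
      (cmT D n T b (Nat.sub (Nat.sub n 1) x)).isEmpty &&
      (cmT D n T (Nat.sub (Nat.sub n 1) b) (Nat.sub (Nat.sub n 1) x)).isEmpty))) D.nroots g 0 = true) :
    ortB D g = true := by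
  delta ortB
  rw [comm_eq h, neg_eq h]
  exact all_getD h2

/-- the masks of `E6` -/
def tE6 : ℕ :=
  nat_lit 0x3ff07fe0000004001dc0738fd00000080862c195b3b0000010128342a6d5700000202503834768f0000040c06c0c19bc700000814294142adab00001024518184b673000020198a0248ce6d0000402a940290d5b500008033600320e3d900002dc00a4400f16e000056c0148800eab600009b40611000dcda0000e383802000bf1c0000fc3c0000007fe00027000006ccde0027004b000029556d004b009300005199b30093010d00018a2673010d02150002942aad02150419000360331e0419080e001c0a438b01611016002c14835502a1201a00346102e604c1401c003b8001f80701016101c00a780b080e02a102c014b415101604c10340612c26201a07010383801c38401c08620c440b8443086210a2144415488510a220c2184460d10620c2092424888c444909241224448892889112240948291122444a09481290522244889412902448891149112224482490922231112424904304608b06221843044508a112a8222845084610c221d02230461038021c3801c1c080e0580464348602c083206808a82d28034085407010d01e500380868080e01f8001dc00380283206740862c0058048540aac128340068088680d1c25038007010982078cc06c0009820a840b554294000a840b080ce64518000b080c900cd998a0000c900d200b6aa940000d200e4007b33600000e40007fe0000003c3f000038fd000401c1c700005b3b00088602d900006d57001128036a0000768f00225003b400009bc704c006cc010000adab09402954020000b67312405198040000ce6d21818a24080000d5b542829428100000e3d983036030200000f16e2c1c0a40400000eab6542c1480800000dcda98346101000000bf1ce03b80020000007fe0ffc00000000000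

theorem okE6 : ok chevE6 72 tE6 = true := by decide +kernel

/-- the masks of `E7` -/
def tE7 : ℕ :=
  nat_lit 0x7fffffff8000000020000000001f07fe0001fffd00000001000008000781e1f801f81fec0000000800004200e00bb8e038e38f70000000400002110c00376c816cb25bc0000002000010894000eed406d5525f000000100000844a0003dda01da690fc00000080008c0000ee7000e380e3f0f0000004000450010c5ac00c960cb3a5c00000200022400941ad0054685555a7000001000111004a073801a1c1a68f1c000008000818060361301829982f19b00000400040a028528540a12aa15aaac0000200020481228c160308b3099ccb00001000100c03314064124332466ccc000080008050154a01a0520d5216d53000040004018066c007019039903d98c000200000980e003660180319bc099d0001000004a058052a80a014ab684ab40008000024826028cc03009336624cd0004000010c068314481204533990cd4002000008502a14a1405021555a8555001000004180c86c0601810598f41994008000005801ce0520088818f165839004000002a00b582900244065aaaa1640200000130035a30800a201a5cd3069010000007000e770000310070fc701c40800000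05bbc00052210001f0965b81040000002b77000291080007a4aab6042000000136ec00308840001da4d36811000000071dd007004200006f1c71c0480000001f8781e0001000017f81f801400000007fe0f80000000003fff800040002099e0000000366319bc0002099e000104ab800000052a94ab6800104ab8000824ce00000028cc63366000824ce000410cd8000003144a5339800410cd8002085560000014a14a555a00208556001041998000006c063198f0010419980080583a00000e052118f160080583a00402a1680000582904a5aa80402a1680201306a00001a30814a5cc0201306a0100701c8000077000630fc0100701c80096003c0001e005220f0960096003c004a80170000b8029103a4a804a80170024c006c00036030880da4c024c006c011c001d0000e8700402f1c011c001d0078000780003de000007f8007800078020016e0800f000148f8025820016e081000ad82005c000a45d012a1000ad8208004da0801b000c226c09308004da084001c702007401c011704704001c70220007e00801e0780003c1e020007e00808160384038420053c1081608160384040a816101610802968840a840a81610204c068406842030964204c204c0684101c01c101c1087003a101c101c01c10088618881888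4205c2108860886188804428a220a221082a90844284428a220220c308830884230684220c220c3088022492441244211188842248224924401122891089108449442112211228910022514881488422448842250225148801128a440a442112244211281128a440089144884488422922108910891448802249244124421118884224822492440110c304430442160c42110c110c304404451422142210954108445044514220111861106110843a04211181118611008380380838085c00e108380838038082160320432042690c042160216032040868150215021169401086808681502021c06810681083ca00421c021c068101007e00040783c0001e07801007e000440e380020e20e8803802e0040e38002105b20010c9036443000d80105b2001041b500085480ba250003a0041b50008107680041a401f128000f001076800401e0001e001fe000007bc0001e0001e00b800388038f40200e170000b800388036003240325b0110c06c000360032400e8015201525c089401d0000e80152003c006900690f044a00780003c0069001380e00803f0c6000ee00001380e0080560c804033a52810c580000560c804016854020155a520941a00001685402005c1a010068f1884a07000005c1a0100199820800f198c6036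000001998208006aa104005aaa528528000006aa104001b30820019cca5228c000001b30820007324100066cc63314000000732410001d52080016d52954a0000001d5208000799040003d98c66c00000007990400020001fffc0000000001f07fe00000002801f81fe800008000781e1f800000012038e38f600004200e00bb8e00000008816cb25b80002110c00376c80000004206d5525e00010894000eed40000002081da690f8000844a0003dda000000102380e3f0e008c0000ee7000e00000080960cb3a580450010c5ac00c800000402685555a6022400941ad0054000002009c1a68f18111004a073801a0000010029982f19a08180603613018200000800aaa15aaa840a028528540a1000004002b3099cca20481228c16030800002000b32466cc900c03314064124000010002d5216d528050154a01a052000008000b9903d98c018066c007019000004000319bc099c0980e003660180200020000cab684ab04a058052a80a01000100003336624cc24826028cc0300800080000d33990cd10c068314481204000400003555a85548502a14a140502000200000d98f41994180c86c06018100010000038f1658385801ce05200888000800000e5aaaa162a00b5829002440004000003a5cd306930035a30800a20002000000f0fc701c7000e7700003100010000003f0965b805bbc0005221000008000000fa4aab602b7700029108000040000003da4d368136ec0030884000020000000ef1c71c071dd007004200001000000037f81f801f8781e00010000080000000bfff80007fe0f8000000000400000001fffffffe00000000000000000000000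

theorem okE7 : ok chevE7 126 tE7 = true := by decide +kernel

/-- the masks of `E8` -/
def tE8 : ℕ :=
  nat_lit 0xa442082112c0844b12cb72ddefdffe00000000000000000000000000000148841042254108952555b56ef7effd000000000000000000000000000006110820844982112649a6d9b77bf7fb000000000000000000000000000038021041088e0422388e38ee3bbdfbf70000000000000000000000000003c000208210f00843c0f03f0fc3defdef000000000000000000000000007c000001041f00107c00ffc00ffc1f7edf0000000000000000000000001f8000000007e000207fff00000fffe07f3f000000000000000000000007e000000001f800001f8000fffff0001fbf3f0000000000000000000000f8208000003e0000002f83ff003ff003e0bedf000000000000000000000f0841040003c000000037bc3f0fc0f03c213def0000000000000000000071108208401c000000003bddc771c711c4423bf700000000000000000001922104108860000000003deed9b65926488437fb00000000000000000002a44208211280000000003ef76adaaa4a91082ffd00000000000000000003488410422500000000003f7bb4ed348d22101ffe000000000000000001fc0000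000000000007ffffc0000000000fffff807f00000000000000003e0c0000200000003ef800ffc00000003ff003ff419f0000000000000003c214000040040003c1780f0fc000000fc0f03c3ec2af000000000000001c442400008008401c01b81771c0000071c711c45dc4b70000000000000064884400010010886001d81bb6400000b65926489bc8bb00000000000000a9108400020021128001e81dda800000daaa4a9117d0bd00000000000000d2210400040042250001f01eed000000ed348d220fe0be0000000000000f000218000801800003de01e00fc0003f0000f03fc1c34f0000000000007100042800100280401c2e02e071c001c7000711c7a2c55700000000000192000848002004808860360360b64002d90019264b64c95b000000000002a40010880040088112803a03a0da80036a002a4a92e8d15d000000000003480021080080108225003c03c0ed0003b400348d21f0e15e00000000001c010040300100030c001dc004e701c01c0701c011f863466700000000006402008050020005140862c0056b06402c1906402674a54a6b0000000000a8040100900400092412834005ad0a80342a0a804aad29526d0000000000d0080201100800114425038005ce0d0038340d008d1e31626e00000000030410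04006010000618c06c00067330404cc13041078cc64c73000000000508200800a020000a2942940006b55080554250820b554a5475000000000610401001204000124a45180006d66100598461040ce6526476000000000920802000c080000c3198a00007399200664892080cd98c5879000000000a410040014100001452a94000075aa4006a90a4100b6a94687a000000000c820080018200001863360000079cc8007320c82007b318707c000000007000010046000118e000001dce380001c3800701c7e00463878700000001900002008a00022960000862d65800064580190659d008a58b8b00000002a00004011200044a600012835a68000a86802a0aaab01129938d00000003400008022200088c600025039c70000d0700340d34702231a38e0000000c100010040c001031a000c06c269800304980c1305e3040c68d93000000142000200814002052a00142942aa800508a814250ad50814a9595000000184000401024004094a00245182cb000610b01846133910252a596000000248000802018008063200198a032c800920c8248923362018c99990000002900010040280100a52002a94034d000a40d0290a42da40294a99a0000003200020080300200c62003360038e000c80e0320c81ec80318b19c0000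00c010040004c0001301c01c006cc1180300518c013781304c070ea3000001402008000940002502c02c0295412805009294025b4250940b16a5000001804010001240004904c04c0519813006011318046cc491241326a6000002408020002180008603403418a24148090214a4089cc862180d1aa9000002810040004280010a054054294281500a04152810ab50a428152aaa000003020080008300020c064064360301600c08163020c7a0c8301932ac000004440100002c0000b0038039c0a40188111018c440e2cb02c00e1cb1000004880200005400015005805ac14801901220194880d5550540162cb2000005100400009800026006806b461001a014401a5100b9a609801a34b400000620080000e0000380070073b80001c018801c62007e380e001c38b80000180010041300000013380780006cc6006000618cde0041304ce00f430000280020082500000025580b8002954a00a000a2956d00825095601745000030004010490000004998138005198c00c0012319b3010491266027460000480080208600000086680d8018a25201200224a67302086219a01b490000500100410a0000010aa81580294294014004252aad0410a42aa02b4a0000600200820c0000020cc8198036031801800826331e0820c833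20334c000088040100b0000000b0700e81c0a42202201028c78b100b02c1c01d510000900802015000000150b01682c14824024020294b5520150542c02d520000a01004026000000260d01a834610280280402a52e6402609834035540000c02008038000000380e01c83b800300300802c61f880380e0380395800010840012c00000000b7000f3c00a44004210030f84b12c002dc001e61000110800254000000015b00175c0148800442003174952540056c002e62000121000498000000026d001b6c061100048400326d26498009b40036640001420008e0000000038e001d74380200050800345e388e000e38003a68000184000f0000000003f0001e7bc00000061000383fc0f0000fc0003c7000020844b00000000000b77be00000a4420800003f044b12cb7000001f81000210895000000000015bbde0000148841000003e88952555b000002f82000221126000000000026ddee0000611082000003d912649a6d000003784000242238000000000038eef60003802104000003ba2388e38e000003b880002843c000000000003f0f7a003c0002080000037c3c0f03f0000003d90000307c0000000000003ff07c07c0000010000002ffc00ffc00000003ea00003f800000000000003fff81f800000000000001fff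ff00000000003f40000c000010041304ce7c00000000006cc61863378000010041304ce7c003001400002008250956bc0000000002954a28a55b400002008250956bc0050018000040104912673c0000000005198c30c66cc000040104912673c00600240000802086219adc0000000018a25249299cc0000802086219adc0090028000100410a42ab5c00000000294294514aab4000100410a42ab5c00a0030000200820c83339c00000000360318618cc78000200820c83339c00c004400040100b02c1cec00000001c0a4228a31e2c00040100b02c1cec01100480008020150542d6c00000002c148249252d540008020150542d6c012005000100402609835ac00000003461028a294b9800100402609835ac01400600020080380e039cc00000003b80030c3187e00020080380e039cc01800840040012c002dc0f40000003c00a4410c3e12c0040012c002dc0f40210088008002540056c1740000005c014881145d254008002540056c174022009001000498009b41b40000006c061101249b49801000498009b41b402400a0020008e000e381d40000007438020145178e0020008e000e381d402800c004000f0000fc01e40000007bc00001860ff0004000f0000fc01e403001040800012cb70000f800000f8000a442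07c112c0044b000002dde040410108100002555b0001780000178001488407a2254008950000056ee0404201102000049a6d0001b800001b80061108076449801126000009b76040440120400008e38e0001d800001d8038021006e88e00223800000e3ba04048014080000f03f00001e800001e83c0002005f0f00043c000000fc3c04050018100000ffc000001f000001f7c00000003ff00007c0000000ffc00406002040044b000002dde040003e00000a443f00112c0800012cb70000f80810208008950000056ee040005e000014885e802254100002555b000178082021001126000009b76040006e000061109d8044982000049a6d0001b808402200223800000e3ba0400076000380211b8088e0400008e38e0001d80880240043c000000fc3c040007a003c000217810f0080000f03f00001e8090028007c0000000ffc0040007c07c000000f81f00100000ffc000001f00a004040804b000b7001e080078208000a47c082012c0804b000b7001e081010408100950015b002e0800b820800148ba1040254100950015b002e081020410201260026d00360800d820800611362080498201260026d0036081040420402380038e003a0800e8208038022e41008e0402380038e003a081080440803c0003f0003c0800f0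2083c0001e8200f00803c0003f0003c0811008040840b02c0701c2100708410400a782082102c0840b02c0701c2102010808108150540b02c2100b084104014b441042054108150540b02c2102020810210260980d0342100d0841040612c82084098210260980d0342102040820420380e00e0382100e0841043801d041080e0420380e00e03821020810040844310c310c44203110820840b842082110c0844310c310c44204011008108852145114442051108208415484104221410885214511444204021010211064186118442061108208460d0820844182110641861184420404200408449124922488409221041088c4420821124084491249224884080120081089124512448841122104108928841042244108912451244884080240040844a128a4291080a442082112244208211280844a128a429108100180081089425148522101488410422448841042250108942514852210200240102112248a248910822442082114910820844882112248a248910810048010211244924892210248841042231108208449021124492489221020042020422188618260884182210410b06210410886042218861826088408084020422288a284a11082844208212a821041088a0422288a284a110810088020422308c308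c22103088410421d021041088c0422308c308c221020081040841c0700701c04207010820b801c208210700841c0700701c04204102040842c0b0190640841902104134860208210b00842c0b0190640840810404084340d02a0a81082a0420822d280208210d0084340d02a0a81081010804084380e0340d0210340841041e500208210e0084380e0340d02102010088103c000fc0003c0100f0041780003c1040f00103c000fc0003c010220108105c0071c001c402071008274401c01041700105c0071c001c4020420208106c00b64006480419201046c886001041b00106c00b6400648040820408107400da800a90082a402085d128001041d00107400da800a90081020808107800ed000d201034804103e250001041e00107800ed000d201020200500f8000003ff00000800f81f0000003e03e0002003ff00000003e001400901780000fc0f0000100f081e840003c005e000203c3f0000003c2002401101b800071c7100002071101d88401c0006e000205dc7000001c44004402101d8000b659200004192201b90886000076000206ed9000006488008404101e8000daaa4000082a44017a112800007a00020776a00000a910010408101f0000ed34800010348800fc225000007c000207bb400000d220020400602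003ff00000003e0000ffc00000003ef800000f8000003ff0000081800a0203c3f0000003c2000f0fa0040003c17800001780000fc0f000010280120205dc7000001c440071176008401c01b800001b800071c71000020480220206ed9000006488019226e010886001d800001d8000b659200004088042020776a00000a91002a445e021128001e800001e8000daaa4000081080820207bb400000d220034883e042250001f000001f0000ed3480001020800c027803f0000f0002000ff061800003de00000027803f0000f0002003001402b81c70007100040071e8a280401c2e0000002b81c7000710004005002402d82d90019200080192d924808860360000002d82d9001920008009004402e836a002a4001002a4ba288112803a0000002e836a002a40010011008402f03b400348002003487c308225003c0000002f03b400348002002100180339c0701c010040007e18c30c001dc0000000339c0701c0100400060028035ac19064020080019d2945140862c000000035ac1906402008000a0048036b42a0a804010002ab4a492412834000000036b42a0a8040100012008803738340d008020003478c51442503800000003738340d00802000220030039ccc130410040001e3318618c06c0000000039ccc130410040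000c005003ad54250820080002d5528a294294000000003ad542508200800014009003b5984610401000033994924a4518000000003b5984610401000024006003ce6489208020000336630c3198a0000000003ce64892080200001800a003d6a90a4100400002daa51452a940000000003d6a90a4100400002800c003e7320c8200800001ecc618633600000000003e7320c820080000300002fc0000000000fffff800000000000001f81fffc00000000000001fc000057c00000003ff003ff40000008000003e03e0ffc0000000000003e0c00009bc000000fc0f03c3ec000001040003c005ef0fc000000000003c21400011dc0000071c711c45dc00000208401c0006f771c00000000001c442400021ec00000b65926489bc00000410886000077bb64000000000064884400041f400000daaa4a9117c0000082112800007bdda80000000000a9108400081f800000ed348d220fc0000104225000007deed00000000000d221040000e3c0003f0000f03fc1c000860000003de78000fc000000000f000218000165c001c7000711c7a2c0010a000401c2eb80071c0000000071000428000266c002d90019264b64c00212000886036d800b64000000019200084800046740036a002a4a92e8c0042200112803ae800da8000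00002a40010880008678003b400348d21f0c0084200225003cf000ed000000003480021080001a9c01c0701c011f86340100c00c001dc1380701c0000001c010040300002aac02c1906402674a54020140140862c1580b06400000064020080500004ab40342a0a804aad29404024024128341680d0a8000000a8040100900008ab8038340d008d1e31408044044250381700e0d0000000d00802011000032cc04cc13041078cc6410018018c06c019813304000003041004006000052d40554250820b554a420028029429401a81550800000508200800a000092d80598461040ce65244004804a451801b016610000006104010012000062e40664892080cd98c48003003198a001c81992000000920802000c0000a2e806a90a4100b6a94500050052a94001d01aa4000000a4100400140000c2f007320c82007b318600060063360001e01cc8000000c82008001800001d1c3800701c7e00463801180380001dce00e001c00007000010046000002d2c580190659d008a58022805800862d601600640001900002008a000004d346802a0aaab0112980448098012835a01a00a80002a000040112000008d38700340d3470223180888118025039c01c00d00003400008022200000354c980c1305e3040c6810300680c06c26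0260304000c100010040c000005554a814250ad50814a820500a8142942a02a050800142000200814000009558b0184613391025284090128245182c02c061000184000401024000006564c8248923362018c880600c8198a03203209200024800080201800000a568d0290a42da40294900a01482a940340340a400029000100402800000c570e0320c81ec80318a00c018833600380380c800032000200803000000398d18c013781304c0701300071c006cc0046300400c010040004c0000005995294025b4250940b025000b2c02954004a500801402008000940000009999318046cc491241304900134c05198004c6010018040100012400000069a54a4089cc862180d086000d3418a24005290200240802000218000000a9a952810ab50a4281510a001554294280054a0400281004000428000000c9b163020c7a0c8301920c001964360300058c080030200800083000000071c58c440e2cb02c00e0b0000e39c0a400063110004440100002c0000000b1c994880d55505401615000165ac1480006522000488020000540000000d1d1a5100b9a609801a260001a6b46100006944000510040000980000000e1e1c62007e380e001c380001c73b8000007188000620080000e000000003e0e18cde0041304ce001339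e000006cc6180000418001004130000000005e162956d00825095600255ae00002954a280000828002008250000000009e1a319b301049126600499ce00005198c300001030004010490000000006e264a67302086219a00866b600018a25248000204800802086000000000ae2a52aad0410a42aa010aad60002942945000040500100410a000000000ce326331e0820c8332020cce60003603186000080600200820c00000000076468c78b100b02c1c00b073a001c0a422880010088040100b0000000000b64a94b5520150542c0150b5a002c1482490002009008020150000000000d652a52e64026098340260d6a003461028a000400a010040260000000000e662c61f880380e0380380e72003b80030c000800c0200803800000000007a870f84b12c002dc000b703c03c00a44108010010840012c00000000000ba8b174952540056c0015b05c05c01488110020011080025400000000000da9326d26498009b40026d06c06c06110120040012100049800000000000eaa345e388e000e380038e0740743802014008001420008e000000000000f2c383fc0f0000fc0003f007807bc00001801000184000f00000000000007d07f044b12cb7000000b7780f8000a44200200020844b00000000000000bd0be88952555b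0000015bb8178001488400400021089500000000000000dd13d912649a6d0000026dd81b8006110800800022112600000000000000ed23ba2388e38e0000038ee81d8038021001000024223800000000000000f5437c3c0f03f0000003f0f01e83c000200200002843c000000000000000f982ffc00ffc00000003ff001f7c000000040000307c0000000000000000fe01fffff00000000003ffffe0000000000000003f8000000000000000007ff80844b12cb72ddefc0000000000a442082112c0000000000000000000bff4108952555b56ef7c0000000001488410422540000000000000000000dfec2112649a6d9b77bc0000000006110820844980000000000000000000efdc422388e38ee3bbdc0000000038021041088e00000000000000000000f7bc843c0f03f0fc3dec00000003c000208210f000000000000000000000fb7d07c00ffc00ffc1f40000007c000001041f0000000000000000000000fcfdf8000fffff0001f800001f8000000007e00000000000000000000000fcfe07fff00000fffe040007e000000001f8000000000000000000000000fb7ef83ff003ff003e0800f8208000003e00000000000000000000000000f7bf7bc3f0fc0f03c2100f0841040003c000000000000000000000000000efdfbddc771c711c442071108208401c0000000000000000000000000000dfefdeed9b65926488419221041088600000000000000000000000000000bff7ef76adaaa4a91082a4420821128000000000000000000000000000007ffbf7bb4ed348d221034884104225000000000000000000000000000000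

theorem okE8 : ok chevE8 240 tE8 = true := by decide +kernel

end Fast

end Cfsg.Agent.H167.EX
end

-- part: H167/EX/ChkE6_mg
section
set_option linter.all false
open scoped Cfsg.Agent.FastGrp

-- part: H167/EX/ChkE6
section
/-!
# The combinatorial conditions for `E6` (helper167, S4312, exceptional groups)
-/

set_option autoImplicit false

namespace Cfsg.Agent.H167.EX

open Cfsg Cfsg.Lie Cfsg.Lie.ChevalleyDatum Cfsg.Agent.ChevalleyStructure

def LE6 : List ℕ := [0, 1, 2, 6]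

def wE6 : List ℕ :=
    [1, 0, 0, 0, 0, 0, 0, 0, 0, 0, 0, 1, 1, 1, 2, 6, 0, 0, 0, 0, 0, 0, 0, 0, 0, 0, 1, 1, 1, 2, 1, 1, 1, 2, 2,
    6, 6, 2, 2, 1, 1, 1, 2, 1, 1, 1, 0, 0, 0, 0, 0, 0, 0, 0, 0, 0, 6, 2, 1, 1, 1, 0, 0, 0, 0, 0, 0, 0, 0, 0,
    0, 1]

def vE6 : List ℕ :=
    [1, 0, 0, 0, 0, 0, 0, 0, 0, 0, 0, 1, 1, 1, 2, 5, 0, 0, 0, 0, 0, 0, 0, 0, 0, 0, 1, 1, 1, 2, 1, 1, 1, 2, 2,
    3, 4, 3, 4, 2, 3, 4, 5, 5, 6, 7, 1, 2, 3, 4, 5, 6, 7, 8, 9, 10, 16, 16, 16, 17, 18, 16, 17, 18, 19, 20,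
    21, 22, 23, 24, 25, 46]

/-- the graph automorphism on the indices of the roots -/
def gE6 : List ℕ :=
    [0, 1, 2, 5, 16, 3, 6, 17, 8, 19, 22, 11, 26, 30, 33, 35, 4, 7, 18, 9, 20, 23, 10, 21, 24, 25, 12, 27,
    31, 34, 13, 28, 32, 14, 29, 15, 56, 42, 57, 39, 43, 58, 37, 40, 44, 59, 46, 47, 50, 61, 48, 51, 62, 53,
    64, 67, 36, 38, 41, 45, 60, 49, 52, 63, 54, 65, 68, 55, 66, 69, 70, 71]

theorem oddE6 : oddB chevE6 LE6 wE6 = true := Fast.oddB_of Fast.okE6 (by decide +kernel)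

theorem oneE6 : oneB chevE6 vE6 = true := Fast.oneB_of Fast.okE6 (by decide +kernel)

theorem sepE6 : sepB chevE6 LE6 gE6 = true := by
  delta sepB
  rw [Fast.code_eq Fast.okE6]
  decide +kernel

theorem ortE6 : ortB chevE6 gE6 = true := Fast.ortB_of Fast.okE6 (by decide +kernel)

theorem chkE6 : Chk chevE6 LE6 (fun b => gE6.getD b 0) := chk_of_sep oddE6 oneE6 sepE6 ortE6

theorem twoE6 : ∀ d ∈ LE6, two chevE6 d = true := fun d _ => Fast.two_of Fast.okE6 d

theorem ltE6 : ∀ d ∈ LE6, d < chevE6.nroots := by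
  simp only [LE6]
  decide +kernel

end Cfsg.Agent.H167.EX
end

-- part: H167/EX/ChkE7
section
/-!
# The combinatorial conditions for `E7` (helper167, S4312, exceptional groups)
-/

set_option autoImplicit false

namespace Cfsg.Agent.H167.EX

open Cfsg Cfsg.Lie Cfsg.Lie.ChevalleyDatum Cfsg.Agent.ChevalleyStructure

def LE7 : List ℕ := [0, 1, 2, 3, 4, 5]

def wE7 : List ℕ :=
    [1, 0, 0, 0, 0, 0, 0, 0, 0, 0, 0, 0, 0, 0, 0, 0, 0, 0, 0, 0, 0, 0, 0, 0, 0, 0, 0, 0, 0, 0, 0, 0, 0, 1, 1,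
    1, 1, 1, 1, 1, 1, 1, 1, 2, 2, 2, 2, 3, 1, 1, 1, 1, 1, 2, 2, 2, 2, 3, 3, 3, 4, 4, 5, 5, 4, 4, 3, 3, 3, 2,
    2, 2, 2, 1, 1, 1, 1, 1, 3, 2, 2, 2, 2, 1, 1, 1, 1, 1, 1, 1, 1, 1, 1, 0, 0, 0, 0, 0, 0, 0, 0, 0, 0, 0, 0,
    0, 0, 0, 0, 0, 0, 0, 0, 0, 0, 0, 0, 0, 0, 0, 0, 0, 0, 0, 0, 1]

def vE7 : List ℕ :=
    [1, 0, 0, 0, 0, 0, 0, 0, 0, 0, 0, 0, 0, 0, 0, 0, 0, 0, 0, 0, 0, 0, 0, 0, 0, 0, 0, 0, 0, 0, 0, 0, 0, 1, 1,
    1, 1, 1, 1, 1, 1, 1, 1, 2, 2, 2, 2, 3, 1, 1, 1, 1, 1, 2, 2, 2, 2, 3, 3, 3, 4, 4, 5, 6, 5, 6, 4, 5, 6, 3,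
    4, 5, 6, 2, 3, 4, 5, 6, 7, 7, 8, 9, 10, 7, 8, 9, 10, 11, 12, 13, 14, 15, 16, 1, 2, 3, 4, 5, 6, 7, 8, 9,
    10, 11, 12, 13, 14, 15, 16, 17, 18, 19, 20, 21, 22, 23, 24, 25, 26, 27, 28, 29, 30, 31, 32, 93]

theorem oddE7 : oddB chevE7 LE7 wE7 = true := Fast.oddB_of Fast.okE7 (by decide +kernel)

theorem oneE7 : oneB chevE7 vE7 = true := Fast.oneB_of Fast.okE7 (by decide +kernel)

theorem nodupE7 : ((List.range chevE7.nroots).map (code chevE7 LE7)).Nodup := by
  rw [Fast.code_eq Fast.okE7]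
  exact (Fast.nd_spec (m := 0) (by decide +kernel)).1

theorem chkE7 : Chk chevE7 LE7 id := chk_of_nodup oddE7 oneE7 nodupE7

theorem twoE7 : ∀ d ∈ LE7, two chevE7 d = true := fun d _ => Fast.two_of Fast.okE7 d

theorem ltE7 : ∀ d ∈ LE7, d < chevE7.nroots := by
  simp only [LE7]
  decide +kernel

end Cfsg.Agent.H167.EX
end

-- part: H167/EX/ChkE8
section
/-!
# The combinatorial conditions for `E8` (helper167, S4312, exceptional groups)
-/

set_option autoImplicit false

namespace Cfsg.Agent.H167.EX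

open Cfsg Cfsg.Lie Cfsg.Lie.ChevalleyDatum Cfsg.Agent.ChevalleyStructure

def LE8 : List ℕ := [0, 1, 2, 3, 4, 5, 6]

def wE8 : List ℕ :=
    [1, 0, 0, 0, 0, 0, 0, 0, 0, 0, 0, 0, 0, 1, 0, 0, 0, 0, 0, 0, 1, 0, 0, 0, 0, 1, 0, 0, 0, 1, 0, 0, 1, 0, 1,
    2, 0, 0, 0, 1, 0, 0, 1, 0, 1, 2, 0, 0, 1, 0, 1, 2, 0, 1, 2, 3, 0, 0, 1, 0, 1, 2, 0, 1, 2, 3, 0, 1, 2, 3,
    4, 0, 1, 2, 3, 4, 5, 6, 0, 0, 1, 0, 1, 2, 0, 1, 2, 3, 0, 1, 2, 3, 4, 0, 1, 2, 3, 4, 5, 0, 1, 2, 3, 4, 5,
    0, 1, 2, 3, 4, 0, 1, 2, 3, 0, 1, 2, 0, 1, 0, 0, 1, 0, 2, 1, 0, 3, 2, 1, 0, 4, 3, 2, 1, 0, 5, 4, 3, 2, 1,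
    0, 5, 4, 3, 2, 1, 0, 4, 3, 2, 1, 0, 3, 2, 1, 0, 2, 1, 0, 1, 0, 0, 6, 5, 4, 3, 2, 1, 0, 4, 3, 2, 1, 0, 3,
    2, 1, 0, 2, 1, 0, 1, 0, 0, 3, 2, 1, 0, 2, 1, 0, 1, 0, 0, 2, 1, 0, 1, 0, 0, 1, 0, 0, 0, 2, 1, 0, 1, 0, 0,
    1, 0, 0, 0, 1, 0, 0, 0, 0, 1, 0, 0, 0, 0, 0, 0, 1, 0, 0, 0, 0, 0, 0, 0, 0, 0, 0, 0, 0, 1]

def vE8 : List ℕ :=
    [1, 0, 0, 0, 0, 0, 0, 0, 0, 0, 0, 0, 0, 1, 0, 0, 0, 0, 0, 0, 1, 0, 0, 0, 0, 1, 0, 0, 0, 1, 0, 0, 1, 0, 1,
    2, 0, 0, 0, 1, 0, 0, 1, 0, 1, 2, 0, 0, 1, 0, 1, 2, 0, 1, 2, 3, 0, 0, 1, 0, 1, 2, 0, 1, 2, 3, 0, 1, 2, 3,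
    4, 0, 1, 2, 3, 4, 5, 6, 0, 0, 1, 0, 1, 2, 0, 1, 2, 3, 0, 1, 2, 3, 4, 0, 1, 2, 3, 4, 5, 0, 1, 2, 3, 4, 5,
    0, 1, 2, 3, 4, 0, 1, 2, 3, 0, 1, 2, 0, 1, 0, 1, 2, 2, 3, 3, 3, 4, 4, 4, 4, 5, 5, 5, 5, 5, 6, 6, 6, 6, 6,
    6, 7, 7, 7, 7, 7, 7, 8, 8, 8, 8, 8, 9, 9, 9, 9, 10, 10, 10, 11, 11, 12, 14, 14, 14, 14, 14, 14, 14, 15,
    15, 15, 15, 15, 16, 16, 16, 16, 17, 17, 17, 18, 18, 19, 21, 21, 21, 21, 22, 22, 22, 23, 23, 24, 26, 26,
    26, 27, 27, 28, 30, 30, 31, 33, 36, 36, 36, 37, 37, 38, 40, 40, 41, 43, 46, 46, 47, 49, 52, 56, 56, 57,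
    59, 62, 66, 71, 78, 78, 79, 81, 84, 88, 93, 99, 105, 110, 114, 117, 119, 120]

theorem oddE8 : oddB chevE8 LE8 wE8 = true := Fast.oddB_of Fast.okE8 (by decide +kernel)

theorem oneE8 : oneB chevE8 vE8 = true := Fast.oneB_of Fast.okE8 (by decide +kernel)

theorem nodupE8 : ((List.range chevE8.nroots).map (code chevE8 LE8)).Nodup := by
  rw [Fast.code_eq Fast.okE8]
  exact (Fast.nd_spec (m := 0) (by decide +kernel)).1

theorem chkE8 : Chk chevE8 LE8 id := chk_of_nodup oddE8 oneE8 nodupE8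

theorem twoE8 : ∀ d ∈ LE8, two chevE8 d = true := fun d _ => Fast.two_of Fast.okE8 d

theorem ltE8 : ∀ d ∈ LE8, d < chevE8.nroots := by
  simp only [LE8]
  decide +kernel

end Cfsg.Agent.H167.EX
end

private theorem dce_9e05a15e975b : _root_.True := by
  try have : _root_.True := by simp only [_root_.Cfsg.Agent.H167.EX.LE8.eq_1]
  try have : _root_.True := by simp only [_root_.Cfsg.Agent.H167.EX.LE6.eq_1]
  try have : _root_.True := by simp only [_root_.Cfsg.Agent.H167.EX.LE7.eq_1]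
  exact _root_.True.intro
end

-- part: H14/BSE6
section
prune_inst 0x1030754449220200000005066000240402000090006f8400cd0103400788236085002720000011175a082e0420340068131800c0422000000e000000411c0180002812008148a00000000e001004000000000000020000000000000000000004000000000
set_option linter.all false
open scoped Cfsg.Agent.FastGrp

/-!
# The toral `q`-group of the fixed `D₄` of `E₆` is regular (S4312 row (f), piece (B))

* `L6 = LE6` : a basis of the `D₄` of roots of `E₆` fixed by the graph automorphism;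
* `OmL hp k L q` : the group generated by the `h_s(c)`, `s ∈ L`, `c ^ q = 1`; `Om6 hp k q = OmL hp k L6 q`;
* `omOK_E6` : `OmOK hp hk p q (Om6 hp k q)` for every prime `q ≥ 5`, `q ≠ p`.
-/

set_option autoImplicit false
set_option linter.unusedSectionVars false

namespace Cfsg.Agent.H14.BSE6

open CoxeterSystem Cfsg Cfsg.Lie Cfsg.Lie.ChevalleyDatum
open Cfsg.Agent.ChevalleyStructure Cfsg.Agent.ChevalleyStructure.Elts Cfsg.Agent.ChevalleyStructure.CoxeterGeom
  Cfsg.Agent.ChevalleyStructure.CoxeterGeomTypes Cfsg.Agent.ChevalleyStructure.NPerm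
open Cfsg.Agent.Tits.Roots Cfsg.Agent.Tits.Core Cfsg.Agent.Nodes Cfsg.Agent.Nodes.Reps Cfsg.Agent.Nodes.BNOf
  Cfsg.Agent.Nodes.RGDChev Cfsg.Agent.Nodes.Bruhat Cfsg.Agent.Nodes.NormalForm
open Cfsg.Agent.KFacts.RgdField Cfsg.Agent.KFacts.RgdChevCoord
open Cfsg.Agent.BpExc Cfsg.Agent.BpExc.TorCent Cfsg.Agent.BpExc.TorChev Cfsg.Agent.BpExc.Tow
  Cfsg.Agent.BpExc.TowChev Cfsg.Agent.BpExc.Fr Cfsg.Agent.BpExc.Pair Cfsg.Agent.BpExc.LangFr Cfsg.Agent.GpExc.Field
  Cfsg.Agent.BpExc.TorAll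
open Cfsg.Agent.H469.Exc Cfsg.Agent.H469.Exc.SigFr
open Cfsg.Agent.Nodes.RGDFoldSL
open Cfsg.Agent.ChevalleyStructure.SL2Hom (up lo mem_closure_SL2)
open Cfsg.Agent.H167.EX Cfsg.Agent.H795.LangT Cfsg.Agent.H129.TorusChar Cfsg.Agent.H554.BS
open HMatDiagAll (expo)
open scoped commutatorElement Pointwise

universe u v

/-! ### the torsion of the torus -/

section General

variable {D : ChevalleyDatum} {l : ℕ} {M : CoxeterMatrix (Fin l)} (hp : IsType D l M) {k : Type u} [Field k]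

/-- the group generated by the `h_s(c)`, `s ∈ L`, `c ^ q = 1` -/
def OmL (hp : IsType D l M) (k : Type u) [Field k] (L : List ℕ) (q : ℕ) : Subgroup ↥(D.group k) :=
  Subgroup.closure {g | ∃ (s : ℕ) (hs : s < D.nroots) (c : k), s ∈ L ∧ c ^ q = 1 ∧ g = ph hp k hs (hS c)}

variable {hp} {L : List ℕ} {q : ℕ}

theorem mem_OmL {s : ℕ} (hs : s < D.nroots) (hL : s ∈ L) {c : k} (hc : c ^ q = 1) :
    ph hp k hs (hS c) ∈ OmL hp k L q := Subgroup.subset_closure ⟨s, hs, c, hL, hc, rfl⟩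

theorem ne_zero_of_pow {c : k} (hq : q ≠ 0) (hc : c ^ q = 1) : c ≠ 0 := by
  rintro rfl
  rw [zero_pow hq] at hc
  exact zero_ne_one hc

theorem OmL_le (hq : q ≠ 0) : OmL hp k L q ≤ TT D k := by
  refine (Subgroup.closure_le _).2 ?_
  rintro _ ⟨s, hs, c, -, hc, rfl⟩
  exact ph_hS_mem hp hs (ne_zero_of_pow hq hc)

theorem OmL_exp (hq : q ≠ 0) : ∀ h ∈ OmL hp k L q, h ^ q = 1 := by
  intro h hh
  have key : ∀ x (_ : x ∈ OmL hp k L q), x ∈ TT D k ∧ x ^ q = 1 := by
    intro x hx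
    refine Subgroup.closure_induction (p := fun x _ => x ∈ TT D k ∧ x ^ q = 1) ?_ ?_ ?_ ?_ hx
    · rintro _ ⟨s, hs, c, -, hc, rfl⟩
      have hc0 := ne_zero_of_pow hq hc
      refine ⟨ph_hS_mem hp hs hc0, ?_⟩
      rw [← map_pow, hS_pow hc0, hc, hS_one, map_one]
    · exact ⟨one_mem _, one_pow _⟩
    · rintro x y - - ⟨hx, hx1⟩ ⟨hy, hy1⟩
      refine ⟨mul_mem hx hy, ?_⟩
      have h1 : Commute x y := TT_comm hp (K := k) x hx y hy
      rw [h1.mul_pow, hx1, hy1, one_mul]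
    · rintro x - ⟨hx, hx1⟩
      exact ⟨inv_mem hx, by rw [inv_pow, hx1, inv_one]⟩
  exact (key h hh).2

variable (hp) in
include hp in
/-- a group of torus elements of exponent `q` is finite -/
theorem finite_of_exp {Om : Subgroup ↥(D.group k)} (hq : 0 < q) (hle : Om ≤ TT D k) (hexp : ∀ h ∈ Om, h ^ q = 1) :
    Finite Om := by
  classical
  have hfin : (Set.Finite {x : k | x ^ q = 1}) := by
    refine Set.Finite.subset (Polynomial.nthRoots q (1 : k)).toFinset.finite_toSet ?_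
    intro x hx
    rw [Finset.mem_coe, Multiset.mem_toFinset, Polynomial.mem_nthRoots hq]
    exact hx
  have : Finite {x : k | x ^ q = 1} := hfin
  let f : ↥Om → (Fin l → {x : k | x ^ q = 1}) := fun t i => ⟨cX hp (t : ↥(D.group k)) (sr i), by
    show cX hp (t : ↥(D.group k)) (sr i) ^ q = 1
    rw [← cX_pow hp (hle t.2), hexp t t.2, cX_one]⟩
  refine Finite.of_injective f ?_
  intro s t hst
  refine Subtype.ext (cX_inj hp (hle s.2) (hle t.2) fun i => ?_)
  exact congrArg Subtype.val (congrFun hst i)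

variable (hk : LocFin k) {p : ℕ} [Fact p.Prime] [CharP k p]

include hk p in
theorem cX_ph {s : ℕ} (hs : s < D.nroots) {c : k} (hc : c ≠ 0) {r : ℕ} (hr : r < D.nroots) :
    cX hp (ph hp k hs (hS c)) (vec D l r) = c ^ expo D s r := by
  rw [cX_vec hp (ph_hS_mem hp hs hc) hr, ch_ph_hS hp hs p hk hc hr]

include hk p in
/-- **The minors.** -/
theorem minor {R : Subgroup ↥(D.group k)} (hq : q.Prime) (hP : PairP q (OmL hp k L q) R) {ζ : k}
    (hζ : IsPrimitiveRoot ζ q) {d d' : ℕ} (hd : d < D.nroots) (hd' : d' < D.nroots) (hL : d ∈ L) (hL' : d' ∈ L)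
    {r r' : ℕ} (hr : r < D.nroots) (hr' : r' < D.nroots) (h1 : ∀ h ∈ R, ch hp (vec D l r) h = 1)
    (h2 : ∀ h ∈ R, ch hp (vec D l r') h = 1) :
    (q : ℤ) ∣ expo D d r * expo D d' r' - expo D d' r * expo D d r' := by
  have hζ0 : ζ ≠ 0 := hζ.ne_zero hq.ne_zero
  obtain ⟨x, y, hxy, hR⟩ := hP _ (mem_OmL (hp := hp) hd hL hζ.pow_eq_one) _ (mem_OmL (hp := hp) hd' hL' hζ.pow_eq_one)
  have hT := ph_hS_mem hp hd hζ0
  have hT' := ph_hS_mem hp hd' hζ0
  have key : ∀ r, r < D.nroots → (∀ h ∈ R, ch hp (vec D l r) h = 1) →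
      (q : ℤ) ∣ (x : ℤ) * expo D d r + (y : ℤ) * expo D d' r := by
    intro r hr h
    have h3 := h _ hR
    rw [← cX_vec hp (mul_mem (pow_mem hT x) (pow_mem hT' y)) hr, cX_mul hp (pow_mem hT x) (pow_mem hT' y),
      cX_pow hp hT, cX_pow hp hT', cX_ph hk (p := p) hd hζ0 hr, cX_ph hk (p := p) hd' hζ0 hr] at h3
    rw [← zpow_natCast, ← zpow_natCast, ← zpow_mul, ← zpow_mul, ← zpow_add₀ hζ0, hζ.zpow_eq_one_iff_dvd] at h3
    rwa [mul_comm (x : ℤ), mul_comm (y : ℤ)]
  have k1 := key r hr h1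
  have k2 := key r' hr' h2
  have hqz : Prime (q : ℤ) := Nat.prime_iff_prime_int.1 hq
  have hx : (q : ℤ) ∣ (x : ℤ) * (expo D d r * expo D d' r' - expo D d' r * expo D d r') := by
    have : (x : ℤ) * (expo D d r * expo D d' r' - expo D d' r * expo D d r') =
        ((x : ℤ) * expo D d r + (y : ℤ) * expo D d' r) * expo D d' r' -
          ((x : ℤ) * expo D d r' + (y : ℤ) * expo D d' r') * expo D d' r := by ring
    rw [this]
    exact dvd_sub (dvd_mul_of_dvd_left k1 _) (dvd_mul_of_dvd_left k2 _)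
  have hy : (q : ℤ) ∣ (y : ℤ) * (expo D d r * expo D d' r' - expo D d' r * expo D d r') := by
    have : (y : ℤ) * (expo D d r * expo D d' r' - expo D d' r * expo D d r') =
        ((x : ℤ) * expo D d r' + (y : ℤ) * expo D d' r') * expo D d r -
          ((x : ℤ) * expo D d r + (y : ℤ) * expo D d' r) * expo D d r' := by ring
    rw [this]
    exact dvd_sub (dvd_mul_of_dvd_left k2 _) (dvd_mul_of_dvd_left k1 _)
  by_contra hn
  have a1 := (hqz.dvd_or_dvd hx).resolve_right hn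
  have a2 := (hqz.dvd_or_dvd hy).resolve_right hn
  exact hxy ⟨Int.natCast_dvd_natCast.1 a1, Int.natCast_dvd_natCast.1 a2⟩

include hk p in
/-- the value of `[[t,b],b]` -/
theorem quad_val [IsAlgClosed k] {w : M.Group} {b : ↥(D.group k)}
    (hb : Rp M.toCoxeterSystem (tow hp M.toCoxeterSystem hk p).nsys w b) {t : ↥(D.group k)} (ht : t ∈ TT D k)
    (h : ⁅⁅t, b⁆, b⁆ = 1) (x : Fin l → ℤ) :
    cX hp t (rep M.toCoxeterSystem hp.isCartan w x) * cX hp t (rep M.toCoxeterSystem hp.isCartan w⁻¹ x) =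
      cX hp t x ^ 2 := by
  -- conjugates
  have h1 : b * t * b⁻¹ ∈ TT D k := rp_conj_mem hp hk hb ht
  have h2 : b * (b * t * b⁻¹) * b⁻¹ ∈ TT D k := rp_conj_mem hp hk hb h1
  have v1 : ∀ y, cX hp (b * t * b⁻¹) y = cX hp t (rep M.toCoxeterSystem hp.isCartan w⁻¹ y) := by
    intro y
    have h3 := cX_rp' hp hk hb ht (rep M.toCoxeterSystem hp.isCartan w⁻¹ y)
    rwa [rep_apply_inv] at h3
  have v2 : ∀ y, cX hp (b * (b * t * b⁻¹) * b⁻¹) y =
      cX hp t (rep M.toCoxeterSystem hp.isCartan w⁻¹ (rep M.toCoxeterSystem hp.isCartan w⁻¹ y)) := by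
    intro y
    have h3 := cX_rp' hp hk hb h1 (rep M.toCoxeterSystem hp.isCartan w⁻¹ y)
    rw [rep_apply_inv] at h3
    rw [h3, v1]
  have hcomm : ∀ s ∈ TT D k, ∀ t ∈ TT D k, s * t = t * s := TT_comm hp (K := k)
  have e : t * (b * (b * t * b⁻¹) * b⁻¹) = (b * t * b⁻¹) * (b * t * b⁻¹) := by
    have h4 : ⁅t, b⁆ = t * (b * t * b⁻¹)⁻¹ := by
      rw [commutatorElement_def]
      group
    have h5 : ⁅⁅t, b⁆, b⁆ = ⁅t, b⁆ * (b * ⁅t, b⁆ * b⁻¹)⁻¹ := by
      rw [commutatorElement_def ⁅t, b⁆ b]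
      group
    rw [h5, h4, mul_inv_eq_one] at h
    have h6 : b * (t * (b * t * b⁻¹)⁻¹) * b⁻¹ = (b * t * b⁻¹) * (b * (b * t * b⁻¹) * b⁻¹)⁻¹ := by group
    rw [h6] at h
    have h7 := congrArg (fun z => z * (b * t * b⁻¹) * (b * (b * t * b⁻¹) * b⁻¹)) h
    simp only [inv_mul_cancel_right] at h7
    rw [h7]
    rw [mul_assoc (b * t * b⁻¹), mul_assoc (b * t * b⁻¹), hcomm _ (inv_mem h2) _ h1, mul_assoc (b * t * b⁻¹) (_)⁻¹,
      inv_mul_cancel, mul_one]
  have h8 : cX hp (t * (b * (b * t * b⁻¹) * b⁻¹)) (rep M.toCoxeterSystem hp.isCartan w x) =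
    cX hp ((b * t * b⁻¹) * (b * t * b⁻¹)) (rep M.toCoxeterSystem hp.isCartan w x) := by rw [e]
  rw [cX_mul hp ht h2, cX_mul hp h1 h1, v1, v2, rep_inv_apply, ← pow_two] at h8
  exact h8

end General

/-! ### type `E₆` -/

section E6

/-- four roots spanning the lattice of the fixed `D₄` -/
abbrev L6 : List ℕ := LE6

/-- the bilinear form -/
def Bf (x y : Fin 6 → ℤ) : ℤ := ∑ i, x i * pairing (cartanOf chevE6 6) i y

theorem cartan_symm : ∀ i j : Fin 6, cartanOf chevE6 6 i j = cartanOf chevE6 6 j i := by decide +kernel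

theorem cartan_diag : ∀ i : Fin 6, cartanOf chevE6 6 i i = 2 := by decide +kernel

theorem Bf_symm (x y : Fin 6 → ℤ) : Bf x y = Bf y x := by
  unfold Bf pairing
  simp only [Finset.mul_sum]
  rw [Finset.sum_comm]
  refine Finset.sum_congr rfl fun i _ => Finset.sum_congr rfl fun j _ => ?_
  rw [cartan_symm j i]
  ring

theorem Bf_add_right (x y z : Fin 6 → ℤ) : Bf x (y + z) = Bf x y + Bf x z := by
  unfold Bf
  rw [← Finset.sum_add_distrib]
  exact Finset.sum_congr rfl fun i _ => by rw [pairing_add, mul_add]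

theorem Bf_zero_right (x : Fin 6 → ℤ) : Bf x 0 = 0 := by
  have h := Bf_add_right x 0 0
  rw [add_zero] at h
  omega

theorem Bf_single_left (i : Fin 6) (c : ℤ) (y : Fin 6 → ℤ) :
    Bf (Pi.single i c) y = c * pairing (cartanOf chevE6 6) i y := by
  unfold Bf
  rw [Finset.sum_eq_single i]
  · rw [Pi.single_eq_same]
  · intro j _ hj
    rw [Pi.single_eq_of_ne hj, zero_mul]
  · intro h
    exact absurd (Finset.mem_univ i) h

theorem Bf_add_left (x y z : Fin 6 → ℤ) : Bf (x + y) z = Bf x z + Bf y z := by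
  rw [Bf_symm, Bf_add_right, Bf_symm z x, Bf_symm z y]

theorem Bf_neg_left (x z : Fin 6 → ℤ) : Bf (-x) z = -Bf x z := by
  have h := Bf_add_left x (-x) z
  rw [add_neg_cancel, Bf_symm 0, Bf_zero_right] at h
  omega

theorem Bf_sub_left (x y z : Fin 6 → ℤ) : Bf (x - y) z = Bf x z - Bf y z := by
  rw [sub_eq_add_neg, Bf_add_left, Bf_neg_left, sub_eq_add_neg]

theorem Bf_sub_right (x y z : Fin 6 → ℤ) : Bf x (y - z) = Bf x y - Bf x z := by
  rw [Bf_symm, Bf_sub_left, Bf_symm y, Bf_symm z]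

variable (hp : IsType chevE6 6 CoxeterMatrix.E₆)

theorem Bf_refl (i : Fin 6) (x y : Fin 6 → ℤ) :
    Bf (refl (cartanOf chevE6 6) i x) (refl (cartanOf chevE6 6) i y) = Bf x y := by
  have hr : ∀ z : Fin 6 → ℤ, refl (cartanOf chevE6 6) i z = z - Pi.single i (pairing (cartanOf chevE6 6) i z) :=
    fun _ => rfl
  have hd : pairing (cartanOf chevE6 6) i (Pi.single i (pairing (cartanOf chevE6 6) i y)) =
      2 * pairing (cartanOf chevE6 6) i y := by
    unfold pairing
    rw [Finset.sum_eq_single i]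
    · rw [Pi.single_eq_same]
      rw [cartan_diag]
    · intro j _ hj
      rw [Pi.single_eq_of_ne hj, mul_zero]
    · intro h
      exact absurd (Finset.mem_univ i) h
  rw [hr, hr, Bf_sub_left, Bf_sub_right, Bf_sub_right, Bf_single_left, Bf_single_left, hd, Bf_symm x (Pi.single i _),
    Bf_single_left]
  ring

theorem Bf_rep (w : CoxeterMatrix.E₆.Group) (x y : Fin 6 → ℤ) :
    Bf (rep CoxeterMatrix.E₆.toCoxeterSystem hp.isCartan w x) (rep CoxeterMatrix.E₆.toCoxeterSystem hp.isCartan w y) =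
      Bf x y := by
  induction w using CoxeterMatrix.E₆.toCoxeterSystem.simple_induction_left generalizing x y with
  | one => rw [map_one]; rfl
  | mul_simple_left w i ih =>
    rw [rep_mul_apply, rep_mul_apply, rep_simple, Bf_refl, ih]

/-- the exponents `⟨r, s⟩`, `s ∈ L6` -/
def Etab : List (List ℤ) := [[2, 1, 1, 1], [1, 2, 1, 1], [1, 1, 2, 0], [1, 1, 1, 1], [1, 1, 1, 0], [1, 1, 1,
  1], [1, 1, 0, 2], [1, 1, 0, 1], [1, 0, 1, 1], [1, 0, 1, 0], [1, 0, 0, 1], [0, 1, 1, 1], [0, 1, 1, 0], [0, 1,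
  0, 1], [0, 0, 1, 0], [0, 0, 0, 1], [1, 1, 1, 0], [1, 1, 0, 1], [1, 1, 0, 0], [1, 0, 1, 0], [1, 0, 1, -1],
  [1, 0, 0, 0], [1, 0, 0, 1], [1, 0, 0, 0], [1, 0, -1, 1], [1, -1, 0, 0], [0, 1, 1, 0], [0, 1, 1, -1], [0, 1,
  0, 0], [0, 0, 1, -1], [0, 1, 0, 1], [0, 1, 0, 0], [0, 1, -1, 1], [0, 0, 1, 0], [0, 0, 1, -1], [0, 0, 0, 1],
  [0, 0, 0, -1], [0, 0, -1, 1], [0, 0, -1, 0], [0, -1, 1, -1], [0, -1, 0, 0], [0, -1, 0, -1], [0, 0, -1, 1],
  [0, -1, 0, 0], [0, -1, -1, 1], [0, -1, -1, 0], [-1, 1, 0, 0], [-1, 0, 1, -1], [-1, 0, 0, 0], [-1, 0, 0, -1],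
  [-1, 0, 0, 0], [-1, 0, -1, 1], [-1, 0, -1, 0], [-1, -1, 0, 0], [-1, -1, 0, -1], [-1, -1, -1, 0], [0, 0, 0,
  -1], [0, 0, -1, 0], [0, -1, 0, -1], [0, -1, -1, 0], [0, -1, -1, -1], [-1, 0, 0, -1], [-1, 0, -1, 0], [-1, 0,
  -1, -1], [-1, -1, 0, -1], [-1, -1, 0, -2], [-1, -1, -1, -1], [-1, -1, -1, 0], [-1, -1, -1, -1], [-1, -1, -2,
  0], [-1, -2, -1, -1], [-2, -1, -1, -1]]

/-- the partner of a root: its image under the graph automorphism if different -/
def st6 : List ℕ := [11, 8, 6, 5, 16, 3, 2, 17, 1, 19, 22, 0, 26, 30, 33, 35, 4, 7, 2, 9, 1, 23, 10, 21, 1, 2,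
  12, 0, 31, 34, 13, 28, 0, 14, 29, 15, 56, 42, 57, 0, 43, 58, 37, 40, 0, 59, 2, 1, 50, 61, 48, 1, 62, 2, 64,
  67, 36, 38, 41, 45, 0, 49, 52, 1, 54, 2, 68, 55, 66, 6, 8, 11]

theorem tab_E : (List.range 72).map (fun r => L6.map (fun s => expo chevE6 s r)) = Etab := by (delta Cfsg.Agent.ChevalleyStructure.HMatDiagAll.expo; rewrite [Cfsg.Agent.ChevFast.E6.chainEntry, Cfsg.Agent.ChevFast.E6.neg]; decide +kernel)

theorem tab_st : ∀ r < 72, pairOK chevE6 r (st6.getD r 0) = true := by (delta Cfsg.Agent.ChevalleyStructure.HMatDiagAll.expo Cfsg.Agent.H554.BS.pairOK; rewrite [Cfsg.Agent.ChevFast.E6.chainEntry, Cfsg.Agent.ChevFast.E6.commTerms, Cfsg.Agent.ChevFast.E6.neg]; decide +kernel)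

def mOK (e e' : List ℤ) : Bool := (List.range 4).any fun i => (List.range 4).any fun j =>
  decide (e.getD i 0 * e'.getD j 0 - e.getD j 0 * e'.getD i 0 ≠ 0) &&
    decide ((e.getD i 0 * e'.getD j 0 - e.getD j 0 * e'.getD i 0).natAbs ≤ 4)

theorem tab_m : ∀ r < 72, ∀ r' < 72, (r' = r ∨ r' = chevE6.neg r ∨ r' = st6.getD r 0 ∨ r' = chevE6.neg (st6.getD r 0)) ∨
   mOK (Etab.getD r []) (Etab.getD r' []) = true := by (rewrite [Cfsg.Agent.ChevFast.E6.neg]; open scoped Cfsg.Agent.ChevFast.Lin in decide +kernel)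

theorem tab_ne : ∀ r < 72, ∃ s ∈ L6, expo chevE6 s r ≠ 0 ∧ (expo chevE6 s r).natAbs ≤ 2 := by (delta Cfsg.Agent.ChevalleyStructure.HMatDiagAll.expo; rewrite [Cfsg.Agent.ChevFast.E6.chainEntry, Cfsg.Agent.ChevFast.E6.neg]; decide +kernel)

theorem tab_two : ∀ s ∈ L6, ∀ r < 72, -2 ≤ expo chevE6 s r ∧ expo chevE6 s r ≤ 2 ∧ (expo chevE6 s r = 2 → r = s) := by
  (delta Cfsg.Agent.ChevalleyStructure.HMatDiagAll.expo; rewrite [Cfsg.Agent.ChevFast.E6.chainEntry, Cfsg.Agent.ChevFast.E6.neg]; decide +kernel)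

theorem tab_B : ∀ s ∈ L6, ∀ r < 72, expo chevE6 s r = Bf (vec chevE6 6 s) (vec chevE6 6 r) := by
  (delta Cfsg.Agent.ChevalleyStructure.CoxeterGeomTypes.cartanOf Cfsg.Agent.ChevalleyStructure.HMatDiagAll.expo Cfsg.Agent.H14.BSE6.Bf; rewrite [Cfsg.Agent.ChevFast.E6.cartan, Cfsg.Agent.ChevFast.E6.chainEntry, Cfsg.Agent.ChevFast.E6.neg]; decide +kernel)

theorem lt_of_mem : ∀ s ∈ L6, s < 72 := by decide

theorem Etab_getD {r j : ℕ} (hr : r < 72) (hj : j < 4) : (Etab.getD r []).getD j 0 = expo chevE6 (L6.getD j 0) r := by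
  rw [← tab_E]
  have h1 : ((List.range 72).map (fun r => L6.map (fun s => expo chevE6 s r))).getD r [] =
      L6.map (fun s => expo chevE6 s r) := by
    rw [List.getD_eq_getElem _ _ (by simpa using hr)]
    simp
  rw [h1, List.getD_eq_getElem _ _ (by simpa [L6, LE6] using hj), List.getD_eq_getElem _ _ (by simpa [L6, LE6] using hj)]
  simp

/-- the toral `q`-group of the fixed `D₄` -/
def Om6 (hp : IsType chevE6 6 CoxeterMatrix.E₆) (k : Type u) [Field k] (q : ℕ) : Subgroup ↥(chevE6.group k) :=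
  OmL hp k L6 q

variable {k : Type u} [Field k] (hk : LocFin k) {p : ℕ} [Fact p.Prime] [CharP k p] {q : ℕ}

theorem exists_prim [IsAlgClosed k] (p : ℕ) [Fact p.Prime] [CharP k p] (hq : q.Prime) (hqp : q ≠ p) :
    ∃ ζ : k, IsPrimitiveRoot ζ q := by
  have hne : NeZero (q : k) := ⟨fun h => hqp ((Nat.prime_dvd_prime_iff_eq Fact.out hq).1
    ((CharP.cast_eq_zero_iff k p q).1 h)).symm⟩
  have := hq.pos
  have : NeZero q := ⟨hq.ne_zero⟩
  exact HasEnoughRootsOfUnity.exists_primitiveRoot k q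

include hk p in
theorem cX_Bf {s : ℕ} (hs : s ∈ L6) {c : k} (hc : c ≠ 0) (x : Fin 6 → ℤ) :
    cX hp (ph hp k (lt_of_mem s hs) (hS c)) x = c ^ Bf (vec chevE6 6 s) x := by
  have hψ : IsMC (fun x : Fin 6 → ℤ => c ^ Bf (vec chevE6 6 s) x) :=
    { zero := by
        show c ^ Bf (vec chevE6 6 s) 0 = 1
        rw [Bf_zero_right, zpow_zero]
      add := fun x y => by
        show c ^ Bf (vec chevE6 6 s) (x + y) = _
        rw [Bf_add_right, zpow_add₀ hc] }
  refine (isMC_cX hp (ph_hS_mem hp (lt_of_mem s hs) hc)).ext hψ (fun i => ?_) x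
  have hr : chevE6.simple i < 72 := simple_lt hp.inList (lt_rank hp i)
  rw [← vec_simple hp i, cX_ph hk (p := p) (lt_of_mem s hs) hc hr, tab_B s hs _ hr]

theorem omOK_E6 [IsAlgClosed k] (hq : q.Prime) (h5 : 5 ≤ q) (hqp : q ≠ p) : OmOK hp hk p q (Om6 hp k q) := by
  classical
  obtain ⟨ζ, hζ⟩ := exists_prim (k := k) p hq hqp
  have hζ0 : ζ ≠ 0 := hζ.ne_zero hq.ne_zero
  have hsmall : ∀ m : ℤ, (q : ℤ) ∣ m → m.natAbs < 5 → m = 0 := by
    intro m hm h
    have h1 : q ∣ m.natAbs := Int.natCast_dvd.1 hm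
    have h2 := Nat.eq_zero_of_dvd_of_lt h1 (by omega)
    exact Int.natAbs_eq_zero.1 h2
  refine ⟨OmL_le hq.ne_zero, finite_of_exp hp hq.pos (OmL_le hq.ne_zero) (OmL_exp hq.ne_zero), OmL_exp hq.ne_zero,
    ?_, ?_, ?_⟩
  · -- no root is trivial
    intro r hr
    obtain ⟨s, hs, hne, hle⟩ := tab_ne r hr
    refine ⟨_, mem_OmL (hp := hp) (lt_of_mem s hs) hs hζ.pow_eq_one, ?_⟩
    rw [ch_ph_hS hp (lt_of_mem s hs) p hk hζ0 hr, Ne, hζ.zpow_eq_one_iff_dvd]
    exact fun h => hne (hsmall _ h (by omega))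
  · -- the hyperplanes
    intro R hR hP
    by_cases hex : ∃ r < 72, ∀ h ∈ R, ch hp (vec chevE6 6 r) h = 1
    · obtain ⟨r, hr, htr⟩ := hex
      refine ⟨1, r, st6.getD r 0, POK.of (tab_st r hr), fun a ha h1 => ?_⟩
      obtain ⟨r', hr', rfl⟩ := (isRoot_iff hp CoxeterMatrix.E₆.toCoxeterSystem a).1 ha
      refine ⟨r', ?_, by rw [map_one]; rfl⟩
      rcases tab_m r hr r' hr' with h2 | h2
      · exact h2
      · exfalso
        unfold mOK at h2
        obtain ⟨i, hi, h2⟩ := List.any_eq_true.1 h2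
        obtain ⟨j, hj, h2⟩ := List.any_eq_true.1 h2
        rw [Bool.and_eq_true, decide_eq_true_iff, decide_eq_true_iff] at h2
        rw [List.mem_range] at hi hj
        rw [Etab_getD hr hi, Etab_getD hr hj, Etab_getD hr' hi, Etab_getD hr' hj] at h2
        have hLi : ∀ i < 4, L6.getD i 0 ∈ L6 := by decide
        have h3 := minor hk (p := p) hq hP hζ (lt_of_mem _ (hLi i hi)) (lt_of_mem _ (hLi j hj)) (hLi i hi) (hLi j hj)
          hr hr' htr h1
        exact h2.1 (hsmall _ h3 (by omega))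
    · refine ⟨1, 0, st6.getD 0 0, POK.of (tab_st 0 (by norm_num)), fun a ha h1 => ?_⟩
      obtain ⟨r', hr', rfl⟩ := (isRoot_iff hp CoxeterMatrix.E₆.toCoxeterSystem a).1 ha
      exact absurd ⟨r', hr', h1⟩ hex
  · -- quadratic action
    intro w b hb hquad
    have hfix : ∀ s ∈ L6, rep CoxeterMatrix.E₆.toCoxeterSystem hp.isCartan w (vec chevE6 6 s) = vec chevE6 6 s := by
      intro s hs
      have h1 := quad_val hk (p := p) hb (ph_hS_mem hp (lt_of_mem s hs) hζ0)
        (hquad _ (mem_OmL (hp := hp) (lt_of_mem s hs) hs hζ.pow_eq_one)) (vec chevE6 6 s)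
      rw [cX_Bf hp hk (p := p) hs hζ0, cX_Bf hp hk (p := p) hs hζ0, cX_Bf hp hk (p := p) hs hζ0] at h1
      have h2 : Bf (vec chevE6 6 s) (rep CoxeterMatrix.E₆.toCoxeterSystem hp.isCartan w⁻¹ (vec chevE6 6 s)) =
          Bf (vec chevE6 6 s) (rep CoxeterMatrix.E₆.toCoxeterSystem hp.isCartan w (vec chevE6 6 s)) := by
        rw [← Bf_rep hp w, rep_apply_inv, Bf_symm]
      have h3 : Bf (vec chevE6 6 s) (vec chevE6 6 s) = 2 := by
        rw [← tab_B s hs s (lt_of_mem s hs)]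
        unfold expo
        rw [if_pos rfl]
      rw [h2, h3] at h1
      obtain ⟨r, hr, hre⟩ := (isRoot_iff hp CoxeterMatrix.E₆.toCoxeterSystem _).1
        (((isRoot_iff hp CoxeterMatrix.E₆.toCoxeterSystem _).2 ⟨s, lt_of_mem s hs, rfl⟩).act w)
      rw [← hre, ← tab_B s hs r hr] at h1
      obtain ⟨e1, e2, e3⟩ := tab_two s hs r hr
      have h4 : ζ ^ (2 * expo chevE6 s r - 4) = 1 := by
        rw [zpow_sub₀ hζ0, two_mul, zpow_add₀ hζ0, h1]
        have h5 : (ζ ^ (2 : ℤ)) ^ 2 = ζ ^ (4 : ℤ) := by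
          rw [← zpow_natCast, ← zpow_mul]
          norm_num
        rw [h5, div_self (zpow_ne_zero _ hζ0)]
      rw [hζ.zpow_eq_one_iff_dvd] at h4
      have h6 : expo chevE6 s r = 2 := by
        by_contra hne
        have h7 : (q : ℤ) ∣ 2 * (expo chevE6 s r - 2) := by
          rw [show 2 * (expo chevE6 s r - 2) = 2 * expo chevE6 s r - 4 by ring]
          exact h4
        have hqz : Prime (q : ℤ) := Nat.prime_iff_prime_int.1 hq
        rcases hqz.dvd_or_dvd h7 with h8 | h8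
        · have := hsmall _ h8 (by norm_num)
          omega
        · have := hsmall _ h8 (by omega)
          omega
      rw [← hre, e3 h6]
    by_contra hw
    have hWf := finite_W hp (CoxeterMatrix.E₆.toCoxeterSystem)
    obtain ⟨a, ha, hsum⟩ := Fix.exists_root_sum_eq_zero (cs := CoxeterMatrix.E₆.toCoxeterSystem) (h := hp.isCartan) hw
      (orderOf_pos w) (pow_orderOf_eq_one w)
    have hfix' : ∀ s ∈ L6, ∀ i : ℕ,
        rep CoxeterMatrix.E₆.toCoxeterSystem hp.isCartan (w ^ i) (vec chevE6 6 s) = vec chevE6 6 s := by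
      intro s hs i
      induction i with
      | zero => rw [pow_zero, map_one]; rfl
      | succ i ih => rw [pow_succ', rep_mul_apply, ih, hfix s hs]
    obtain ⟨r, hr, rfl⟩ := (isRoot_iff hp CoxeterMatrix.E₆.toCoxeterSystem a).1 ha
    obtain ⟨s, hs, hne, -⟩ := tab_ne r hr
    apply hne
    have h1 : ∀ n : ℕ, Bf (vec chevE6 6 s) (∑ i ∈ Finset.range n,
        rep CoxeterMatrix.E₆.toCoxeterSystem hp.isCartan (w ^ i) (vec chevE6 6 r)) =
          n * Bf (vec chevE6 6 s) (vec chevE6 6 r) := by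
      intro n
      induction n with
      | zero => rw [Finset.sum_range_zero, Bf_zero_right]; simp
      | succ n ih =>
        rw [Finset.sum_range_succ, Bf_add_right, ih]
        have h2 := Bf_rep hp (w ^ n) (vec chevE6 6 s) (vec chevE6 6 r)
        rw [hfix' s hs n] at h2
        rw [h2]
        push_cast
        ring
    have h2 := h1 (orderOf w)
    rw [hsum, Bf_zero_right] at h2
    rw [tab_B s hs r hr]
    have h3 : (orderOf w : ℤ) ≠ 0 := by
      have := orderOf_pos w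
      omega
    exact (mul_eq_zero.1 h2.symm).resolve_left h3

end E6

end Cfsg.Agent.H14.BSE6
end

-- part: H167/EX/ChkF4
section
set_option linter.all false

/-!
# The combinatorial conditions for `F4` (helper167, S4312, exceptional groups)
-/

set_option autoImplicit false

namespace Cfsg.Agent.H167.EX

open Cfsg Cfsg.Lie Cfsg.Lie.ChevalleyDatum Cfsg.Agent.ChevalleyStructure

def LF4 : List ℕ := [0, 1, 2, 4]

def wF4 : List ℕ :=
    [1, 0, 0, 0, 0, 0, 1, 0, 0, 0, 1, 0, 1, 2, 4, 0, 0, 1, 0, 1, 2, 0, 1, 0, 0, 1, 0, 2, 1, 0, 1, 0, 0, 4, 2,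
    1, 0, 1, 0, 0, 0, 1, 0, 0, 0, 0, 0, 1]

def vF4 : List ℕ :=
    [1, 0, 0, 7, 0, 0, 1, 3, 3, 3, 3, 3, 3, 3, 3, 0, 0, 1, 7, 7, 7, 0, 1, 0, 1, 2, 2, 8, 9, 10, 4, 4, 5, 7,
    8, 9, 10, 11, 12, 13, 14, 15, 15, 16, 33, 21, 23, 24]

theorem oddF4 : oddB chevF4 LF4 wF4 = true := by decide +kernel

theorem oneF4 : oneB chevF4 vF4 = true := by decide +kernel

theorem nodupF4 : ((List.range chevF4.nroots).map (code chevF4 LF4)).Nodup := by decide +kernel

theorem chkF4 : Chk chevF4 LF4 id := chk_of_nodup oddF4 oneF4 nodupF4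

theorem twoF4_0 : two chevF4 0 = true := by decide +kernel

theorem twoF4_1 : two chevF4 1 = true := by decide +kernel

theorem twoF4_2 : two chevF4 2 = true := by decide +kernel

theorem twoF4_4 : two chevF4 4 = true := by decide +kernel

theorem twoF4 : ∀ d ∈ LF4, two chevF4 d = true := by
  intro d hd
  have h : d = 0 ∨ d = 1 ∨ d = 2 ∨ d = 4 := by simpa [LF4] using hd
  rcases h with rfl | rfl | rfl | rfl
  · exact twoF4_0
  · exact twoF4_1
  · exact twoF4_2
  · exact twoF4_4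

theorem ltF4 : ∀ d ∈ LF4, d < chevF4.nroots := by decide +kernel

end Cfsg.Agent.H167.EX

private theorem dce_74b23d7e04b3 : _root_.True := by
  try have : _root_.True := by simp only [_root_.Cfsg.Agent.H167.EX.LF4.eq_1]
  exact _root_.True.intro
end
end
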