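import Mathlib
import Cfsg.Agent.H529.PiElem
set_option linter.all false

/-!
# The number of conjugacy classes of a finite group: elementary inequalities

`k(G) = Nat.card (ConjClasses G)`.
* `le_mul` : `k(G) ≤ k(N) k(G/N)`; `le_ker_mul_range` : `k(G) ≤ k(ker f) k(im f)`.
* `congr`, `le_of_surjective`, `le_card`, `mul_card_le` (`k(H)|H| ≤ k(G)|G|`).
-/

set_option autoImplicit false

namespace Cfsg.Agent.H553.KClass

/-- `k(G) ≤ k(N) k(G/N)`. -/
theorem le_mul {G : Type*} [Group G] [Finite G] (N : Subgroup G) [N.Normal] :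
    Nat.card (ConjClasses G) ≤ Nat.card (ConjClasses N) * Nat.card (ConjClasses (G ⧸ N)) := by
  have h := H529.PiElem.piClasses_le Set.univ G N
  have key : ∀ (X : Type _) [Group X],
      Nat.card (H529.PiElem.PiClasses Set.univ X) = Nat.card (ConjClasses X) := by
    intro X _
    exact Nat.card_congr (Equiv.subtypeUnivEquiv (fun C q _ _ => Set.mem_univ q))
  rw [key G, key N, key (G ⧸ N)] at h
  exact h

theorem congr {G H : Type*} [Group G] [Group H] (e : G ≃* H) :
    Nat.card (ConjClasses G) = Nat.card (ConjClasses H) := by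
  refine Nat.card_congr ⟨ConjClasses.map e.toMonoidHom, ConjClasses.map e.symm.toMonoidHom, ?_, ?_⟩
  · intro C
    obtain ⟨g, rfl⟩ := C.exists_rep
    exact congrArg ConjClasses.mk (e.symm_apply_apply g)
  · intro C
    obtain ⟨g, rfl⟩ := C.exists_rep
    exact congrArg ConjClasses.mk (e.apply_symm_apply g)

theorem le_of_surjective {G H : Type*} [Group G] [Group H] [Finite G] (f : G →* H)
    (hf : Function.Surjective f) : Nat.card (ConjClasses H) ≤ Nat.card (ConjClasses G) :=
  Nat.card_le_card_of_surjective _ (ConjClasses.map_surjective hf)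

theorem le_card {G : Type*} [Group G] [Finite G] : Nat.card (ConjClasses G) ≤ Nat.card G :=
  Nat.card_le_card_of_surjective _ ConjClasses.mk_surjective

theorem pos {G : Type*} [Group G] [Finite G] : 0 < Nat.card (ConjClasses G) :=
  Nat.card_pos

/-- `k(G) ≤ k(ker f) k(im f)`. -/
theorem le_ker_mul_range {G H : Type*} [Group G] [Group H] [Finite G] (f : G →* H) :
    Nat.card (ConjClasses G) ≤ Nat.card (ConjClasses f.ker) * Nat.card (ConjClasses f.range) := by
  refine (le_mul f.ker).trans ?_
  rw [congr (QuotientGroup.quotientKerEquivRange f)]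

/-- `k(H)|H| ≤ k(G)|G|` for a subgroup `H` of `G`. -/
theorem mul_card_le {G : Type*} [Group G] [Finite G] (H : Subgroup G) :
    Nat.card (ConjClasses H) * Nat.card H ≤ Nat.card (ConjClasses G) * Nat.card G := by
  rw [← card_comm_eq_card_conjClasses_mul_card, ← card_comm_eq_card_conjClasses_mul_card]
  refine Nat.card_le_card_of_injective
    (fun p : {p : H × H // Commute p.1 p.2} =>
      (⟨((p.1.1 : G), (p.1.2 : G)), congrArg Subtype.val p.2⟩ : {p : G × G // Commute p.1 p.2})) ?_
  intro p q hpq
  have h1 := congrArg (fun y : {p : G × G // Commute p.1 p.2} => y.1) hpq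
  apply Subtype.ext
  exact Prod.ext (Subtype.ext (congrArg Prod.fst h1)) (Subtype.ext (congrArg Prod.snd h1))

theorem eq_one_of_subsingleton {G : Type*} [Group G] [Subsingleton G] :
    Nat.card (ConjClasses G) = 1 := by
  have : Finite G := Finite.of_subsingleton
  have h := le_card (G := G)
  have h1 : Nat.card G = 1 := Nat.card_of_subsingleton 1
  have h2 := pos (G := G)
  omega

end Cfsg.Agent.H553.KClass
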