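import Mathlib
import Cfsg.Agent.H553.KClass
set_option linter.all false

/-!
# Bounding the number of conjugacy classes of permutation groups: reduction to primitive groups

`Bd s c n`: every permutation group `R` on a nonempty set `α` with at most `n` points (solvable if
`s` holds) has at most `c ^ (|α| - 1)` conjugacy classes.
* `fibre_bound`: a group acting faithfully and fixing the fibres of a surjective map `α → ι`
  has at most `c ^ (|α| - |ι|)` classes.
* `bd_all`: **if the bound holds for primitive groups, it holds for all permutation groups.**
-/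

set_option autoImplicit false

namespace Cfsg.Agent.H553.PermClass

universe u

open MulAction Pointwise

/-- The class bound for permutation groups of degree at most `n` (solvable if `s`). -/
def Bd (s : Prop) (c n : ℕ) : Prop :=
  ∀ (α : Type u) [Finite α] (R : Subgroup (Equiv.Perm α)), Nonempty α → Nat.card α ≤ n →
    (s → Group.IsSolvable R) → Nat.card (ConjClasses R) ≤ c ^ (Nat.card α - 1)

theorem Bd.range {s : Prop} {c n : ℕ} (hB : Bd.{u} s c n) {G : Type*} [Group G] (α : Type u)
    [Finite α] (hα : Nonempty α) (hn : Nat.card α ≤ n) (hG : s → Group.IsSolvable G)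
    (φ : G →* Equiv.Perm α) : Nat.card (ConjClasses φ.range) ≤ c ^ (Nat.card α - 1) := by
  refine hB α φ.range hα hn (fun hs => ?_)
  have := hG hs
  exact Group.isSolvable_of_surjective φ.rangeRestrict_surjective

/-- restriction of an action to an invariant set -/
def resHom {G α : Type*} [Group G] (φ : G →* Equiv.Perm α) (p : α → Prop)
    (h : ∀ (g : G) (x : α), p (φ g x) ↔ p x) : G →* Equiv.Perm {x // p x} where
  toFun g := (φ g).subtypePerm (h g)
  map_one' := by
    ext x
    simp
  map_mul' g g' := by
    apply Equiv.ext
    intro x
    apply Subtype.ext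
    change φ (g * g') x.1 = φ g (φ g' x.1)
    rw [map_mul]
    rfl

theorem resHom_apply {G α : Type*} [Group G] (φ : G →* Equiv.Perm α) (p : α → Prop)
    (h : ∀ (g : G) (x : α), p (φ g x) ↔ p x) (g : G) (x : {x // p x}) :
    ((resHom φ p h g x : {x // p x}) : α) = φ g x := rfl

open Classical in
theorem fibre_bound {s : Prop} {c n : ℕ} (hB : Bd.{u} s c n) :
    ∀ (m : ℕ) {G : Type*} {α ι : Type u} [Group G] [Finite G] [Finite α] [Finite ι]
      (φ : G →* Equiv.Perm α) (_ : Function.Injective φ) (f : α → ι) (_ : Function.Surjective f)
      (_ : ∀ (g : G) (a : α), f (φ g a) = f a) (_ : ∀ i : ι, Nat.card {a // f a = i} ≤ n)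
      (_ : s → Group.IsSolvable G) (_ : Nat.card ι = m),
      Nat.card (ConjClasses G) ≤ c ^ (Nat.card α - Nat.card ι) := by
  intro m
  induction m with
  | zero =>
    intro G α ι _ _ _ _ φ hφ f hf hinv hfib hG hm
    have hι : IsEmpty ι := by
      rcases Nat.card_eq_zero.mp hm with h | h
      · exact h
      · exact absurd ‹Finite ι› (not_finite_iff_infinite.mpr h)
    have hα : IsEmpty α := ⟨fun a => hι.false (f a)⟩
    have hsub : Subsingleton G := hφ.subsingleton
    rw [KClass.eq_one_of_subsingleton, hm, Nat.card_of_isEmpty]
    simp
  | succ m ih =>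
    intro G α ι _ _ _ _ φ hφ f hf hinv hfib hG hm
    have hne : Nonempty ι := by
      have : 0 < Nat.card ι := by omega
      exact (Nat.card_pos_iff.mp this).1
    obtain ⟨i₀⟩ := hne
    let ρ := resHom φ (fun a => f a = i₀) (fun g a => by rw [hinv])
    -- the kernel acts faithfully on the rest
    let φ' : ρ.ker →* Equiv.Perm {a // f a ≠ i₀} :=
      resHom (φ.comp ρ.ker.subtype) (fun a => f a ≠ i₀) (fun g a => by
        rw [MonoidHom.comp_apply, hinv])
    have hφ' : Function.Injective φ' := by
      rw [injective_iff_map_eq_one]
      intro g hg
      apply Subtype.ext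
      apply hφ
      rw [Subgroup.coe_one, map_one]
      ext a
      rw [Equiv.Perm.one_apply]
      by_cases ha : f a = i₀
      · have h1 : ρ g = 1 := g.2
        have h2 := congrArg (fun e : Equiv.Perm {a // f a = i₀} => ((e ⟨a, ha⟩ : _) : α)) h1
        exact h2
      · have h2 := congrArg (fun e : Equiv.Perm {a // f a ≠ i₀} => ((e ⟨a, ha⟩ : _) : α)) hg
        exact h2
    let f' : {a // f a ≠ i₀} → {i // i ≠ i₀} := fun a => ⟨f a.1, a.2⟩
    have hf' : Function.Surjective f' := by
      rintro ⟨i, hi⟩
      obtain ⟨a, rfl⟩ := hf i
      exact ⟨⟨a, hi⟩, rfl⟩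
    have hcardι : Nat.card {i // i ≠ i₀} = m := by
      have h1 : Nat.card {i // i = i₀} = 1 := by simp
      have h2 := Nat.card_congr (Equiv.sumCompl (fun i => i = i₀))
      rw [Nat.card_sum] at h2
      have h3 : Nat.card {i // i ≠ i₀} = Nat.card {i // ¬ i = i₀} := rfl
      omega
    have hcardα : Nat.card {a // f a = i₀} + Nat.card {a // f a ≠ i₀} = Nat.card α := by
      have h2 := Nat.card_congr (Equiv.sumCompl (fun a => f a = i₀))
      rw [Nat.card_sum] at h2
      exact h2
    have hpos : 0 < Nat.card {a // f a = i₀} := by
      obtain ⟨a, ha⟩ := hf i₀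
      have : Nonempty {a // f a = i₀} := ⟨⟨a, ha⟩⟩
      exact Nat.card_pos
    have hle : Nat.card {i // i ≠ i₀} ≤ Nat.card {a // f a ≠ i₀} :=
      Nat.card_le_card_of_surjective f' hf'
    have hk1 : Nat.card (ConjClasses ρ.ker) ≤
        c ^ (Nat.card {a // f a ≠ i₀} - Nat.card {i // i ≠ i₀}) := by
      refine ih φ' hφ' f' hf' ?_ ?_ ?_ hcardι
      · intro g a
        exact Subtype.ext (hinv g a)
      · rintro ⟨i, hi⟩
        refine le_trans (Nat.card_le_card_of_injective
          (fun x : {a : {a // f a ≠ i₀} // f' a = ⟨i, hi⟩} =>
            (⟨x.1.1, congrArg Subtype.val x.2⟩ : {a // f a = i})) ?_) (hfib i)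
        intro x y hxy
        have h1 : (x.1.1 : α) = y.1.1 := congrArg (fun z : {a // f a = i} => (z : α)) hxy
        exact Subtype.ext (Subtype.ext h1)
      · intro hs
        have := hG hs
        exact Group.isSolvable_of_isSolvable_injective ρ.ker.subtype_injective
    have hk2 : Nat.card (ConjClasses ρ.range) ≤ c ^ (Nat.card {a // f a = i₀} - 1) :=
      hB.range _ (Nat.card_pos_iff.mp hpos).1 (hfib i₀) hG ρ
    refine (KClass.le_ker_mul_range ρ).trans ((Nat.mul_le_mul hk1 hk2).trans ?_)
    rw [← pow_add]
    apply le_of_eq
    congr 1
    rw [hcardι] at hle ⊢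
    omega

/-- **Reduction of the class bound to primitive groups.** -/
theorem bd_all {s : Prop} {c : ℕ} (hc : 1 ≤ c)
    (hprim : ∀ (α : Type u) [Finite α] (R : Subgroup (Equiv.Perm α)), IsPreprimitive R α →
      2 ≤ Nat.card α → (s → Group.IsSolvable R) →
      Nat.card (ConjClasses R) ≤ c ^ (Nat.card α - 1)) (n : ℕ) : Bd.{u} s c n := by
  induction n with
  | zero =>
    intro α _ R hne hα
    exact absurd hα (by have := Nat.card_pos (α := α); omega)
  | succ n ih =>
    intro α _ R hne hα hR
    rcases Nat.lt_or_ge (Nat.card α) 2 with h1 | h1
    · have hsub : Subsingleton α := by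
        rw [← Finite.card_le_one_iff_subsingleton]
        omega
      have : Subsingleton R := inferInstance
      rw [KClass.eq_one_of_subsingleton]
      exact Nat.one_le_pow _ _ hc
    by_cases htr : IsPretransitive R α
    · by_cases hp : IsPreprimitive R α
      · exact hprim α R hp h1 hR
      · -- a nontrivial block
        obtain ⟨B, hB, hBt⟩ : ∃ B : Set α, IsBlock R B ∧ ¬ IsTrivialBlock B := by
          by_contra hcon
          push Not at hcon
          exact hp ⟨fun {B} hB => hcon B hB⟩
        rw [IsTrivialBlock, not_or] at hBt
        obtain ⟨hBs, hBu⟩ := hBt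
        rw [Set.not_subsingleton_iff] at hBs
        obtain ⟨b₁, hb₁, b₂, hb₂, hb⟩ := hBs
        let r : Setoid α :=
          { r := fun x y => ∃ g : R, x ∈ g • B ∧ y ∈ g • B
            iseqv :=
              { refl := fun x => by
                  obtain ⟨g, hg⟩ := htr.exists_smul_eq b₁ x
                  exact ⟨g, ⟨b₁, hb₁, hg⟩, ⟨b₁, hb₁, hg⟩⟩
                symm := fun ⟨g, hx, hy⟩ => ⟨g, hy, hx⟩
                trans := by
                  rintro x y z ⟨g, hx, hy⟩ ⟨g', hy', hz⟩
                  refine ⟨g, hx, ?_⟩
                  rw [hB.smul_eq_smul_of_nonempty ⟨y, hy, hy'⟩]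
                  exact hz } }
        have hinv : ∀ (g : R) (x y : α), r x y ↔ r (g • x) (g • y) := by
          intro g x y
          constructor
          · rintro ⟨h, hx, hy⟩
            refine ⟨g * h, ?_, ?_⟩
            · rw [mul_smul]
              exact Set.smul_mem_smul_set hx
            · rw [mul_smul]
              exact Set.smul_mem_smul_set hy
          · rintro ⟨h, hx, hy⟩
            refine ⟨g⁻¹ * h, ?_, ?_⟩
            · rw [mul_smul, Set.mem_inv_smul_set_iff]
              exact hx
            · rw [mul_smul, Set.mem_inv_smul_set_iff]
              exact hy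
        let ρ : R →* Equiv.Perm (Quotient r) :=
          { toFun := fun g => Quotient.congr (g : Equiv.Perm α) (fun x y => hinv g x y)
            map_one' := by
              apply Equiv.ext
              rintro ⟨x⟩
              rfl
            map_mul' := by
              intro g h
              apply Equiv.ext
              rintro ⟨x⟩
              rfl }
        have hρ : ∀ (g : R) (x : α), ρ g (Quotient.mk r x) = Quotient.mk r ((g : Equiv.Perm α) x) :=
          fun g x => rfl
        have hfin : Finite (Quotient r) := Quotient.finite r
        have hlt : Nat.card (Quotient r) < Nat.card α := by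
          refine lt_of_le_of_ne (Nat.card_le_card_of_surjective (Quotient.mk r)
            Quotient.mk_surjective) (fun heq => ?_)
          have hinj : Function.Injective (Quotient.mk r) := by
            have := Fintype.ofFinite α
            have := Fintype.ofFinite (Quotient r)
            rw [Nat.card_eq_fintype_card, Nat.card_eq_fintype_card] at heq
            exact ((Fintype.bijective_iff_surjective_and_card (Quotient.mk r)).mpr
              ⟨Quotient.mk_surjective, heq.symm⟩).1
          apply hb
          apply hinj
          exact Quotient.sound ⟨1, by rw [one_smul]; exact hb₁, by rw [one_smul]; exact hb₂⟩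
        have hk2 : Nat.card (ConjClasses ρ.range) ≤ c ^ (Nat.card (Quotient r) - 1) :=
          ih.range _ ⟨Quotient.mk r b₁⟩ (by omega) hR ρ
        have hk1 : Nat.card (ConjClasses ρ.ker) ≤ c ^ (Nat.card α - Nat.card (Quotient r)) := by
          refine fibre_bound ih _ (R.subtype.comp ρ.ker.subtype)
            (R.subtype_injective.comp ρ.ker.subtype_injective) (Quotient.mk r)
            Quotient.mk_surjective ?_ ?_ ?_ rfl
          · intro g a
            have h2 : ρ g = 1 := g.2
            have h3 := hρ g a
            rw [h2] at h3
            exact h3.symm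
          · intro i
            obtain ⟨a, rfl⟩ := Quotient.mk_surjective i
            have : ∃ x, ¬ (Quotient.mk r x = Quotient.mk r a) := by
              by_contra hcon
              push Not at hcon
              apply hBu
              rw [Set.eq_univ_iff_forall]
              intro x
              have h4 : Quotient.mk r b₁ = Quotient.mk r x := (hcon b₁).trans (hcon x).symm
              obtain ⟨g, hg1, hg2⟩ := Quotient.exact h4
              have h5 : g • B = (1 : R) • B :=
                hB.smul_eq_smul_of_nonempty ⟨b₁, hg1, by rw [one_smul]; exact hb₁⟩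
              rw [h5, one_smul] at hg2
              exact hg2
            obtain ⟨x, hx⟩ := this
            have := Finite.card_subtype_lt (p := fun y => Quotient.mk r y = Quotient.mk r a) hx
            omega
          · intro hs
            have := hR hs
            exact Group.isSolvable_of_isSolvable_injective ρ.ker.subtype_injective
        have hpos : 0 < Nat.card (Quotient r) := by
          have : Nonempty (Quotient r) := ⟨Quotient.mk r b₁⟩
          exact Nat.card_pos
        refine (KClass.le_ker_mul_range ρ).trans ((Nat.mul_le_mul hk1 hk2).trans ?_)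
        rw [← pow_add]
        apply le_of_eq
        congr 1
        omega
    · -- intransitive: the orbits
      let r : Setoid α := orbitRel R α
      have hfin : Finite (Quotient r) := Quotient.finite r
      have hpos : 0 < Nat.card (Quotient r) := by
        obtain ⟨a⟩ := hne
        have : Nonempty (Quotient r) := ⟨Quotient.mk r a⟩
        exact Nat.card_pos
      have hk : Nat.card (ConjClasses R) ≤ c ^ (Nat.card α - Nat.card (Quotient r)) := by
        refine fibre_bound ih _ R.subtype R.subtype_injective (Quotient.mk r)
            Quotient.mk_surjective ?_ ?_ hR rfl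
        · intro g a
          apply Quotient.sound
          exact ⟨g, rfl⟩
        · intro i
          obtain ⟨a, rfl⟩ := Quotient.mk_surjective i
          have : ∃ x, ¬ (Quotient.mk r x = Quotient.mk r a) := by
            by_contra hcon
            push Not at hcon
            apply htr
            refine ⟨fun x y => ?_⟩
            have h4 : Quotient.mk r y = Quotient.mk r x := (hcon y).trans (hcon x).symm
            obtain ⟨g, hg⟩ := Quotient.exact h4
            exact ⟨g, hg⟩
          obtain ⟨x, hx⟩ := this
          have := Finite.card_subtype_lt (p := fun y => Quotient.mk r y = Quotient.mk r a) hx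
          omega
      refine hk.trans (Nat.pow_le_pow_right hc ?_)
      omega

end Cfsg.Agent.H553.PermClass
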