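import Mathlib
import Cfsg.Agent.H553.PermClass
import Cfsg.Agent.H553.KClass
import Cfsg.Agent.Lib.Cores
import Cfsg.Agent.S0547
set_option linter.all false

-- part: H553/PermF
section
/-!
# Bounding the number of conjugacy classes of permutation groups by a function of the degree

`BdF s f n`: every permutation group `R` on a nonempty set `α` with at most `n` points (solvable if
`s` holds) has at most `f |α|` conjugacy classes.
* `fibre_bound`: product bound for groups fixing the fibres of a map.
* `bdF_all`: **if `f a * f b ≤ f (a + b)`, `f a ^ b * f b ≤ f (a * b)` and the bound holds for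
  primitive groups, it holds for all permutation groups.**
-/

set_option autoImplicit false

namespace Cfsg.Agent.H553.PermF

universe u

open MulAction Pointwise Cfsg.Agent.H553.PermClass

/-- The class bound for permutation groups of degree at most `n` (solvable if `s`). -/
def BdF (s : Prop) (f : ℕ → ℕ) (n : ℕ) : Prop :=
  ∀ (α : Type u) [Finite α] (R : Subgroup (Equiv.Perm α)), Nonempty α → Nat.card α ≤ n →
    (s → Group.IsSolvable R) → Nat.card (ConjClasses R) ≤ f (Nat.card α)

theorem BdF.range {s : Prop} {f : ℕ → ℕ} {n : ℕ} (hB : BdF.{u} s f n) {G : Type*} [Group G]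
    (α : Type u) [Finite α] (hα : Nonempty α) (hn : Nat.card α ≤ n)
    (hG : s → Group.IsSolvable G) (φ : G →* Equiv.Perm α) :
    Nat.card (ConjClasses φ.range) ≤ f (Nat.card α) := by
  refine hB α φ.range hα hn (fun hs => ?_)
  have := hG hs
  exact Group.isSolvable_of_surjective φ.rangeRestrict_surjective

open Classical in
theorem fibre_bound {s : Prop} {f : ℕ → ℕ} {n : ℕ} (hB : BdF.{u} s f n) :
    ∀ (m : ℕ) {G : Type*} {α ι : Type u} [Group G] [Finite G] [Finite α] [Finite ι]
      (φ : G →* Equiv.Perm α) (_ : Function.Injective φ) (π : α → ι) (_ : Function.Surjective π)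
      (_ : ∀ (g : G) (a : α), π (φ g a) = π a) (_ : ∀ i : ι, Nat.card {a // π a = i} ≤ n)
      (_ : s → Group.IsSolvable G) (_ : Nat.card ι = m),
      Nat.card (ConjClasses G) ≤ ∏ᶠ i : ι, f (Nat.card {a // π a = i}) := by
  intro m
  induction m with
  | zero =>
    intro G α ι _ _ _ _ φ hφ π hπ hinv hfib hG hm
    have hι : IsEmpty ι := by
      rcases Nat.card_eq_zero.mp hm with h | h
      · exact h
      · exact absurd ‹Finite ι› (not_finite_iff_infinite.mpr h)
    have hα : IsEmpty α := ⟨fun a => hι.false (π a)⟩
    have hsub : Subsingleton G := hφ.subsingleton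
    rw [KClass.eq_one_of_subsingleton, finprod_of_isEmpty]
  | succ m ih =>
    intro G α ι _ _ _ _ φ hφ π hπ hinv hfib hG hm
    have hne : Nonempty ι := by
      have : 0 < Nat.card ι := by omega
      exact (Nat.card_pos_iff.mp this).1
    obtain ⟨i₀⟩ := hne
    let ρ := resHom φ (fun a => π a = i₀) (fun g a => by rw [hinv])
    let φ' : ρ.ker →* Equiv.Perm {a // π a ≠ i₀} :=
      resHom (φ.comp ρ.ker.subtype) (fun a => π a ≠ i₀) (fun g a => by
        rw [MonoidHom.comp_apply, hinv])
    have hφ' : Function.Injective φ' := by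
      rw [injective_iff_map_eq_one]
      intro g hg
      apply Subtype.ext
      apply hφ
      rw [Subgroup.coe_one, map_one]
      ext a
      rw [Equiv.Perm.one_apply]
      by_cases ha : π a = i₀
      · have h1 : ρ g = 1 := g.2
        have h2 := congrArg (fun e : Equiv.Perm {a // π a = i₀} => ((e ⟨a, ha⟩ : _) : α)) h1
        exact h2
      · have h2 := congrArg (fun e : Equiv.Perm {a // π a ≠ i₀} => ((e ⟨a, ha⟩ : _) : α)) hg
        exact h2
    let π' : {a // π a ≠ i₀} → {i // i ≠ i₀} := fun a => ⟨π a.1, a.2⟩
    have hπ' : Function.Surjective π' := by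
      rintro ⟨i, hi⟩
      obtain ⟨a, rfl⟩ := hπ i
      exact ⟨⟨a, hi⟩, rfl⟩
    have hcardι : Nat.card {i // i ≠ i₀} = m := by
      have h1 : Nat.card {i // i = i₀} = 1 := by simp
      have h2 := Nat.card_congr (Equiv.sumCompl (fun i => i = i₀))
      rw [Nat.card_sum] at h2
      have h3 : Nat.card {i // i ≠ i₀} = Nat.card {i // ¬ i = i₀} := rfl
      omega
    have hfeq : ∀ i : {i // i ≠ i₀}, Nat.card {a : {a // π a ≠ i₀} // π' a = i} =
        Nat.card {a // π a = i.1} := by
      rintro ⟨i, hi⟩
      refine Nat.card_congr ⟨fun x => ⟨x.1.1, congrArg Subtype.val x.2⟩,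
        fun x => ⟨⟨x.1, by rw [x.2]; exact hi⟩, Subtype.ext x.2⟩, fun x => rfl, fun x => rfl⟩
    have hk1 : Nat.card (ConjClasses ρ.ker) ≤
        ∏ᶠ i : {i // i ≠ i₀}, f (Nat.card {a : {a // π a ≠ i₀} // π' a = i}) := by
      refine ih φ' hφ' π' hπ' ?_ ?_ ?_ hcardι
      · intro g a
        exact Subtype.ext (hinv g a)
      · intro i
        rw [hfeq]
        exact hfib i.1
      · intro hs
        have := hG hs
        exact Group.isSolvable_of_isSolvable_injective ρ.ker.subtype_injective
    have hpos : Nonempty {a // π a = i₀} := by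
      obtain ⟨a, ha⟩ := hπ i₀
      exact ⟨⟨a, ha⟩⟩
    have hk2 : Nat.card (ConjClasses ρ.range) ≤ f (Nat.card {a // π a = i₀}) :=
      hB.range _ hpos (hfib i₀) hG ρ
    refine (KClass.le_ker_mul_range ρ).trans ((Nat.mul_le_mul hk1 hk2).trans ?_)
    apply le_of_eq
    have := Fintype.ofFinite ι
    rw [finprod_eq_prod_of_fintype, finprod_eq_prod_of_fintype]
    rw [Fintype.prod_eq_mul_prod_subtype_ne (fun i => f (Nat.card {a // π a = i})) i₀, mul_comm]
    congr 1
    refine Finset.prod_congr ?_ (fun i _ => by rw [hfeq])
    ext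
    simp

/-- Superadditivity for finite families. -/
theorem prod_le {f : ℕ → ℕ} {n : ℕ} (hsum : ∀ a b, 1 ≤ a → 1 ≤ b → a + b ≤ n →
    f a * f b ≤ f (a + b)) {ι : Type*} (t : Finset ι) (ht : t.Nonempty) (c : ι → ℕ)
    (hc : ∀ i, 1 ≤ c i) (hn : ∑ i ∈ t, c i ≤ n) : ∏ i ∈ t, f (c i) ≤ f (∑ i ∈ t, c i) := by
  classical
  induction ht using Finset.Nonempty.cons_induction with
  | singleton a => simp
  | cons a s has hs ih =>
    rw [Finset.sum_cons] at hn ⊢
    rw [Finset.prod_cons]
    have h1 := ih (by omega)
    have h2 : 1 ≤ ∑ i ∈ s, c i := by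
      obtain ⟨j, hj⟩ := hs
      exact (hc j).trans (Finset.single_le_sum (f := c) (fun _ _ => Nat.zero_le _) hj)
    exact (Nat.mul_le_mul_left _ h1).trans (hsum _ _ (hc a) h2 hn)

/-- **Reduction of the class bound to primitive groups.** -/
theorem bdF_all {s : Prop} {f : ℕ → ℕ} (n : ℕ) (h1 : 1 ≤ f 1)
    (hsum : ∀ a b, 1 ≤ a → 1 ≤ b → a + b ≤ n → f a * f b ≤ f (a + b))
    (hmul : ∀ a b, 2 ≤ a → 2 ≤ b → a * b ≤ n → f a ^ b * f b ≤ f (a * b))
    (hprim : ∀ (α : Type u) [Finite α] (R : Subgroup (Equiv.Perm α)), IsPreprimitive R α →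
      2 ≤ Nat.card α → Nat.card α ≤ n → (s → Group.IsSolvable R) →
      Nat.card (ConjClasses R) ≤ f (Nat.card α)) : BdF.{u} s f n := by
  suffices h : ∀ m, m ≤ n → BdF.{u} s f m from h n le_rfl
  intro m
  induction m with
  | zero =>
    intro _ α _ R hne hα
    exact absurd hα (by have := Nat.card_pos (α := α); omega)
  | succ m ih' =>
    intro hmn
    have ih := ih' (by omega)
    intro α _ R hne hα hR
    rcases Nat.lt_or_ge (Nat.card α) 2 with h2 | h2
    · have hsub : Subsingleton α := by
        rw [← Finite.card_le_one_iff_subsingleton]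
        omega
      have : Subsingleton R := inferInstance
      rw [KClass.eq_one_of_subsingleton]
      have hc1 : Nat.card α = 1 := by
        have := Nat.card_pos (α := α)
        omega
      rw [hc1]
      exact h1
    by_cases htr : IsPretransitive R α
    · by_cases hp : IsPreprimitive R α
      · exact hprim α R hp h2 (by omega) hR
      · -- a nontrivial block
        obtain ⟨B, hB, hBt⟩ : ∃ B : Set α, IsBlock R B ∧ ¬ IsTrivialBlock B := by
          by_contra hcon
          push Not at hcon
          exact hp ⟨fun {B} hB => hcon B hB⟩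
        rw [IsTrivialBlock, not_or] at hBt
        obtain ⟨hBs, hBu⟩ := hBt
        rw [Set.not_subsingleton_iff] at hBs
        obtain ⟨b₁, hb₁, b₂, hb₂, hb⟩ := hBs
        let r : Setoid α :=
          { r := fun x y => ∃ g : R, x ∈ g • B ∧ y ∈ g • B
            iseqv :=
              { refl := fun x => by
                  obtain ⟨g, hg⟩ := htr.exists_smul_eq b₁ x
                  exact ⟨g, ⟨b₁, hb₁, hg⟩, ⟨b₁, hb₁, hg⟩⟩
                symm := fun ⟨g, hx, hy⟩ => ⟨g, hy, hx⟩
                trans := by
                  rintro x y z ⟨g, hx, hy⟩ ⟨g', hy', hz⟩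
                  refine ⟨g, hx, ?_⟩
                  rw [hB.smul_eq_smul_of_nonempty ⟨y, hy, hy'⟩]
                  exact hz } }
        have hinv : ∀ (g : R) (x y : α), r x y ↔ r (g • x) (g • y) := by
          intro g x y
          constructor
          · rintro ⟨h, hx, hy⟩
            refine ⟨g * h, ?_, ?_⟩
            · rw [mul_smul]
              exact Set.smul_mem_smul_set hx
            · rw [mul_smul]
              exact Set.smul_mem_smul_set hy
          · rintro ⟨h, hx, hy⟩
            refine ⟨g⁻¹ * h, ?_, ?_⟩
            · rw [mul_smul, Set.mem_inv_smul_set_iff]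
              exact hx
            · rw [mul_smul, Set.mem_inv_smul_set_iff]
              exact hy
        let ρ : R →* Equiv.Perm (Quotient r) :=
          { toFun := fun g => Quotient.congr (g : Equiv.Perm α) (fun x y => hinv g x y)
            map_one' := by
              apply Equiv.ext
              rintro ⟨x⟩
              rfl
            map_mul' := by
              intro g h
              apply Equiv.ext
              rintro ⟨x⟩
              rfl }
        have hρ : ∀ (g : R) (x : α), ρ g (Quotient.mk r x) = Quotient.mk r ((g : Equiv.Perm α) x) :=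
          fun g x => rfl
        have hfin : Finite (Quotient r) := Quotient.finite r
        have hnq : Nonempty (Quotient r) := ⟨Quotient.mk r b₁⟩
        -- all fibres have the same size
        have hfibeq : ∀ i : Quotient r, Nat.card {a // Quotient.mk r a = i} =
            Nat.card {a // Quotient.mk r a = Quotient.mk r b₁} := by
          intro i
          obtain ⟨x, rfl⟩ := Quotient.mk_surjective i
          obtain ⟨g, hg⟩ := htr.exists_smul_eq b₁ x
          symm
          refine Nat.card_congr (Equiv.subtypeEquiv (g : Equiv.Perm α) ?_)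
          intro a
          constructor
          · intro h
            apply Quotient.sound
            have := (hinv g a b₁).mp (Quotient.exact h)
            rw [hg] at this
            exact this
          · intro h
            apply Quotient.sound
            refine (hinv g a b₁).mpr ?_
            rw [hg]
            exact Quotient.exact h
        have hcard : Nat.card α = Nat.card {a // Quotient.mk r a = Quotient.mk r b₁} *
            Nat.card (Quotient r) := by
          have e := Equiv.sigmaFiberEquiv (Quotient.mk r)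
          rw [← Nat.card_congr e]
          have := Fintype.ofFinite (Quotient r)
          rw [Nat.card_sigma, Finset.sum_congr rfl (fun i _ => hfibeq i), Finset.sum_const,
            Finset.card_univ, Nat.card_eq_fintype_card (α := Quotient r), smul_eq_mul, mul_comm]
        have hq2 : 2 ≤ Nat.card (Quotient r) := by
          by_contra hlt
          have h3 : Subsingleton (Quotient r) := by
            rw [← Finite.card_le_one_iff_subsingleton]
            omega
          apply hBu
          rw [Set.eq_univ_iff_forall]
          intro x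
          have h4 : Quotient.mk r b₁ = Quotient.mk r x := Subsingleton.elim _ _
          obtain ⟨g, hg1, hg2⟩ := Quotient.exact h4
          have h5 : g • B = (1 : R) • B :=
            hB.smul_eq_smul_of_nonempty ⟨b₁, hg1, by rw [one_smul]; exact hb₁⟩
          rw [h5, one_smul] at hg2
          exact hg2
        have hf2 : 2 ≤ Nat.card {a // Quotient.mk r a = Quotient.mk r b₁} := by
          have h6 : Quotient.mk r b₂ = Quotient.mk r b₁ :=
            Quotient.sound ⟨1, by rw [one_smul]; exact hb₂, by rw [one_smul]; exact hb₁⟩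
          have : Nontrivial {a // Quotient.mk r a = Quotient.mk r b₁} :=
            ⟨⟨b₁, rfl⟩, ⟨b₂, h6⟩, fun h => hb (congrArg Subtype.val h)⟩
          exact Finite.one_lt_card_iff_nontrivial.mpr this
        have hm1 : Nat.card (Quotient r) ≤ m := by nlinarith
        have hm2 : Nat.card {a // Quotient.mk r a = Quotient.mk r b₁} ≤ m := by nlinarith
        have hk2 : Nat.card (ConjClasses ρ.range) ≤ f (Nat.card (Quotient r)) :=
          ih.range _ hnq hm1 hR ρ
        have hk1 : Nat.card (ConjClasses ρ.ker) ≤
            f (Nat.card {a // Quotient.mk r a = Quotient.mk r b₁}) ^ Nat.card (Quotient r) := by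
          refine (fibre_bound ih _ (R.subtype.comp ρ.ker.subtype)
            (R.subtype_injective.comp ρ.ker.subtype_injective) (Quotient.mk r)
            Quotient.mk_surjective ?_ ?_ ?_ rfl).trans ?_
          · intro g a
            have h2 : ρ g = 1 := g.2
            have h3 := hρ g a
            rw [h2] at h3
            exact h3.symm
          · intro i
            rw [hfibeq]
            exact hm2
          · intro hs
            have := hR hs
            exact Group.isSolvable_of_isSolvable_injective ρ.ker.subtype_injective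
          · have := Fintype.ofFinite (Quotient r)
            rw [finprod_eq_prod_of_fintype, Finset.prod_congr rfl (fun i _ => by rw [hfibeq i]),
              Finset.prod_const, Finset.card_univ, Nat.card_eq_fintype_card (α := Quotient r)]
        refine (KClass.le_ker_mul_range ρ).trans ((Nat.mul_le_mul hk1 hk2).trans ?_)
        rw [hcard]
        exact hmul _ _ hf2 hq2 (by rw [← hcard]; omega)
    · -- intransitive: the orbits
      let r : Setoid α := orbitRel R α
      have hfin : Finite (Quotient r) := Quotient.finite r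
      have hnq : Nonempty (Quotient r) := by
        obtain ⟨a⟩ := hne
        exact ⟨Quotient.mk r a⟩
      have hk : Nat.card (ConjClasses R) ≤
          ∏ᶠ i : Quotient r, f (Nat.card {a // Quotient.mk r a = i}) := by
        refine fibre_bound ih _ R.subtype R.subtype_injective (Quotient.mk r)
            Quotient.mk_surjective ?_ ?_ hR rfl
        · intro g a
          apply Quotient.sound
          exact ⟨g, rfl⟩
        · intro i
          obtain ⟨a, rfl⟩ := Quotient.mk_surjective i
          have : ∃ x, ¬ (Quotient.mk r x = Quotient.mk r a) := by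
            by_contra hcon
            push Not at hcon
            apply htr
            refine ⟨fun x y => ?_⟩
            have h4 : Quotient.mk r y = Quotient.mk r x := (hcon y).trans (hcon x).symm
            obtain ⟨g, hg⟩ := Quotient.exact h4
            exact ⟨g, hg⟩
          obtain ⟨x, hx⟩ := this
          have := Finite.card_subtype_lt (p := fun y => Quotient.mk r y = Quotient.mk r a) hx
          omega
      refine hk.trans ?_
      have := Fintype.ofFinite (Quotient r)
      have hcard : ∑ i : Quotient r, Nat.card {a // Quotient.mk r a = i} = Nat.card α := by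
        rw [← Nat.card_sigma]
        exact Nat.card_congr (Equiv.sigmaFiberEquiv (Quotient.mk r))
      rw [finprod_eq_prod_of_fintype]
      have h5 := prod_le hsum (Finset.univ : Finset (Quotient r)) Finset.univ_nonempty
        (fun i => Nat.card {a // Quotient.mk r a = i}) (fun i => by
          obtain ⟨a, rfl⟩ := Quotient.mk_surjective i
          have : Nonempty {x // Quotient.mk r x = Quotient.mk r a} := ⟨⟨a, rfl⟩⟩
          exact Nat.card_pos) (by rw [hcard]; omega)
      rw [hcard] at h5
      exact h5

end Cfsg.Agent.H553.PermF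
end

-- part: H553/FiveEight
section
/-!
# The 5/8 theorem

`five_eight`: a finite non-abelian group `G` has `8 k(G) ≤ 5 |G|`.
-/

set_option autoImplicit false

namespace Cfsg.Agent.H553.FiveEight

open Subgroup

/-- The centre of a non-abelian group has index at least 4. -/
theorem four_mul_card_center_le {G : Type*} [Group G] [Finite G] (h : ¬ IsMulCommutative G) :
    4 * Nat.card (center G) ≤ Nat.card G := by
  have h1 : 4 ≤ (center G).index := by
    by_contra hlt
    push Not at hlt
    apply h
    have hcyc : IsCyclic (G ⧸ center G) := by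
      have hidx : Nat.card (G ⧸ center G) = (center G).index := rfl
      have hpos : 0 < Nat.card (G ⧸ center G) := Nat.card_pos
      have h3 : Nat.card (G ⧸ center G) = 1 ∨ Nat.card (G ⧸ center G) = 2 ∨
          Nat.card (G ⧸ center G) = 3 := by omega
      rcases h3 with h3 | h3 | h3
      · have : Subsingleton (G ⧸ center G) := (Nat.card_eq_one_iff_unique.mp h3).1
        infer_instance
      · have : Fact (Nat.Prime 2) := ⟨Nat.prime_two⟩
        exact isCyclic_of_prime_card h3
      · have : Fact (Nat.Prime 3) := ⟨Nat.prime_three⟩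
        exact isCyclic_of_prime_card h3
    exact MonoidHom.isMulCommutative_of_isCyclic_of_ker_le_center (QuotientGroup.mk' (center G))
      (by rw [QuotientGroup.ker_mk'])
  calc 4 * Nat.card (center G) ≤ (center G).index * Nat.card (center G) :=
        Nat.mul_le_mul_right _ h1
    _ = Nat.card G := by rw [mul_comm, Subgroup.card_mul_index]

/-- **The 5/8 theorem.** -/
theorem five_eight {G : Type*} [Group G] [Finite G] (h : ¬ IsMulCommutative G) :
    8 * Nat.card (ConjClasses G) ≤ 5 * Nat.card G := by
  classical
  have := Fintype.ofFinite G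
  have h1 := card_comm_eq_card_conjClasses_mul_card G
  have h2 : Nat.card {p : G × G // Commute p.1 p.2} =
      ∑ x : G, Nat.card (centralizer ({x} : Set G)) := by
    rw [← Nat.card_sigma]
    refine Nat.card_congr ⟨fun p => ⟨p.1.1, ⟨p.1.2, ?_⟩⟩, fun q => ⟨(q.1, q.2.1), ?_⟩, ?_, ?_⟩
    · rw [mem_centralizer_singleton_iff]
      exact p.2.symm
    · have := q.2.2
      rw [mem_centralizer_singleton_iff] at this
      exact (show Commute q.2.1 q.1 from this).symm
    · intro p
      rfl
    · intro q
      rfl
  have h3 : ∀ x : G, 2 * Nat.card (centralizer ({x} : Set G)) ≤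
      Nat.card G + if x ∈ center G then Nat.card G else 0 := by
    intro x
    split_ifs with hx
    · have := Subgroup.card_le_card_group (centralizer ({x} : Set G))
      omega
    · have hne : centralizer ({x} : Set G) ≠ ⊤ := by
        intro htop
        apply hx
        rw [mem_center_iff]
        intro g
        have : g ∈ centralizer ({x} : Set G) := by rw [htop]; trivial
        rw [mem_centralizer_singleton_iff] at this
        exact this
      have h4 : 2 ≤ (centralizer ({x} : Set G)).index := by
        have h5 : (centralizer ({x} : Set G)).index ≠ 1 := fun h => hne (index_eq_one.mp h)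
        have h6 : (centralizer ({x} : Set G)).index ≠ 0 := index_ne_zero_of_finite
        omega
      have h7 := Subgroup.card_mul_index (centralizer ({x} : Set G))
      have h8 := Nat.mul_le_mul_left (Nat.card (centralizer ({x} : Set G))) h4
      omega
  have h9 : 2 * ∑ x : G, Nat.card (centralizer ({x} : Set G)) ≤
      Nat.card G * Nat.card G + Nat.card (center G) * Nat.card G := by
    rw [Finset.mul_sum]
    refine (Finset.sum_le_sum fun x _ => h3 x).trans ?_
    rw [Finset.sum_add_distrib, Finset.sum_const, Finset.card_univ, smul_eq_mul,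
      ← Nat.card_eq_fintype_card, ← Finset.sum_filter, Finset.sum_const, smul_eq_mul]
    apply Nat.add_le_add_left
    apply Nat.mul_le_mul_right
    rw [Nat.card_eq_fintype_card, Fintype.card_subtype]
  have h10 := four_mul_card_center_le h
  have h11 : 0 < Nat.card G := Nat.card_pos
  have h12 : (8 * Nat.card (ConjClasses G)) * Nat.card G ≤ (5 * Nat.card G) * Nat.card G := by
    have h13 := Nat.mul_le_mul_right (Nat.card G) h10
    nlinarith
  exact Nat.le_of_mul_le_mul_right h12 h11

end Cfsg.Agent.H553.FiveEight
end

-- part: H553/SubB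
section
/-!
# Bounding the number of conjugacy classes of all subgroups

* `SubB Γ b` : every subgroup of `Γ` has at most `b` conjugacy classes.
* `NB G b` : some nilpotent normal subgroup `N` of `G` has `SubB (G ⧸ N) b`; then
  `SubB (G ⧸ F(G)) b` (`NB.fitting`).
* behaviour under injective maps, quotients, normal subgroups, finite families of homomorphisms.
-/

set_option autoImplicit false

namespace Cfsg.Agent.H553.SB

open Subgroup

/-- Every subgroup of `Γ` has at most `b` conjugacy classes. -/
def SubB (Γ : Type*) [Group Γ] (b : ℕ) : Prop :=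
  ∀ X : Subgroup Γ, Nat.card (ConjClasses X) ≤ b

theorem SubB.mono {Γ : Type*} [Group Γ] {b c : ℕ} (h : SubB Γ b) (hbc : b ≤ c) : SubB Γ c :=
  fun X => (h X).trans hbc

theorem SubB.of_card {Γ : Type*} [Group Γ] [Finite Γ] {b : ℕ} (h : Nat.card Γ ≤ b) : SubB Γ b :=
  fun X => KClass.le_card.trans ((Subgroup.card_le_card_group X).trans h)

theorem SubB.one_le {Γ : Type*} [Group Γ] {b : ℕ} (h : SubB Γ b) : 1 ≤ b := by
  have h1 := h ⊥
  rwa [KClass.eq_one_of_subsingleton] at h1

theorem SubB.of_injective {Γ Δ : Type*} [Group Γ] [Group Δ] {b : ℕ} (f : Γ →* Δ)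
    (hf : Function.Injective f) (h : SubB Δ b) : SubB Γ b := by
  intro X
  rw [KClass.congr (X.equivMapOfInjective f hf)]
  exact h _

theorem SubB.congr {Γ Δ : Type*} [Group Γ] [Group Δ] {b : ℕ} (e : Γ ≃* Δ) (h : SubB Δ b) :
    SubB Γ b := SubB.of_injective e.toMonoidHom e.injective h

theorem SubB.of_surjective {Γ Δ : Type*} [Group Γ] [Group Δ] [Finite Γ] {b : ℕ} (f : Γ →* Δ)
    (hf : Function.Surjective f) (h : SubB Γ b) : SubB Δ b := by
  intro X
  refine (KClass.le_of_surjective (f.subgroupComap X) ?_).trans (h (X.comap f))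
  rintro ⟨x, hx⟩
  obtain ⟨y, rfl⟩ := hf x
  exact ⟨⟨y, hx⟩, rfl⟩

/-- If the kernel and the image are bounded, so is the group. -/
theorem SubB.of_hom {Γ Δ : Type*} [Group Γ] [Group Δ] [Finite Γ] {b c : ℕ} (f : Γ →* Δ)
    (h1 : SubB f.ker b) (h2 : SubB f.range c) : SubB Γ (b * c) := by
  intro X
  refine (KClass.le_ker_mul_range (f.comp X.subtype)).trans (Nat.mul_le_mul ?_ ?_)
  · -- the kernel embeds in `f.ker`
    let j : (f.comp X.subtype).ker →* f.ker :=
      { toFun := fun x => ⟨((x : X) : Γ), x.2⟩
        map_one' := rfl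
        map_mul' := fun _ _ => rfl }
    have hj : Function.Injective j := by
      intro x y hxy
      apply Subtype.ext
      apply Subtype.ext
      exact congrArg (fun z : f.ker => (z : Γ)) hxy
    have h3 := SubB.of_injective j hj h1 ⊤
    rwa [KClass.congr (Subgroup.topEquiv (G := (f.comp X.subtype).ker))] at h3
  · have hle : (f.comp X.subtype).range ≤ f.range := by
      rintro _ ⟨x, rfl⟩
      exact ⟨_, rfl⟩
    have h3 := SubB.of_injective (Subgroup.inclusion hle) (Subgroup.inclusion_injective hle) h2 ⊤
    rwa [KClass.congr (Subgroup.topEquiv (G := (f.comp X.subtype).range))] at h3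

/-- The same for a homomorphism into a bounded group. -/
theorem SubB.of_hom' {Γ Δ : Type*} [Group Γ] [Group Δ] [Finite Γ] {b c : ℕ} (f : Γ →* Δ)
    (h1 : SubB f.ker b) (h2 : SubB Δ c) : SubB Γ (b * c) :=
  SubB.of_hom f h1 (SubB.of_injective f.range.subtype f.range.subtype_injective h2)

theorem SubB.of_normal {Γ : Type*} [Group Γ] [Finite Γ] {b c : ℕ} (N : Subgroup Γ) [N.Normal]
    (h1 : SubB N b) (h2 : SubB (Γ ⧸ N) c) : SubB Γ (b * c) := by
  refine SubB.of_hom' (QuotientGroup.mk' N) ?_ h2
  rw [QuotientGroup.ker_mk']
  exact h1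

/-- `Γ / (A ∩ B)` is bounded if `Γ / A` and `Γ / B` are. -/
theorem SubB.inf {Γ : Type*} [Group Γ] [Finite Γ] {b c : ℕ} (A B C : Subgroup Γ) [A.Normal]
    [B.Normal] [C.Normal] (hC : A ⊓ B ≤ C) (h1 : SubB (Γ ⧸ A) b) (h2 : SubB (Γ ⧸ B) c) :
    SubB (Γ ⧸ C) (b * c) := by
  -- `Γ ⧸ (A ⊓ B)` embeds in the product
  have key : SubB (Γ ⧸ (A ⊓ B)) (b * c) := by
    let f : Γ ⧸ (A ⊓ B) →* Γ ⧸ B :=
      QuotientGroup.map (A ⊓ B) B (MonoidHom.id Γ) (fun x hx => hx.2)
    refine SubB.of_hom' f ?_ h2
    let g : f.ker →* Γ ⧸ A :=
      (QuotientGroup.map (A ⊓ B) A (MonoidHom.id Γ) (fun x hx => hx.1)).comp f.ker.subtype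
    refine SubB.of_injective g ?_ h1
    rw [injective_iff_map_eq_one]
    rintro ⟨x, hx⟩ hgx
    obtain ⟨y, rfl⟩ := QuotientGroup.mk_surjective x
    apply Subtype.ext
    change (QuotientGroup.mk y : Γ ⧸ (A ⊓ B)) = 1
    rw [QuotientGroup.eq_one_iff]
    refine ⟨?_, ?_⟩
    · have h3 : (QuotientGroup.mk y : Γ ⧸ A) = 1 := hgx
      exact (QuotientGroup.eq_one_iff y).mp h3
    · have h3 : (QuotientGroup.mk y : Γ ⧸ B) = 1 := hx
      exact (QuotientGroup.eq_one_iff y).mp h3
  refine SubB.of_surjective (QuotientGroup.map (A ⊓ B) C (MonoidHom.id Γ) hC) ?_ key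
  intro x
  obtain ⟨y, rfl⟩ := QuotientGroup.mk_surjective x
  exact ⟨QuotientGroup.mk y, rfl⟩

theorem SubB.quotient_congr {Γ : Type*} [Group Γ] {b : ℕ} {A B : Subgroup Γ} [A.Normal]
    [B.Normal] (hAB : A = B) (h : SubB (Γ ⧸ A) b) : SubB (Γ ⧸ B) b := by
  subst hAB
  exact h

/-- Some nilpotent normal subgroup `N` has `SubB (G ⧸ N) b`. -/
def NB (G : Type*) [Group G] (b : ℕ) : Prop :=
  ∃ (N : Subgroup G) (_ : N.Normal), Group.IsNilpotent N ∧ SubB (G ⧸ N) b

theorem NB.mono {G : Type*} [Group G] {b c : ℕ} (h : NB G b) (hbc : b ≤ c) : NB G c := by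
  obtain ⟨N, hN, h1, h2⟩ := h
  exact ⟨N, hN, h1, h2.mono hbc⟩

theorem NB.fitting {G : Type*} [Group G] [Finite G] {b : ℕ} (h : NB G b)
    [(fittingSubgroup G).Normal] : SubB (G ⧸ fittingSubgroup G) b := by
  obtain ⟨N, hN, h1, h2⟩ := h
  have hle : N ≤ fittingSubgroup G := Lib.Cores.le_fittingSubgroup hN h1
  refine SubB.of_surjective (QuotientGroup.map N (fittingSubgroup G) (MonoidHom.id G) hle) ?_ h2
  intro x
  obtain ⟨y, rfl⟩ := QuotientGroup.mk_surjective x
  exact ⟨QuotientGroup.mk y, rfl⟩

/-- Normal subgroups: `NB K b` and `SubB (G ⧸ K) c` give `NB G (b * c)`. -/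
theorem NB.of_normal {G : Type*} [Group G] [Finite G] {b c : ℕ} (K : Subgroup G) [hK : K.Normal]
    (h1 : NB K b) (h2 : SubB (G ⧸ K) c) : NB G (b * c) := by
  have hchar : (fittingSubgroup K).Characteristic := Lib.Cores.fittingSubgroup_characteristic
  have hFn : (fittingSubgroup K).Normal := Lib.Cores.fittingSubgroup_normal
  have h3 := h1.fitting
  set F : Subgroup G := (fittingSubgroup K).map K.subtype with hF
  have hFnorm : F.Normal := inferInstance
  have hFK : F ≤ K := Subgroup.map_subtype_le _
  refine ⟨F, hFnorm, ?_, ?_⟩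
  · have : Group.IsNilpotent (fittingSubgroup K) := Lib.Cores.fittingSubgroup_isNilpotent
    exact Group.nilpotent_of_mulEquiv
      ((fittingSubgroup K).equivMapOfInjective K.subtype K.subtype_injective)
  · let f : G ⧸ F →* G ⧸ K := QuotientGroup.map F K (MonoidHom.id G) hFK
    refine SubB.of_hom' f ?_ h2
    -- `K ⧸ F(K)` maps onto the kernel
    let g₀ : K →* f.ker :=
      { toFun := fun k => ⟨QuotientGroup.mk (k : G), by
          change (QuotientGroup.mk (k : G) : G ⧸ K) = 1
          rw [QuotientGroup.eq_one_iff]
          exact k.2⟩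
        map_one' := rfl
        map_mul' := fun _ _ => rfl }
    have hg₀ : Function.Surjective g₀ := by
      rintro ⟨x, hx⟩
      obtain ⟨y, rfl⟩ := QuotientGroup.mk_surjective x
      have h4 : (QuotientGroup.mk y : G ⧸ K) = 1 := hx
      exact ⟨⟨y, (QuotientGroup.eq_one_iff y).mp h4⟩, rfl⟩
    have hker : fittingSubgroup K ≤ g₀.ker := by
      intro k hk
      apply Subtype.ext
      change (QuotientGroup.mk (k : G) : G ⧸ F) = 1
      rw [QuotientGroup.eq_one_iff]
      exact ⟨k, hk, rfl⟩
    refine SubB.of_surjective (QuotientGroup.lift (fittingSubgroup K) g₀ hker) ?_ h3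
    intro x
    obtain ⟨k, rfl⟩ := hg₀ x
    exact ⟨QuotientGroup.mk k, rfl⟩

/-- A finite family of homomorphisms with trivial common kernel. -/
theorem NB.pi {G ι : Type*} [Group G] [Finite G] [Finite ι] {H : ι → Type*}
    [∀ i, Group (H i)] (b : ι → ℕ) (f : ∀ i, G →* H i)
    (hf : ∀ x : G, (∀ i, f i x = 1) → x = 1) (h : ∀ i, NB (H i) (b i)) :
    NB G (∏ᶠ i, b i) := by
  classical
  have := Fintype.ofFinite ι
  choose N hN hNn hNB using h
  have hNc : ∀ i, ((N i).comap (f i)).Normal := fun i => (hN i).comap (f i)
  have key : ∀ s : Finset ι, ∃ (C : Subgroup G) (_ : C.Normal),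
      (∀ x, x ∈ C ↔ ∀ i ∈ s, f i x ∈ N i) ∧ SubB (G ⧸ C) (∏ i ∈ s, b i) := by
    intro s
    induction s using Finset.induction_on with
    | empty =>
      refine ⟨⊤, inferInstance, by simp, ?_⟩
      refine SubB.of_card ?_
      simp
    | insert i s hi ih =>
      obtain ⟨C, hC, hC1, hC2⟩ := ih
      refine ⟨(N i).comap (f i) ⊓ C, inferInstance, ?_, ?_⟩
      · intro x
        rw [Subgroup.mem_inf, Subgroup.mem_comap, hC1]
        simp
      · rw [Finset.prod_insert hi]
        refine SubB.inf ((N i).comap (f i)) C _ le_rfl ?_ hC2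
        refine SubB.of_injective
          (QuotientGroup.map ((N i).comap (f i)) (N i) (f i) le_rfl) ?_ (hNB i)
        rw [injective_iff_map_eq_one]
        intro x hx
        obtain ⟨y, rfl⟩ := QuotientGroup.mk_surjective x
        have h4 : (QuotientGroup.mk (f i y) : H i ⧸ N i) = 1 := hx
        rw [QuotientGroup.eq_one_iff]
        change f i y ∈ N i
        exact (QuotientGroup.eq_one_iff (f i y)).mp h4
  obtain ⟨C, hC, hC1, hC2⟩ := key Finset.univ
  refine ⟨C, hC, ?_, ?_⟩
  · let g : C →* (∀ i, N i) :=
      { toFun := fun x i => ⟨f i x, (hC1 x).mp x.2 i (Finset.mem_univ i)⟩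
        map_one' := by
          funext i
          exact Subtype.ext (map_one (f i))
        map_mul' := fun x y => by
          funext i
          exact Subtype.ext (map_mul (f i) _ _) }
    have hg : Function.Injective g := by
      rw [injective_iff_map_eq_one]
      intro x hx
      apply Subtype.ext
      apply hf
      intro i
      exact congrArg Subtype.val (congrFun hx i)
    have : Group.IsNilpotent (∀ i, N i) := inferInstance
    exact Group.nilpotent_of_mulEquiv (MonoidHom.ofInjective hg).symm
  · rw [finprod_eq_prod_of_fintype]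
    exact hC2

end Cfsg.Agent.H553.SB
end

-- part: H553/SolvPerm
section
/-!
# Solvable permutation groups: order of primitive ones, number of classes

* `card_le_descFactorial`: a solvable primitive permutation group of degree `n = p ^ d` has order
  at most `n (n - 1) ⋯ (n - d)`.
* `bd_three`: a solvable permutation group of degree `n ≥ 1` has at most `3 ^ (n - 1)` classes.
* `six`: a solvable permutation group of degree 6 has at most 24 classes.
-/

set_option autoImplicit false

namespace Cfsg.Agent.H553.SolvPerm

open MulAction Subgroup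

/-- An irredundant set of elements of a `p`-group. -/
theorem pow_card_le_card_closure {M : Type*} [Group M] [Finite M] {p : ℕ} [Fact p.Prime]
    (hM : IsPGroup p M) (S : Finset M)
    (hS : ∀ s ∈ S, s ∉ closure ((S : Set M) \ {s})) (T : Finset M) (hT : T ⊆ S) :
    p ^ T.card ≤ Nat.card (closure (T : Set M)) := by
  classical
  induction T using Finset.induction_on with
  | empty =>
    rw [Finset.card_empty, pow_zero]
    exact Nat.card_pos
  | insert s T hs ih =>
    have hTS : T ⊆ S := fun x hx => hT (Finset.mem_insert_of_mem hx)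
    have h1 := ih hTS
    have h2 : closure (T : Set M) < closure ((insert s T : Finset M) : Set M) := by
      refine lt_of_le_of_ne (closure_mono (by simp)) (fun h => ?_)
      apply hS s (hT (Finset.mem_insert_self s T))
      have h3 : s ∈ closure ((insert s T : Finset M) : Set M) :=
        subset_closure (by simp)
      rw [← h] at h3
      refine closure_mono ?_ h3
      intro x hx
      refine ⟨hTS hx, ?_⟩
      rintro rfl
      exact hs hx
    rw [Finset.card_insert_of_notMem hs, pow_succ]
    obtain ⟨a, ha⟩ := IsPGroup.iff_card.mp (hM.to_subgroup (closure (T : Set M)))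
    obtain ⟨b, hb⟩ := IsPGroup.iff_card.mp (hM.to_subgroup
      (closure ((insert s T : Finset M) : Set M)))
    have h4 : Nat.card (closure (T : Set M)) <
        Nat.card (closure ((insert s T : Finset M) : Set M)) := by
      have := Subgroup.card_le_of_le h2.le
      refine lt_of_le_of_ne this (fun h => ?_)
      exact h2.ne (Subgroup.eq_of_le_of_card_ge h2.le h.ge)
    rw [ha, hb] at h4
    have h5 : a < b := (Nat.pow_lt_pow_iff_right (Fact.out : p.Prime).one_lt).mp h4
    rw [hb]
    rw [ha] at h1
    calc p ^ T.card * p ≤ p ^ a * p := Nat.mul_le_mul_right _ h1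
      _ = p ^ (a + 1) := (pow_succ _ _).symm
      _ ≤ p ^ b := Nat.pow_le_pow_right (Fact.out : p.Prime).pos h5

/-- A group of order `p ^ d` is generated by at most `d` elements different from `1`. -/
theorem exists_generators {M : Type*} [Group M] [Finite M] {p d : ℕ} (hp : p.Prime)
    (hM : Nat.card M = p ^ d) :
    ∃ S : Finset M, closure (S : Set M) = ⊤ ∧ S.card ≤ d ∧ (1 : M) ∉ S := by
  classical
  have : Fact p.Prime := ⟨hp⟩
  have := Fintype.ofFinite M
  have hMp : IsPGroup p M := IsPGroup.of_card hM
  -- a generating set with the least number of elements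
  have hex : ∃ n, ∃ S : Finset M, closure (S : Set M) = ⊤ ∧ S.card = n :=
    ⟨_, Finset.univ, by simp, rfl⟩
  obtain ⟨S, hS1, hS2⟩ := Nat.find_spec hex
  have hmin : ∀ T : Finset M, closure (T : Set M) = ⊤ → S.card ≤ T.card := by
    intro T hT
    rw [hS2]
    exact Nat.find_min' hex ⟨T, hT, rfl⟩
  have hirr : ∀ s ∈ S, s ∉ closure ((S : Set M) \ {s}) := by
    intro s hs hmem
    have h1 : closure ((S.erase s : Finset M) : Set M) = ⊤ := by
      rw [eq_top_iff, ← hS1, closure_le]
      intro x hx
      by_cases hxs : x = s
      · rw [hxs, Finset.coe_erase]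
        exact hmem
      · refine subset_closure ?_
        rw [Finset.coe_erase]
        exact ⟨hx, hxs⟩
    have h2 := hmin _ h1
    rw [Finset.card_erase_of_mem hs] at h2
    have h3 : 0 < S.card := Finset.card_pos.mpr ⟨s, hs⟩
    omega
  refine ⟨S, hS1, ?_, ?_⟩
  · have h1 := pow_card_le_card_closure hMp S hirr S (Finset.Subset.refl S)
    rw [hS1] at h1
    have h2 : Nat.card (⊤ : Subgroup M) = p ^ d := by
      rw [Subgroup.card_top, hM]
    rw [h2] at h1
    exact (Nat.pow_le_pow_iff_right hp.one_lt).mp h1
  · intro h1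
    exact hirr 1 h1 (one_mem _)

/-- **The order of a solvable primitive permutation group.** -/
theorem card_le_descFactorial {α : Type*} [Finite α] (R : Subgroup (Equiv.Perm α))
    [hs : Group.IsSolvable R] (hR : IsPreprimitive R α) (h2 : 2 ≤ Nat.card α) :
    ∃ p d : ℕ, p.Prime ∧ 0 < d ∧ Nat.card α = p ^ d ∧
      Nat.card R ≤ (Nat.card α).descFactorial (d + 1) := by
  classical
  have := Fintype.ofFinite α
  have hne : Nonempty α := (Nat.card_pos_iff.mp (by omega)).1
  have hRne : (⊤ : Subgroup R) ≠ ⊥ := by
    intro h
    have hsub : Subsingleton R := by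
      rw [subsingleton_iff_forall_eq (1 : R)]
      intro x
      have : x ∈ (⊤ : Subgroup R) := trivial
      rw [h] at this
      exact this
    have htr := hR.toIsPretransitive
    have hsa : Subsingleton α := by
      constructor
      intro a b
      obtain ⟨g, hg⟩ := htr.exists_smul_eq a b
      have : g = 1 := Subsingleton.elim _ _
      rw [this, one_smul] at hg
      exact hg
    rw [Finite.card_le_one_iff_subsingleton.mpr hsa |>.antisymm (by omega)] at h2
    omega
  -- a minimal normal subgroup
  obtain ⟨M, hM⟩ := (Set.toFinite {N : Subgroup R | N.Normal ∧ N ≠ ⊥}).exists_minimal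
    ⟨⊤, inferInstance, hRne⟩
  have hMn : M.Normal := hM.prop.1
  have hM1 : M ≠ ⊥ := hM.prop.2
  have hmin : ∀ K : Subgroup R, K.Normal → K ≤ M → K = ⊥ ∨ K = M := by
    intro K hK hKM
    by_cases hK1 : K = ⊥
    · exact Or.inl hK1
    · exact Or.inr (le_antisymm hKM (hM.le_of_le ⟨hK, hK1⟩ hKM))
  obtain ⟨htr, hst, p, d, hp, hd, hα, hMc⟩ := S0547.result hR M hM1 hmin
  refine ⟨p, d, hp, hd, hα, ?_⟩
  obtain ⟨S, hS1, hS2, hS3⟩ := exists_generators hp hMc
  obtain ⟨ω⟩ := hne
  -- `m ↦ m • ω` is injective on `M`
  have hinj : ∀ m m' : M, m • ω = m' • ω → m = m' := by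
    intro m m' h
    have h3 : m'⁻¹ * m ∈ stabilizer M ω := by
      rw [mem_stabilizer_iff, mul_smul, h, inv_smul_smul]
    rw [hst ω, Subgroup.mem_bot] at h3
    exact (inv_mul_eq_one.mp h3).symm
  let T : Finset M := insert 1 S
  have hTc : T.card = S.card + 1 := Finset.card_insert_of_notMem hS3
  let F : R → (T ↪ α) := fun g => ⟨fun m => g • ((m : M) • ω), by
    intro m m' h
    exact Subtype.ext (hinj _ _ (smul_left_cancel g h))⟩
  have hF : Function.Injective F := by
    intro g h hgh
    have h3 : ∀ m : M, m ∈ T → (h⁻¹ * g) • (m • ω) = m • ω := by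
      intro m hm
      have h4 : g • (m • ω) = h • (m • ω) :=
        congrArg (fun e : T ↪ α => e ⟨m, hm⟩) hgh
      rw [mul_smul, h4, inv_smul_smul]
    set x := h⁻¹ * g with hx
    have hω : x • ω = ω := by
      have := h3 1 (Finset.mem_insert_self _ _)
      rwa [one_smul] at this
    have hcomm : ∀ m : M, x * m * x⁻¹ = (m : R) := by
      have hle : (⊤ : Subgroup M) ≤ {
          carrier := {m : M | x * m * x⁻¹ = (m : R)}
          one_mem' := by simp
          mul_mem' := by
            intro a b ha hb
            simp only [Set.mem_ofPred_eq] at ha hb ⊢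
            calc x * ((a * b : M) : R) * x⁻¹ = (x * a * x⁻¹) * (x * b * x⁻¹) := by
                  simp only [Subgroup.coe_mul]; group
              _ = ((a * b : M) : R) := by rw [ha, hb]; rfl
          inv_mem' := by
            intro a ha
            simp only [Set.mem_ofPred_eq] at ha ⊢
            calc x * ((a⁻¹ : M) : R) * x⁻¹ = (x * a * x⁻¹)⁻¹ := by
                  simp only [Subgroup.coe_inv]; group
              _ = ((a⁻¹ : M) : R) := by rw [ha]; rfl : Subgroup M } := by
        rw [← hS1, closure_le]
        intro s hs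
        change x * s * x⁻¹ = (s : R)
        have h5 := h3 s (Finset.mem_insert_of_mem hs)
        have h6 : (⟨x * s * x⁻¹, hMn.conj_mem _ s.2 x⟩ : M) • ω = s • ω := by
          have h7 : x⁻¹ • ω = ω := by rw [inv_smul_eq_iff, hω]
          calc (⟨x * s * x⁻¹, hMn.conj_mem _ s.2 x⟩ : M) • ω = (x * s * x⁻¹) • ω := rfl
            _ = x • ((s : R) • (x⁻¹ • ω)) := by rw [mul_smul, mul_smul]
            _ = s • ω := by rw [h7]; exact h5
        exact congrArg Subtype.val (hinj _ _ h6)
      intro m
      exact hle (Subgroup.mem_top m)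
    have hx1 : x = 1 := by
      apply Subtype.ext
      apply Equiv.ext
      intro a
      obtain ⟨m, hm⟩ := htr.exists_smul_eq ω a
      have h8 : x • a = a := by
        rw [← hm]
        calc x • (m • ω) = (x * m) • ω := (mul_smul x (m : R) ω).symm
          _ = ((x * m * x⁻¹) * x) • ω := by group
          _ = m • (x • ω) := by rw [hcomm m, mul_smul]; rfl
          _ = m • ω := by rw [hω]
      exact h8
    rw [hx, inv_mul_eq_one] at hx1
    exact hx1.symm
  have h9 : Nat.card R ≤ (Nat.card α).descFactorial (S.card + 1) := by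
    refine (Nat.card_le_card_of_injective F hF).trans (le_of_eq ?_)
    rw [Nat.card_eq_fintype_card, Fintype.card_embedding_eq, Fintype.card_coe, hTc,
      Nat.card_eq_fintype_card]
  refine h9.trans ?_
  -- monotonicity
  have hmono : ∀ k, k < Nat.card α →
      (Nat.card α).descFactorial k ≤ (Nat.card α).descFactorial (k + 1) := by
    intro k hk
    rw [Nat.descFactorial_succ]
    exact Nat.le_mul_of_pos_left _ (by omega)
  have hdlt : d < Nat.card α := by
    rw [hα]
    exact Nat.lt_pow_self hp.one_lt
  have hmono2 : ∀ k, k ≤ d → ∀ j, j ≤ k →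
      (Nat.card α).descFactorial (j + 1) ≤ (Nat.card α).descFactorial (k + 1) := by
    intro k hk j hj
    induction k with
    | zero =>
      have : j = 0 := by omega
      rw [this]
    | succ k ih =>
      rcases Nat.eq_or_lt_of_le hj with h | h
      · rw [h]
      · exact (ih (by omega) (by omega)).trans (hmono (k + 1) (by omega))
  exact hmono2 d le_rfl _ hS2

/-! ### numerical facts -/

theorem num_odd {p : ℕ} (hp : 3 ≤ p) (d : ℕ) (hd : 1 ≤ d) :
    (p ^ d) ^ (d + 1) ≤ 3 ^ (p ^ d - 1) := by
  have hsq : p ^ 2 ≤ 3 ^ (p - 1) := by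
    obtain ⟨k, rfl⟩ : ∃ k, p = k + 3 := ⟨p - 3, by omega⟩
    clear hp
    induction k with
    | zero => norm_num
    | succ k ih =>
      have h1 : k + 1 + 3 - 1 = (k + 3 - 1) + 1 := by omega
      rw [h1, pow_succ 3]
      have h2 : (k + 1 + 3) ^ 2 ≤ (k + 3) ^ 2 * 3 := by
        have : (k + 1 + 3) ^ 2 + (2 * k ^ 2 + 10 * k + 11) = (k + 3) ^ 2 * 3 := by ring
        omega
      exact h2.trans (Nat.mul_le_mul_right 3 ih)
  induction d with
  | zero => omega
  | succ d ih =>
    rcases Nat.eq_zero_or_pos d with h0 | h0
    · subst h0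
      simpa using hsq
    · have h1 := ih h0
      have hpd : 0 < p ^ d := by positivity
      have h2 : p ^ (2 * (d + 1)) ≤ 3 ^ (p ^ d * (p - 1)) := by
        rw [pow_mul]
        refine (Nat.pow_le_pow_left hsq (d + 1)).trans ?_
        rw [← pow_mul, mul_comm]
        apply Nat.pow_le_pow_right (by norm_num)
        apply Nat.mul_le_mul_right
        exact Nat.lt_pow_self (by omega)
      have h3 : p ^ (d + 1) - 1 = (p ^ d - 1) + p ^ d * (p - 1) := by
        rw [pow_succ, Nat.mul_sub, mul_one]
        have h4 : p ^ d ≤ p ^ d * p := Nat.le_mul_of_pos_right _ (by omega)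
        omega
      rw [h3, pow_add 3]
      calc (p ^ (d + 1)) ^ (d + 1 + 1) = (p ^ d) ^ (d + 1) * p ^ (2 * (d + 1)) := by
            rw [← pow_mul, ← pow_mul, ← pow_add]
            congr 1
            ring
        _ ≤ _ := Nat.mul_le_mul h1 h2

theorem num_two (d : ℕ) (hd : 4 ≤ d) : (2 ^ d) ^ (d + 1) ≤ 3 ^ (2 ^ d - 1) := by
  obtain ⟨k, rfl⟩ : ∃ k, d = k + 4 := ⟨d - 4, by omega⟩
  clear hd
  induction k with
  | zero => norm_num
  | succ k ih =>
    have h2 : 2 ^ (2 * (k + 4 + 1)) ≤ 3 ^ (2 ^ (k + 4)) := by
      have h5 : 2 * (k + 4 + 1) ≤ 2 ^ (k + 4) := by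
        clear ih
        induction k with
        | zero => norm_num
        | succ k ih =>
          have : 2 ^ (k + 1 + 4) = 2 * 2 ^ (k + 4) := by ring
          omega
      exact (Nat.pow_le_pow_left (by norm_num) _).trans (Nat.pow_le_pow_right (by norm_num) h5)
    have h3 : 2 ^ (k + 1 + 4) - 1 = (2 ^ (k + 4) - 1) + 2 ^ (k + 4) := by
      have : 2 ^ (k + 1 + 4) = 2 * 2 ^ (k + 4) := by ring
      have : 0 < 2 ^ (k + 4) := by positivity
      omega
    rw [h3, pow_add 3]
    calc (2 ^ (k + 1 + 4)) ^ (k + 1 + 4 + 1) =
          (2 ^ (k + 4)) ^ (k + 4 + 1) * 2 ^ (2 * (k + 4 + 1)) := by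
          rw [← pow_mul, ← pow_mul, ← pow_add]
          congr 1
          ring
      _ ≤ _ := Nat.mul_le_mul ih h2

theorem num {p d : ℕ} (hp : p.Prime) (hd : 0 < d) :
    (p ^ d).descFactorial (d + 1) ≤ 3 ^ (p ^ d - 1) := by
  rcases Nat.lt_or_ge p 3 with h | h
  · have h2 : p = 2 := by
      have := hp.two_le
      omega
    subst h2
    rcases Nat.lt_or_ge d 4 with h4 | h4
    · interval_cases d <;> decide
    · exact (Nat.descFactorial_le_pow _ _).trans (num_two d h4)
  · exact (Nat.descFactorial_le_pow _ _).trans (num_odd h d hd)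

/-- **Solvable permutation groups of degree `n` have at most `3 ^ (n - 1)` classes.** -/
theorem bd_three (n : ℕ) : PermClass.Bd True 3 n := by
  refine PermClass.bd_all (by norm_num) ?_ n
  intro α _ R hR h2 hs
  have := hs trivial
  obtain ⟨p, d, hp, hd, hα, hc⟩ := card_le_descFactorial R hR h2
  refine KClass.le_card.trans (hc.trans ?_)
  rw [hα]
  exact num hp hd

/-- A solvable group acting on a nonempty finite set: the image satisfies the class bound for
all subgroups. -/
theorem subB_range {G : Type*} [Group G] [Group.IsSolvable G] {α : Type*} [Finite α]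
    (hα : Nonempty α) (φ : G →* Equiv.Perm α) :
    SB.SubB φ.range (3 ^ (Nat.card α - 1)) := by
  intro X
  have hX : Group.IsSolvable φ.range :=
    Group.isSolvable_of_surjective φ.rangeRestrict_surjective
  rw [KClass.congr (X.equivMapOfInjective φ.range.subtype φ.range.subtype_injective)]
  refine bd_three (Nat.card α) α (X.map φ.range.subtype) hα le_rfl (fun _ => ?_)
  exact Group.isSolvable_of_surjective
    (f := (X.equivMapOfInjective φ.range.subtype φ.range.subtype_injective).toMonoidHom)
    (X.equivMapOfInjective φ.range.subtype φ.range.subtype_injective).surjective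

/-! ### degree 6 -/

/-- The bounding function in degrees at most 6. -/
def f6 : ℕ → ℕ
  | 0 => 1
  | 1 => 1
  | 2 => 2
  | 3 => 3
  | 4 => 8
  | 5 => 12
  | _ => 24

theorem perm_le (α : Type*) [Finite α] :
    Nat.card (ConjClasses (Equiv.Perm α)) ≤ 2 ^ (Nat.card α - 1) := by
  classical
  have := Fintype.ofFinite α
  rw [Nat.card_eq_fintype_card (α := α)]
  let f : ConjClasses (Equiv.Perm α) → (Fintype.card α).Partition :=
    Quotient.lift (fun σ : Equiv.Perm α => σ.partition)
      (fun σ τ h => Equiv.Perm.partition_eq_of_isConj.mp h)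
  have hf : Function.Injective f := by
    intro C D hCD
    obtain ⟨σ, rfl⟩ := C.exists_rep
    obtain ⟨τ, rfl⟩ := D.exists_rep
    exact ConjClasses.mk_eq_mk_iff_isConj.mpr (Equiv.Perm.partition_eq_of_isConj.mpr hCD)
  refine (Nat.card_le_card_of_injective f hf).trans ?_
  refine (Nat.card_le_card_of_surjective _ (Nat.Partition.ofComposition_surj)).trans ?_
  rw [Nat.card_eq_fintype_card, composition_card]

/-- A transitive abelian permutation group has order at most its degree. -/
theorem card_le_of_comm {α : Type*} [Finite α] (R : Subgroup (Equiv.Perm α))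
    (htr : IsPretransitive R α) (hc : IsMulCommutative R) (hne : Nonempty α) :
    Nat.card R ≤ Nat.card α := by
  obtain ⟨ω⟩ := hne
  refine Nat.card_le_card_of_injective (fun g : R => g • ω) ?_
  intro g h hgh
  apply Subtype.ext
  apply Equiv.ext
  intro a
  obtain ⟨x, rfl⟩ := htr.exists_smul_eq ω a
  have h1 : g • (x • ω) = h • (x • ω) := by
    rw [← mul_smul, ← mul_smul, hc.is_comm.comm g x, hc.is_comm.comm h x, mul_smul, mul_smul]
    exact congrArg (x • ·) hgh
  exact h1

theorem prim6 (α : Type*) [Finite α] (R : Subgroup (Equiv.Perm α)) (hR : IsPreprimitive R α)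
    (h2 : 2 ≤ Nat.card α) (h6 : Nat.card α ≤ 6) (hs : Group.IsSolvable R) :
    Nat.card (ConjClasses R) ≤ f6 (Nat.card α) := by
  have hne : Nonempty α := (Nat.card_pos_iff.mp (by omega)).1
  have hperm : Nat.card (Equiv.Perm α) = (Nat.card α).factorial := Nat.card_perm
  have hdvd : Nat.card R ∣ (Nat.card α).factorial := by
    rw [← hperm]
    exact Subgroup.card_subgroup_dvd_card R
  by_cases hc : IsMulCommutative R
  · have h1 := KClass.le_card.trans (card_le_of_comm R hR.toIsPretransitive hc hne)
    refine h1.trans ?_
    generalize Nat.card α = n at *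
    interval_cases n <;> simp [f6]
  · have h58 := FiveEight.five_eight hc
    obtain ⟨p, d, hp, hd, hα, hcard⟩ := card_le_descFactorial R hR h2
    have h7 : Nat.card α = 2 ∨ Nat.card α = 3 ∨ Nat.card α = 4 ∨ Nat.card α = 5 := by
      have h8 : Nat.card α ≠ 6 := by
        intro h9
        rw [h9] at hα
        have h10 : p ∣ 6 := by rw [hα]; exact dvd_pow_self p hd.ne'
        have h11 : (2 : ℕ) ∣ p ^ d := by rw [← hα]; norm_num
        have h12 : (3 : ℕ) ∣ p ^ d := by rw [← hα]; norm_num
        have h13 := (Nat.prime_dvd_prime_iff_eq Nat.prime_two hp).mp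
          (Nat.prime_two.dvd_of_dvd_pow h11)
        have h14 := (Nat.prime_dvd_prime_iff_eq Nat.prime_three hp).mp
          (Nat.prime_three.dvd_of_dvd_pow h12)
        omega
      omega
    rcases h7 with h7 | h7 | h7 | h7
    · rw [h7] at hdvd ⊢
      have := Nat.le_of_dvd (by decide) hdvd
      have h15 : Nat.factorial 2 = 2 := rfl
      simp only [f6]
      omega
    · rw [h7] at hdvd ⊢
      have := Nat.le_of_dvd (by decide) hdvd
      have h15 : Nat.factorial 3 = 6 := rfl
      simp only [f6]
      omega
    · rw [h7] at hdvd ⊢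
      have h15 : Nat.factorial 4 = 24 := rfl
      rw [h15] at hdvd
      simp only [f6]
      have h16 := Nat.le_of_dvd (by decide) hdvd
      rcases Nat.lt_or_ge (Nat.card R) 13 with h17 | h17
      · omega
      · have h18 : Nat.card R = 24 := by
          obtain ⟨c, hc⟩ := hdvd
          have : c = 1 := by
            by_contra hc1
            have : c ≠ 0 := by rintro rfl; omega
            have : 2 ≤ c := by omega
            nlinarith
          rw [this] at hc
          omega
        have h19 : R = ⊤ := by
          apply Subgroup.eq_top_of_card_eq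
          rw [hperm, h7, h18, h15]
        rw [h19, KClass.congr (Subgroup.topEquiv (G := Equiv.Perm α))]
        have := perm_le α
        rw [h7] at this
        exact this
    · have h20 : d = 1 := by
        rw [h7] at hα
        have h21 : p = 5 := by
          have h10 : p ∣ 5 := by rw [hα]; exact dvd_pow_self p hd.ne'
          exact (Nat.prime_dvd_prime_iff_eq hp Nat.prime_five).mp h10
        rw [h21] at hα
        by_contra hd1
        have : 2 ≤ d := by omega
        have h22 := Nat.pow_le_pow_right (show 0 < 5 by norm_num) this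
        omega
      rw [h7, h20] at hcard
      have h15 : Nat.descFactorial 5 (1 + 1) = 20 := by decide
      rw [h7]
      simp only [f6]
      omega

/-- **A solvable permutation group of degree 6 has at most 24 classes.** -/
theorem six (α : Type*) [Finite α] (hα : Nat.card α = 6) (R : Subgroup (Equiv.Perm α))
    (hs : Group.IsSolvable R) : Nat.card (ConjClasses R) ≤ 24 := by
  have h : PermF.BdF True f6 6 := by
    refine PermF.bdF_all 6 (by simp [f6]) ?_ ?_ ?_
    · intro a b ha hb hab
      have ha6 : a ≤ 5 := by omega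
      have hb6 : b ≤ 5 := by omega
      interval_cases a <;> interval_cases b <;> first | omega | simp [f6]
    · intro a b ha hb hab
      have ha6 : a ≤ 3 := by nlinarith
      have hb6 : b ≤ 3 := by nlinarith
      interval_cases a <;> interval_cases b <;> first | omega | simp [f6]
    · intro β _ R hR h2 h6 hs
      exact prim6 β R hR h2 h6 (hs trivial)
  have hne : Nonempty α := (Nat.card_pos_iff.mp (by omega)).1
  have := h α R hne hα.le (fun _ => hs)
  rw [hα] at this
  exact this

end Cfsg.Agent.H553.SolvPerm
end
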