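import Mathlib
import Cfsg.Agent.S0752
import Cfsg.Agent.LieClassical.SympCount
import Cfsg.Agent.H553.SolvPerm
import Cfsg.Agent.Lib.Cores
import Cfsg.Agent.S0043
import Cfsg.Agent.S0044
import Cfsg.Agent.SolvableStructure.MinimalNormal
import Cfsg.Agent.PLocal.SectionFrattini
import Cfsg.Agent.Lib.FrattiniPGroup
import Cfsg.Agent.Lib.ElemAbGL
import Cfsg.Agent.SigZeroU5.Symp
import Cfsg.Agent.H363.Frat
import Cfsg.Agent.LieClassical.SympSimple
import Cfsg.Agent.LieClassical.SympPerfect
import Cfsg.Agent.LieClassical.SpFourTwo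
import Cfsg.Agent.S0246
import Cfsg.Agent.S0765
set_option linter.all false

-- part: H553/Symp
section
/-!
# Finite groups acting on symplectic spaces over the prime field

* `SR p W S`: a faithful irreducible symplectic representation of `S` on `W` over `ZMod p`.
* `SR.exists_embedding`: embedding in `Matrix.symplecticGroup`.
-/

set_option autoImplicit false

namespace Cfsg.Agent.H553.Sy

open Module SB

universe u

/-- A faithful irreducible symplectic representation over the prime field. -/
structure SR (p : ℕ) [Fact p.Prime] (W : Type u) [AddCommGroup W] [Module (ZMod p) W]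
    (S : Type u) [Group S] where
  ρ : S →* Module.End (ZMod p) W
  inj : Function.Injective ρ
  B : LinearMap.BilinForm (ZMod p) W
  alt : ∀ v, B v v = 0
  nd : ∀ v, (∀ w, B v w = 0) → v = 0
  inv : ∀ s v w, B (ρ s v) (ρ s w) = B v w
  irr : ∀ U : Submodule (ZMod p) W, (∀ s, ∀ u ∈ U, ρ s u ∈ U) → U = ⊥ ∨ U = ⊤

variable {p : ℕ} [Fact p.Prime] {W : Type u} [AddCommGroup W] [Module (ZMod p) W] [Finite W]

/-- A symplectic basis in the convention of `Matrix.J`. -/
theorem exists_basis (B : LinearMap.BilinForm (ZMod p) W) (alt : ∀ v, B v v = 0)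
    (nd : ∀ v, (∀ w, B v w = 0) → v = 0) :
    ∃ (n : ℕ) (c : Basis (Fin n ⊕ Fin n) (ZMod p) W),
      LinearMap.BilinForm.toMatrix c B = Matrix.J (Fin n) (ZMod p) := by
  classical
  have : FiniteDimensional (ZMod p) W := Module.Finite.of_finite
  obtain ⟨m, k, b, h1, h2, h3, h4⟩ := S0752.result B alt
  have hk : IsEmpty (Fin k) := by
    constructor
    intro j
    exact b.ne_zero (Sum.inr j) (nd _ (h4 j))
  have hsw : ∀ v w, B v w = - B w v := by
    intro v w
    have := alt (v + w)
    simp only [map_add, LinearMap.add_apply, alt, zero_add, add_zero] at this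
    exact eq_neg_of_add_eq_zero_right this
  refine ⟨m, b.reindex ((Equiv.sumEmpty _ _).trans (Equiv.sumComm _ _)), ?_⟩
  ext i j
  rw [LinearMap.BilinForm.toMatrix_apply, Basis.reindex_apply, Basis.reindex_apply]
  rcases i with i | i <;> rcases j with j | j
  · simp only [Matrix.J, Matrix.fromBlocks_apply₁₁, Matrix.zero_apply]
    exact h3 i j
  · simp only [Matrix.J, Matrix.fromBlocks_apply₁₂, Matrix.neg_apply, Matrix.one_apply]
    change B (b (Sum.inl (Sum.inr i))) (b (Sum.inl (Sum.inl j))) = _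
    rw [hsw, h1]
    simp [eq_comm]
  · simp only [Matrix.J, Matrix.fromBlocks_apply₂₁, Matrix.one_apply]
    exact h1 i j
  · simp only [Matrix.J, Matrix.fromBlocks_apply₂₂, Matrix.zero_apply]
    exact h2 i j

theorem exists_embedding {S : Type*} [Group S] (ρ : S →* Module.End (ZMod p) W)
    (hρ : Function.Injective ρ) (B : LinearMap.BilinForm (ZMod p) W) (alt : ∀ v, B v v = 0)
    (nd : ∀ v, (∀ w, B v w = 0) → v = 0) (inv : ∀ s v w, B (ρ s v) (ρ s w) = B v w) :
    ∃ n : ℕ, Nat.card W = p ^ (2 * n) ∧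
      ∃ f : S →* Matrix.symplecticGroup (Fin n) (ZMod p), Function.Injective f := by
  classical
  obtain ⟨n, c, hc⟩ := exists_basis B alt nd
  refine ⟨n, ?_, ?_⟩
  · rw [Nat.card_congr c.equivFun.toEquiv]
    simp [two_mul]
  · have hmem : ∀ s, LinearMap.toMatrix c c (ρ s) ∈ Matrix.symplecticGroup (Fin n) (ZMod p) := by
      intro s
      rw [SymplecticGroup.mem_iff']
      have h1 : B.comp (ρ s) (ρ s) = B := by
        ext v w
        exact inv s v w
      have h2 := LinearMap.BilinForm.toMatrix_comp c c B (ρ s) (ρ s)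
      rw [h1, hc] at h2
      exact h2.symm
    let g : S →* Matrix (Fin n ⊕ Fin n) (Fin n ⊕ Fin n) (ZMod p) :=
      (LinearMap.toMatrixAlgEquiv c).toAlgHom.toRingHom.toMonoidHom.comp ρ
    have hg : Function.Injective g :=
      (LinearMap.toMatrixAlgEquiv c).injective.comp hρ
    refine ⟨g.codRestrict _ hmem, ?_⟩
    intro s t hst
    exact hg (congrArg Subtype.val hst)

end Cfsg.Agent.H553.Sy
end

-- part: H553/SympNum
section
/-!
# Symplectic representations: the numerical cases and dimension 2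

* `card_sp_le`, `num_gen`: `|Sp_{2n}(p)| ≤ p ^ (2n² + n) ≤ 3 ^ (p ^ n - 1)` in most cases.
* `bound_one`: dimension 2.
-/

set_option autoImplicit false

namespace Cfsg.Agent.H553.Sy

open Module SB Subgroup

theorem cube_le (p : ℕ) : p ^ 3 ≤ 3 ^ p := by
  have h : ∀ k : ℕ, (k + 3) ^ 3 ≤ 3 ^ (k + 3) := by
    intro k
    induction k with
    | zero => norm_num
    | succ k ih =>
      have h1 : (k + 1 + 3) ^ 3 ≤ 3 * (k + 3) ^ 3 := by ring_nf; nlinarith [sq_nonneg k]
      calc (k + 1 + 3) ^ 3 ≤ 3 * (k + 3) ^ 3 := h1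
        _ ≤ 3 * 3 ^ (k + 3) := Nat.mul_le_mul_left _ ih
        _ = 3 ^ (k + 1 + 3) := by ring
  rcases Nat.lt_or_ge p 3 with h3 | h3
  · interval_cases p <;> norm_num
  · obtain ⟨k, rfl⟩ := Nat.exists_eq_add_of_le' h3
    exact h k

theorem lin_le (p n : ℕ) (h : (n = 2 ∧ 5 ≤ p) ∨ (3 ≤ n ∧ 3 ≤ p) ∨ (6 ≤ n ∧ 2 ≤ p)) :
    p * (2 * n ^ 2 + n) + 3 ≤ 3 * p ^ n := by
  have hstep : ∀ m : ℕ, 3 ≤ m → 2 ≤ p → p * (2 * m ^ 2 + m) + 3 ≤ 3 * p ^ m →
      p * (2 * (m + 1) ^ 2 + (m + 1)) + 3 ≤ 3 * p ^ (m + 1) := by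
    intro m hm hp hi
    have h1 : 2 * (m + 1) ^ 2 + (m + 1) ≤ p * (2 * m ^ 2 + m) := by nlinarith
    calc p * (2 * (m + 1) ^ 2 + (m + 1)) + 3 ≤ p * (p * (2 * m ^ 2 + m)) + p * 3 :=
          Nat.add_le_add (Nat.mul_le_mul_left _ h1) (by omega)
      _ = p * (p * (2 * m ^ 2 + m) + 3) := by ring
      _ ≤ p * (3 * p ^ m) := Nat.mul_le_mul_left _ hi
      _ = 3 * p ^ (m + 1) := by ring
  rcases h with ⟨rfl, h⟩ | ⟨h1, h2⟩ | ⟨h1, h2⟩
  · nlinarith
  · induction n, h1 using Nat.le_induction with
    | base => nlinarith [Nat.pow_le_pow_left h2 2, Nat.pow_le_pow_left h2 3, mul_le_mul h2 (Nat.pow_le_pow_left h2 2) (by positivity) (by positivity)]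
    | succ m hm ih => exact hstep m hm (by omega) ih
  · induction n, h1 using Nat.le_induction with
    | base =>
      have h3 : 2 ^ 5 ≤ p ^ 5 := Nat.pow_le_pow_left h2 5
      have h4 : p ^ 6 = p * p ^ 5 := by ring
      rw [h4]
      nlinarith
    | succ m hm ih => exact hstep m (by omega) (by omega) ih

theorem num_gen (p n : ℕ) (h : (n = 2 ∧ 5 ≤ p) ∨ (3 ≤ n ∧ 3 ≤ p) ∨ (6 ≤ n ∧ 2 ≤ p)) :
    p ^ (2 * n ^ 2 + n) ≤ 3 ^ (p ^ n - 1) := by
  have h1 := lin_le p n h
  refine (Nat.pow_le_pow_iff_left (n := 3) (by norm_num)).mp ?_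
  calc (p ^ (2 * n ^ 2 + n)) ^ 3 = (p ^ 3) ^ (2 * n ^ 2 + n) := by ring
    _ ≤ (3 ^ p) ^ (2 * n ^ 2 + n) := Nat.pow_le_pow_left (cube_le p) _
    _ = 3 ^ (p * (2 * n ^ 2 + n)) := (pow_mul _ _ _).symm
    _ ≤ 3 ^ (3 * (p ^ n - 1)) := Nat.pow_le_pow_right (by norm_num) (by omega)
    _ = (3 ^ (p ^ n - 1)) ^ 3 := by rw [← pow_mul]; ring_nf

theorem card_sp_le (p n : ℕ) [Fact p.Prime] :
    Nat.card (Matrix.symplecticGroup (Fin n) (ZMod p)) ≤ p ^ (2 * n ^ 2 + n) := by
  rw [LieClassical.SympCount.card_symplecticGroup, ZMod.card]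
  calc p ^ n ^ 2 * ∏ i ∈ Finset.range n, (p ^ (2 * (i + 1)) - 1)
      ≤ p ^ n ^ 2 * ∏ i ∈ Finset.range n, p ^ (2 * (i + 1)) :=
        Nat.mul_le_mul_left _ (Finset.prod_le_prod' fun i _ => Nat.sub_le _ _)
    _ = p ^ (2 * n ^ 2 + n) := by
        rw [Finset.prod_pow_eq_pow_sum, ← pow_add]
        congr 1
        rw [← Finset.mul_sum, Finset.sum_add_distrib]
        simp only [Finset.sum_const, Finset.card_range, smul_eq_mul, mul_one]
        have h2 := Finset.sum_range_id_mul_two n
        cases n with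
        | zero => simp
        | succ m =>
          simp only [Nat.add_sub_cancel] at h2
          nlinarith

/-- `k(Y) |Y|` is the number of commuting pairs. -/
theorem comm_sum (Y : Type*) [Group Y] [Fintype Y] :
    Nat.card (ConjClasses Y) * Nat.card Y = ∑ x : Y, Nat.card (centralizer ({x} : Set Y)) := by
  classical
  rw [← card_comm_eq_card_conjClasses_mul_card Y, ← Nat.card_sigma]
  refine Nat.card_congr ⟨fun p => ⟨p.1.1, ⟨p.1.2, ?_⟩⟩, fun q => ⟨(q.1, q.2.1), ?_⟩, ?_, ?_⟩
  · rw [mem_centralizer_singleton_iff]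
    exact p.2.symm
  · have := q.2.2
    rw [mem_centralizer_singleton_iff] at this
    exact (show Commute q.2.1 q.1 from this).symm
  · intro p
    rfl
  · intro q
    rfl

/-- Few elements with a large centralizer. -/
theorem card_conj_lt {Y : Type*} [Group Y] [Finite Y] (P : Y → Prop) (h1 : P 1) (c d : ℕ)
    (hd : 0 < d) (hc : Nat.card {y // P y} ≤ c)
    (hC : ∀ y, ¬ P y → Nat.card (centralizer ({y} : Set Y)) ≤ d) :
    Nat.card (ConjClasses Y) < c + d := by
  classical
  have := Fintype.ofFinite Y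
  have hs := comm_sum Y
  have hpos : 0 < Nat.card Y := Nat.card_pos
  have h2 : ∑ x : Y, Nat.card (centralizer ({x} : Set Y)) ≤
      ∑ x : Y, ((if P x then Nat.card Y else 0) + (if x = 1 then 0 else d)) := by
    refine Finset.sum_le_sum fun x _ => ?_
    by_cases hx : P x
    · rw [if_pos hx]
      exact (Subgroup.card_le_card_group _).trans (Nat.le_add_right _ _)
    · have hx1 : x ≠ 1 := fun h => hx (h ▸ h1)
      rw [if_neg hx, if_neg hx1, zero_add]
      exact hC x hx
  rw [Finset.sum_add_distrib] at h2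
  have h3 : ∑ x : Y, (if P x then Nat.card Y else 0) ≤ c * Nat.card Y := by
    rw [← Finset.sum_filter, Finset.sum_const, smul_eq_mul]
    refine Nat.mul_le_mul_right _ ?_
    rw [← Fintype.card_subtype, ← Nat.card_eq_fintype_card]
    exact hc
  have h4 : ∑ x : Y, (if x = 1 then 0 else d) < d * Nat.card Y := by
    have h5 : ∑ x : Y, (if x = 1 then 0 else d) < ∑ _x : Y, d := by
      refine Finset.sum_lt_sum (fun x _ => ?_) ⟨1, Finset.mem_univ _, ?_⟩
      · split_ifs <;> omega
      · rw [if_pos rfl]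
        exact hd
    rw [Finset.sum_const, smul_eq_mul, Finset.card_univ, ← Nat.card_eq_fintype_card] at h5
    rwa [mul_comm] at h5
  have h6 : Nat.card (ConjClasses Y) * Nat.card Y < (c + d) * Nat.card Y := by
    rw [hs, add_mul]
    omega
  exact lt_of_mul_lt_mul_right h6 (Nat.zero_le _)

/-- An upper bound for the centralizer of a set of operators with few generators. -/
theorem card_le_of_gen {K W S ι : Type*} [Field K] [AddCommGroup W] [Module K W] [Finite W]
    [Group S] [Finite ι] (ρ : S →* Module.End K W) (hρ : Function.Injective ρ)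
    (C : Subgroup S) (X : Set S) (comm : ∀ c ∈ C, ∀ x ∈ X, c * x = x * c) (t : ι → W)
    (hgen : ∀ U : Submodule K W, (∀ x ∈ X, ∀ u ∈ U, ρ x u ∈ U) → (∀ i, t i ∈ U) → U = ⊤)
    (T : ι → Set W) (hT : ∀ i, ∀ c ∈ C, ρ c (t i) ∈ T i) :
    Nat.card C ≤ Nat.card (∀ i, T i) := by
  let f : C → ∀ i, T i := fun c i => ⟨ρ c (t i), hT i c c.2⟩
  have hf : Function.Injective f := by
    intro c d hcd
    apply Subtype.ext
    apply hρ
    have h1 : LinearMap.ker (ρ c - ρ d) = ⊤ := by
      refine hgen _ ?_ ?_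
      · intro x hx u hu
        rw [LinearMap.mem_ker, LinearMap.sub_apply, sub_eq_zero] at hu ⊢
        rw [← Module.End.mul_apply, ← Module.End.mul_apply, ← map_mul, ← map_mul,
          comm c c.2 x hx, comm d d.2 x hx, map_mul, map_mul, Module.End.mul_apply,
          Module.End.mul_apply, hu]
      · intro i
        rw [LinearMap.mem_ker, LinearMap.sub_apply, sub_eq_zero]
        exact congrArg (fun g : ∀ i, T i => ((g i : T i) : W)) hcd
    rw [LinearMap.ker_eq_top, sub_eq_zero] at h1
    exact h1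
  exact Nat.card_le_card_of_injective f hf

theorem neg_one_zmod_two : (-1 : ZMod 2) = 1 := by decide

theorem sq_le (p : ℕ) (h3 : 3 ≤ p) : p ^ 2 ≤ 3 ^ (p - 1) := by
  obtain ⟨k, rfl⟩ := Nat.exists_eq_add_of_le' h3
  change (k + 3) ^ 2 ≤ 3 ^ (k + 2)
  clear * -
  induction k with
  | zero => norm_num
  | succ k ih =>
    calc (k + 1 + 3) ^ 2 ≤ 3 * (k + 3) ^ 2 := by nlinarith [Nat.zero_le (k * k)]
      _ ≤ 3 * 3 ^ (k + 2) := Nat.mul_le_mul_left _ ih
      _ = 3 ^ (k + 1 + 2) := by ring

/-- Dimension 2. -/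
theorem bound_one {p : ℕ} [Fact p.Prime] {W : Type*} [AddCommGroup W] [Module (ZMod p) W]
    [Finite W] {Y : Type*} [Group Y] [Finite Y] (hW : Nat.card W = p ^ 2)
    (ρ : Y →* Module.End (ZMod p) W) (hρ : Function.Injective ρ)
    (B : LinearMap.BilinForm (ZMod p) W) (nd : ∀ v, (∀ w, B v w = 0) → v = 0)
    (inv : ∀ s v w, B (ρ s v) (ρ s w) = B v w) :
    Nat.card (ConjClasses Y) ≤ 3 ^ (p - 1) := by
  classical
  have hp : p.Prime := Fact.out
  have hfd : FiniteDimensional (ZMod p) W := Module.Finite.of_finite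
  have hrk : finrank (ZMod p) W = 2 := by
    have h1 := Module.natCard_eq_pow_finrank (K := ZMod p) (V := W)
    rw [Nat.card_zmod, hW] at h1
    exact (Nat.pow_right_injective hp.two_le h1).symm
  have hnt : Nontrivial W := Module.nontrivial_of_finrank_pos (R := ZMod p) (by omega)
  obtain ⟨v₀, hv₀⟩ := exists_ne (0 : W)
  have hB : ∃ w₀, B v₀ w₀ ≠ 0 := by
    by_contra h
    push Not at h
    exact hv₀ (nd _ h)
  obtain ⟨w₀, hw₀⟩ := hB
  let P : Y → Prop := fun y => ∃ a : ZMod p, ρ y = a • 1
  have hP1 : P 1 := ⟨1, by simp⟩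
  have hsq : ∀ (y : Y) (a : ZMod p), ρ y = a • 1 → a = 1 ∨ a = -1 := by
    intro y a hy
    have h2 := inv y v₀ w₀
    rw [hy] at h2
    simp only [LinearMap.smul_apply, Module.End.one_apply, map_smul, smul_eq_mul] at h2
    have h3 : (a * a - 1) * B v₀ w₀ = 0 := by linear_combination h2
    have h4 : a * a - 1 = 0 := (mul_eq_zero.mp h3).resolve_right hw₀
    have h5 : (a - 1) * (a + 1) = 0 := by linear_combination h4
    rcases mul_eq_zero.mp h5 with h5 | h5
    · exact Or.inl (sub_eq_zero.mp h5)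
    · exact Or.inr (eq_neg_of_add_eq_zero_left h5)
  have hPcard : Nat.card {y // P y} ≤ if p = 2 then 1 else 2 := by
    let g : {y // P y} → ({1, -1} : Finset (ZMod p)) := fun y =>
      ⟨y.2.choose, by
        rcases hsq y.1 _ y.2.choose_spec with h | h <;> rw [h] <;> simp⟩
    have hg : Function.Injective g := by
      intro y z hyz
      apply Subtype.ext
      apply hρ
      have h1 : y.2.choose = z.2.choose := congrArg Subtype.val hyz
      rw [y.2.choose_spec, z.2.choose_spec, h1]
    have h2 := Nat.card_le_card_of_injective g hg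
    refine h2.trans ?_
    rw [Nat.card_eq_fintype_card, Fintype.card_coe]
    split_ifs with h
    · subst h
      have h3 : (-1 : ZMod 2) = 1 := neg_one_zmod_two
      have h4 : ({1, -1} : Finset (ZMod 2)) ⊆ {1} := by
        intro x hx
        rcases Finset.mem_insert.mp hx with hx | hx
        · rw [hx]; exact Finset.mem_singleton_self _
        · rw [Finset.mem_singleton.mp hx, Finset.mem_singleton]
          exact h3
      exact (Finset.card_le_card h4).trans (by simp)
    · exact Finset.card_le_two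
  have hC : ∀ y, ¬ P y → Nat.card (centralizer ({y} : Set Y)) ≤ p ^ 2 - 1 := by
    intro y hy
    have h1 : ∃ v, LinearIndependent (ZMod p) ![v, ρ y v] := by
      by_contra h
      push Not at h
      exact hy (LinearMap.exists_eq_smul_id_of_forall_notLinearIndependent h)
    obtain ⟨v, hv⟩ := h1
    have hv0 : v ≠ 0 := hv.ne_zero 0
    have h2 := card_le_of_gen (ι := Unit) ρ hρ (centralizer ({y} : Set Y)) {y}
      (fun c hc x hx => by
        rw [Set.mem_singleton_iff] at hx
        rw [hx]
        exact (mem_centralizer_singleton_iff.mp hc))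
      (fun _ => v) (fun U hU1 hU2 => by
        have h3 : Submodule.span (ZMod p) (Set.range ![v, ρ y v]) = ⊤ :=
          hv.span_eq_top_of_card_eq_finrank (by simp [hrk])
        rw [eq_top_iff, ← h3, Submodule.span_le]
        rintro _ ⟨i, rfl⟩
        fin_cases i
        · exact hU2 ()
        · exact hU1 y rfl v (hU2 ()))
      (fun _ => {w : W | w ≠ 0}) (fun _ c _ h => hv0 (by
        have h4 : ρ c⁻¹ (ρ c v) = v := by
          rw [← Module.End.mul_apply, ← map_mul, inv_mul_cancel, map_one, Module.End.one_apply]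
        rw [← h4, h, map_zero]))
    refine h2.trans ?_
    have := Fintype.ofFinite W
    rw [Nat.card_pi, Finset.prod_const, Finset.card_univ, Fintype.card_unit, pow_one]
    rw [Nat.card_eq_fintype_card] at hW
    rw [← hW, Nat.card_eq_fintype_card]
    have h5 := Fintype.card_subtype_compl (fun w : W => w = 0)
    rw [Fintype.card_subtype_eq] at h5
    exact h5.le
  have hpos : 0 < p ^ 2 - 1 := by
    have := Nat.pow_le_pow_left hp.two_le 2
    omega
  have h := card_conj_lt P hP1 _ _ hpos hPcard hC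
  split_ifs at h with h2
  · subst h2
    norm_num at h ⊢
    omega
  · have h3 : 3 ≤ p := by have := hp.two_le; omega
    have h4 := sq_le p h3
    omega

end Cfsg.Agent.H553.Sy
end

-- part: H553/SympFit
section
/-!
# Orders of solvable irreducible symplectic groups: tools
-/

set_option autoImplicit false

namespace Cfsg.Agent.H553.Sy

open Module SB Subgroup

universe u

variable {p : ℕ} [Fact p.Prime] {W : Type u} [AddCommGroup W] [Module (ZMod p) W] [Finite W]
  {S : Type u} [Group S] [Finite S]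

omit [Finite W] [Finite S] in
theorem SR.apply_mul (R : SR p W S) (s t : S) (w : W) : R.ρ (s * t) w = R.ρ s (R.ρ t w) := by
  rw [map_mul, Module.End.mul_apply]

omit [Finite W] [Finite S] in
theorem SR.apply_one (R : SR p W S) (w : W) : R.ρ 1 w = w := by
  rw [map_one, Module.End.one_apply]

/-- Non-trivial normal subgroups fix no non-zero vector. -/
theorem SR.fix_eq_zero (R : SR p W S) (N : Subgroup S) (hNn : N.Normal) (hN : N ≠ ⊥) (w : W)
    (hw : ∀ x ∈ N, R.ρ x w = w) : w = 0 := by
  let U : Submodule (ZMod p) W :=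
    { carrier := {w | ∀ x ∈ N, R.ρ x w = w}
      add_mem' := fun {a b} ha hb x hx => by rw [map_add, ha x hx, hb x hx]
      zero_mem' := fun x _ => map_zero _
      smul_mem' := fun c a ha x hx => by rw [map_smul, ha x hx] }
  have hU : ∀ s, ∀ u ∈ U, R.ρ s u ∈ U := by
    intro s u hu x hx
    rw [← R.apply_mul, show x * s = s * (s⁻¹ * x * s) by group, R.apply_mul]
    congr 1
    exact hu _ (by simpa using hNn.conj_mem x hx s⁻¹)
  rcases R.irr U hU with h | h
  · have : w ∈ U := hw
    rw [h] at this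
    exact this
  · exfalso
    apply hN
    rw [eq_bot_iff]
    intro x hx
    rw [mem_bot]
    apply R.inj
    rw [map_one]
    ext v
    have : v ∈ U := by rw [h]; trivial
    exact this x hx

/-- Invariant subspaces of a fixed point free `q`-group have order `1` modulo `q`. -/
theorem SR.card_modEq (R : SR p W S) {q : ℕ} [Fact q.Prime] (Q : Subgroup S)
    (hQ : IsPGroup q Q) (hfix : ∀ w, (∀ x ∈ Q, R.ρ x w = w) → w = 0)
    (U : Submodule (ZMod p) W) (hU : ∀ x ∈ Q, ∀ u ∈ U, R.ρ x u ∈ U) :
    Nat.card U ≡ 1 [MOD q] := by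
  let _ : MulAction Q U :=
    { smul := fun x u => ⟨R.ρ x u, hU x x.2 u u.2⟩
      one_smul := fun u => Subtype.ext (R.apply_one _)
      mul_smul := fun x y u => Subtype.ext (R.apply_mul _ _ _) }
  have h1 := hQ.card_modEq_card_fixedPoints U
  have h2 : Nat.card (MulAction.fixedPoints Q U) = 1 := by
    rw [Nat.card_eq_one_iff_unique]
    refine ⟨⟨?_⟩, ⟨⟨0, fun x => Subtype.ext (map_zero _)⟩⟩⟩
    have key : ∀ a : MulAction.fixedPoints Q U, (a : U) = 0 := by
      intro a
      apply Subtype.ext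
      apply hfix
      intro x hx
      exact congrArg Subtype.val (a.2 ⟨x, hx⟩)
    intro a b
    apply Subtype.ext
    rw [key a, key b]
  rwa [h2] at h1

theorem SR.dvd_of_pCore (R : SR p W S) {q : ℕ} [Fact q.Prime] (hq : pCore q S ≠ ⊥) :
    Nat.card W ≡ 1 [MOD q] := by
  have h := R.card_modEq (pCore q S) (Lib.Cores.pCore_isPGroup q)
    (R.fix_eq_zero _ (Lib.Cores.pCore_normal q) hq) ⊤ (fun _ _ _ _ => trivial)
  rwa [Nat.card_congr (Submodule.topEquiv (R := ZMod p) (M := W)).toEquiv] at h

/-- The automorphism group of a group of order `q ^ d`. -/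
theorem card_mulAut_le {N : Type*} [Group N] [Finite N] {q d : ℕ} (hq : q.Prime)
    (hN : Nat.card N = q ^ d) (hd : 0 < d) : Nat.card (MulAut N) ≤ (q ^ d - 1) ^ d := by
  classical
  obtain ⟨T, hT1, hT2, hT3⟩ := SolvPerm.exists_generators hq hN
  let f : MulAut N → (T → {n : N // n ≠ 1}) := fun α t => ⟨α t, fun h => hT3 (by
    have h1 : (t : N) = 1 := (map_eq_one_iff α α.injective).mp h
    rw [← h1]; exact t.2)⟩
  have hf : Function.Injective f := by
    intro α β h
    have h1 : α.toMonoidHom.eqLocus β.toMonoidHom = ⊤ := by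
      rw [eq_top_iff, ← hT1, closure_le]
      intro t ht
      exact congrArg Subtype.val (congrFun h ⟨t, ht⟩)
    ext x
    have h2 : x ∈ α.toMonoidHom.eqLocus β.toMonoidHom := by rw [h1]; trivial
    exact h2
  have := Fintype.ofFinite N
  have h3 := Nat.card_le_card_of_injective f hf
  have h4 : Nat.card {n : N // n ≠ 1} = q ^ d - 1 := by
    rw [Nat.card_eq_fintype_card, Fintype.card_subtype_compl, Fintype.card_subtype_eq,
      ← Nat.card_eq_fintype_card, hN]
  rw [Nat.card_fun, h4, Nat.card_eq_fintype_card (α := T), Fintype.card_coe] at h3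
  have h5 : 2 ≤ q ^ d := hq.two_le.trans (Nat.le_self_pow hd.ne' q)
  exact h3.trans (Nat.pow_le_pow_right (by omega) hT2)

theorem card_le_centralizer {N : Subgroup S} (hNn : N.Normal) {q d : ℕ} (hq : q.Prime)
    (hN : Nat.card N = q ^ d) (hd : 0 < d) :
    Nat.card S ≤ Nat.card (centralizer (N : Set S)) * (q ^ d - 1) ^ d := by
  have h1 := Subgroup.card_mul_index (MulAut.conjNormal (H := N)).ker
  rw [Subgroup.index_ker] at h1
  rw [← h1]
  refine Nat.mul_le_mul ?_ ?_
  · refine Subgroup.card_le_of_le ?_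
    intro x hx
    rw [mem_centralizer_iff]
    intro n hn
    have h2 : (MulAut.conjNormal x : MulAut N) = 1 := hx
    have h3 := congrArg (fun α : MulAut N => ((α ⟨n, hn⟩ : N) : S)) h2
    simp only [MulAut.conjNormal_apply, MulAut.one_apply] at h3
    calc n * x = (x * n * x⁻¹) * x := by rw [h3]
      _ = x * n := by group
  · exact (Subgroup.card_le_card_group _).trans (card_mulAut_le hq hN hd)

/-- A minimal normal subgroup inside `O_q`. -/
theorem exists_min [Group.IsSolvable S] {q : ℕ} [hqf : Fact q.Prime] (hq : pCore q S ≠ ⊥) :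
    ∃ (N : Subgroup S) (d : ℕ), N.Normal ∧ N ≠ ⊥ ∧ 0 < d ∧ Nat.card N = q ^ d ∧
      (∀ x ∈ N, x ^ q = 1) ∧ (∀ x ∈ N, ∀ y ∈ N, x * y = y * x) := by
  obtain ⟨N, hN⟩ := (Set.toFinite {N : Subgroup S | N.Normal ∧ N ≠ ⊥ ∧ N ≤ pCore q S}).exists_minimal
    ⟨pCore q S, Lib.Cores.pCore_normal q, hq, le_rfl⟩
  have hNn : N.Normal := hN.prop.1
  have hN1 : N ≠ ⊥ := hN.prop.2.1
  have hNq : N ≤ pCore q S := hN.prop.2.2
  have hmin : ∀ K : Subgroup S, K.Normal → K ≤ N → K = ⊥ ∨ K = N := by
    intro K hK hKN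
    by_cases hK1 : K = ⊥
    · exact Or.inl hK1
    · exact Or.inr (le_antisymm hKN (hN.le_of_le ⟨hK, hK1, hKN.trans hNq⟩ hKN))
  obtain ⟨r, d, hr, hd, hc, hex⟩ :=
    SolvableStructure.MinimalNormal.exists_prime_of_minimal_normal N hN1 hmin
  obtain ⟨hcomm, -⟩ := S0043.result N hN1 hmin
  have hp : IsPGroup q N := (Lib.Cores.pCore_isPGroup q).to_le hNq
  have hrq : r = q := by
    obtain ⟨e, he⟩ := IsPGroup.iff_card.mp hp
    rw [hc] at he
    have h1 : r ∣ q ^ e := by
      rw [← he]
      exact dvd_pow_self r hd.ne'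
    exact (Nat.prime_dvd_prime_iff_eq hr hqf.out).mp (hr.dvd_of_dvd_pow h1)
  subst hrq
  exact ⟨N, d, hNn, hN1, hd, hc, hex, fun x hx y hy =>
    congrArg Subtype.val (hcomm.is_comm.comm ⟨x, hx⟩ ⟨y, hy⟩)⟩

/-- `|X|` divides `|Q| |GL_d(p)|`, for a normal `p`-subgroup `Q` with `C(Q) ≤ Q`, maximal among the
normal `p`-subgroups, with `|Q : Φ(Q)| = p ^ d`. -/
theorem card_dvd_frat {X : Type*} [Group X] [Finite X] {q : ℕ} [Fact q.Prime]
    (hc : centralizer (pCore q X : Set X) ≤ pCore q X) :
    ∃ d, Nat.card (pCore q X ⧸ frattini (pCore q X)) = q ^ d ∧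
      Nat.card X ∣ Nat.card (pCore q X) * Nat.card (GL (Fin d) (ZMod q)) := by
  classical
  have hQn : (pCore q X).Normal := Lib.Cores.pCore_normal q
  have hQ : IsPGroup q (pCore q X) := Lib.Cores.pCore_isPGroup q
  have hker := PLocal.SectionFrattini.isPGroup_sectionKernel_frattini (pCore q X) hQ hc
  set Q : Subgroup X := pCore q X with hQdef
  have hsq : ∀ v : Q ⧸ frattini Q, v ^ q = 1 := by
    intro v
    obtain ⟨y, rfl⟩ := QuotientGroup.mk'_surjective _ v
    rw [← map_pow]
    exact (QuotientGroup.eq_one_iff _).2 (Lib.FrattiniPGroup.pow_mem_frattini hQ y)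
  have hcomm : ∀ x y : Q ⧸ frattini Q, x * y = y * x := by
    intro x y
    obtain ⟨x, rfl⟩ := QuotientGroup.mk'_surjective _ x
    obtain ⟨y, rfl⟩ := QuotientGroup.mk'_surjective _ y
    rw [← commutatorElement_eq_one_iff_mul_comm, ← map_commutatorElement]
    exact (QuotientGroup.eq_one_iff _).2 (Lib.FrattiniPGroup.commutator_mem_frattini hQ x y)
  obtain ⟨d, hd⟩ := IsPGroup.iff_card.mp (hQ.to_quotient (frattini Q))
  let _ : CommGroup (Q ⧸ frattini Q) := { (inferInstance : Group (Q ⧸ frattini Q)) with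
    mul_comm := hcomm }
  obtain ⟨e⟩ := Lib.ElemAbGL.mulAut_equiv_GL (V := Q ⧸ frattini Q) q d hsq hd
  refine ⟨d, hd, ?_⟩
  -- the action on the Frattini quotient
  have hchar : ∀ φ : MulAut Q, (frattini Q).map φ.toMonoidHom = frattini Q := by
    intro φ
    exact Subgroup.characteristic_iff_map_eq.1 inferInstance φ
  let act : MulAut Q →* MulAut (Q ⧸ frattini Q) :=
    { toFun := fun φ => QuotientGroup.congr _ _ φ (hchar φ)
      map_one' := by
        ext v
        obtain ⟨q, rfl⟩ := QuotientGroup.mk'_surjective _ v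
        rfl
      map_mul' := by
        intro φ ψ
        ext v
        obtain ⟨q, rfl⟩ := QuotientGroup.mk'_surjective _ v
        rfl }
  let ρ : X →* MulAut (Q ⧸ frattini Q) := act.comp (MulAut.conjNormal (H := Q))
  have hρ : ∀ (x : X) (y : Q), ρ x (QuotientGroup.mk y) = QuotientGroup.mk (MulAut.conjNormal x y) :=
    fun x y => rfl
  have hρker : ρ.ker ≤ Q := by
    have hle : ρ.ker ≤ sectionKernel Q ((frattini Q).map Q.subtype) := by
      intro x hx
      rw [PLocal.SectionFrattini.mem_sectionKernel]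
      intro k hk
      have h1 : ρ x (QuotientGroup.mk ⟨k, hk⟩⁻¹) = QuotientGroup.mk ⟨k, hk⟩⁻¹ := by
        rw [MonoidHom.mem_ker.1 hx]
        rfl
      rw [hρ, QuotientGroup.eq] at h1
      have h2 := (frattini Q).inv_mem h1
      refine ⟨_, h2, ?_⟩
      simp only [Subgroup.subtype_apply, Subgroup.coe_inv, Subgroup.coe_mul,
        MulAut.conjNormal_apply, commutatorElement_def]
      group
    exact Lib.Cores.le_pCore inferInstance (hker.to_le hle)
  have h1 := Subgroup.card_mul_index ρ.ker
  rw [Subgroup.index_ker] at h1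
  rw [← h1]
  refine Nat.mul_dvd_mul (Subgroup.card_dvd_of_le hρker) ?_
  rw [← Nat.card_congr e.toEquiv]
  exact Subgroup.card_subgroup_dvd_card _

/-- In a solvable group with `O_r(S) = 1` for all primes `r ≠ q`, `C(O_q(S)) ≤ O_q(S)`. -/
theorem centralizer_pCore_le [Group.IsSolvable S] {q : ℕ} [Fact q.Prime]
    (h : ∀ r : ℕ, r.Prime → r ≠ q → pCore r S = ⊥) :
    centralizer (pCore q S : Set S) ≤ pCore q S := by
  have h1 : fittingSubgroup S = pCore q S := by
    apply le_antisymm
    · rw [Lib.Cores.fittingSubgroup_eq_iSup_pCore]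
      refine iSup_le fun r => ?_
      by_cases hr : (r : ℕ) = q
      · rw [hr]
      · rw [h r r.2 hr]
        exact bot_le
    · exact Lib.Cores.pCore_le_fittingSubgroup q
  have h2 := S0044.result (G := S)
  rwa [h1] at h2

/-- The centralizer of `N` when `W` has length at most 2 as an `N`-module. -/
theorem SR.card_centralizer_le (R : SR p W S) (N : Subgroup S)
    (hlen : ∀ U₁ U₂ : Submodule (ZMod p) W, (∀ x ∈ N, ∀ u ∈ U₁, R.ρ x u ∈ U₁) →
      (∀ x ∈ N, ∀ u ∈ U₂, R.ρ x u ∈ U₂) → U₁ ≠ ⊥ → U₁ < U₂ → U₂ = ⊤)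
    (W₁ W₂ : Submodule (ZMod p) W) (h1 : W₁ ≠ ⊥) (hi1 : ∀ x ∈ N, ∀ u ∈ W₁, R.ρ x u ∈ W₁)
    (hc1 : ∀ c ∈ centralizer (N : Set S), ∀ u ∈ W₁, R.ρ c u ∈ W₁)
    (hc2 : ∀ c ∈ centralizer (N : Set S), ∀ u ∈ W₂, R.ρ c u ∈ W₂)
    (h2 : ∀ U ≤ W₁, U = ⊤ ∨ ¬ W₂ ≤ U) :
    Nat.card (centralizer (N : Set S)) ≤ Nat.card W₁ * Nat.card W₂ := by
  classical
  obtain ⟨U₁, hU₁⟩ := (Set.toFinite {U : Submodule (ZMod p) W | U ≠ ⊥ ∧ U ≤ W₁ ∧
    ∀ x ∈ N, ∀ u ∈ U, R.ρ x u ∈ U}).exists_minimal ⟨W₁, h1, le_rfl, hi1⟩
  obtain ⟨hne, hle, hinv⟩ := hU₁.prop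
  obtain ⟨t₁, ht₁, ht₁0⟩ := Submodule.exists_mem_ne_zero_of_ne_bot hne
  have ht₂ : ∃ t₂ ∈ W₂, U₁ = ⊤ ∨ t₂ ∉ U₁ := by
    rcases h2 U₁ hle with h | h
    · exact ⟨0, zero_mem _, Or.inl h⟩
    · obtain ⟨t, ht, htU⟩ := SetLike.not_le_iff_exists.mp h
      exact ⟨t, ht, Or.inr htU⟩
  obtain ⟨t₂, ht₂, ht₂U⟩ := ht₂
  have h3 := card_le_of_gen (ι := Fin 2) R.ρ R.inj (centralizer (N : Set S)) N
    (fun c hc x hx => (mem_centralizer_iff.mp hc x hx).symm) ![t₁, t₂]
    (fun U hU1 hU2 => by
      have h4 : t₁ ∈ U := hU2 0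
      have h5 : t₂ ∈ U := hU2 1
      have h6 : U₁ ≤ U := by
        have h7 : U₁ ≤ U₁ ⊓ U := by
          refine hU₁.le_of_le ⟨?_, inf_le_left.trans hle, ?_⟩ inf_le_left
          · intro hbot
            have h8 : t₁ ∈ U₁ ⊓ U := ⟨ht₁, h4⟩
            rw [hbot] at h8
            exact ht₁0 h8
          · intro x hx u hu
            exact ⟨hinv x hx u hu.1, hU1 x hx u hu.2⟩
        exact h7.trans inf_le_right
      rcases ht₂U with h | h
      · rw [eq_top_iff, ← h]
        exact h6
      · refine hlen U₁ U hinv hU1 hne (lt_of_le_of_ne h6 ?_)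
        intro heq
        rw [heq] at h
        exact h h5)
    ![(W₁ : Set W), (W₂ : Set W)]
    (fun i c hc => by
      fin_cases i
      · exact hc1 c hc t₁ (hle ht₁)
      · exact hc2 c hc t₂ ht₂)
  rw [Nat.card_pi, Fin.prod_univ_two] at h3
  exact h3

end Cfsg.Agent.H553.Sy
end

-- part: H553/SympTwo
section
/-!
# Solvable irreducible subgroups of `Sp_{2n}(2)`, `n = 3, 4, 5`
-/

set_option autoImplicit false

namespace Cfsg.Agent.H553.Sy

open Module SB Subgroup

universe u

instance fact_two : Fact (Nat.Prime 2) := ⟨Nat.prime_two⟩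

variable {W : Type u} [AddCommGroup W] [Module (ZMod 2) W] [Finite W]
  {S : Type u} [Group S] [Finite S]

theorem SR.finrank_eq {n : ℕ} (hW : Nat.card W = 2 ^ n) : finrank (ZMod 2) W = n := by
  have h1 := Module.natCard_eq_pow_finrank (K := ZMod 2) (V := W)
  rw [Nat.card_zmod, hW] at h1
  exact (Nat.pow_right_injective le_rfl h1).symm

theorem card_submodule (U : Submodule (ZMod 2) W) : Nat.card U = 2 ^ finrank (ZMod 2) U := by
  have h1 := Module.natCard_eq_pow_finrank (K := ZMod 2) (V := U)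
  rwa [Nat.card_zmod] at h1

/-- `W` has length at most two under a fixed point free `q`-group, for suitable numbers. -/
theorem SR.len_le (R : SR 2 W S) {q n : ℕ} [Fact q.Prime] (hW : Nat.card W = 2 ^ n)
    (hnum : ∀ a b, 0 < a → a < b → b ≤ n → 2 ^ a ≡ 1 [MOD q] → 2 ^ b ≡ 1 [MOD q] → b = n)
    (N : Subgroup S) (hN : IsPGroup q N) (hfix : ∀ w, (∀ x ∈ N, R.ρ x w = w) → w = 0)
    (U₁ U₂ : Submodule (ZMod 2) W) (h1 : ∀ x ∈ N, ∀ u ∈ U₁, R.ρ x u ∈ U₁)
    (h2 : ∀ x ∈ N, ∀ u ∈ U₂, R.ρ x u ∈ U₂) (hne : U₁ ≠ ⊥) (hlt : U₁ < U₂) : U₂ = ⊤ := by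
  have : FiniteDimensional (ZMod 2) W := Module.Finite.of_finite
  have h3 := R.card_modEq N hN hfix U₁ h1
  have h4 := R.card_modEq N hN hfix U₂ h2
  rw [card_submodule] at h3 h4
  have h5 := Submodule.finrank_lt_finrank_of_lt hlt
  have h6 : 0 < finrank (ZMod 2) U₁ := by
    rw [Nat.pos_iff_ne_zero, Ne, Submodule.finrank_eq_zero]
    exact hne
  have h7 := Submodule.finrank_le U₂
  have hWr := SR.finrank_eq hW
  rw [hWr] at h7
  refine Submodule.eq_top_of_finrank_eq ?_
  rw [hWr]
  exact hnum _ _ h6 h5 h7 h3 h4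

/-- The general bound for a normal `q`-subgroup. -/
theorem SR.card_le_len (R : SR 2 W S) {q n d : ℕ} [hq : Fact q.Prime] (hW : Nat.card W = 2 ^ n)
    (hn : 0 < n)
    (hnum : ∀ a b, 0 < a → a < b → b ≤ n → 2 ^ a ≡ 1 [MOD q] → 2 ^ b ≡ 1 [MOD q] → b = n)
    (N : Subgroup S) (hNn : N.Normal) (hN1 : N ≠ ⊥) (hd : 0 < d) (hN : Nat.card N = q ^ d) :
    Nat.card S ≤ (2 ^ n * 2 ^ n) * (q ^ d - 1) ^ d := by
  have hNp : IsPGroup q N := IsPGroup.of_card hN
  have hfix := R.fix_eq_zero N hNn hN1
  refine (card_le_centralizer hNn hq.out hN hd).trans (Nat.mul_le_mul_right _ ?_)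
  have hnt : Nontrivial W := by
    rw [← Finite.one_lt_card_iff_nontrivial, hW]
    exact Nat.one_lt_two_pow hn.ne'
  refine (R.card_centralizer_le N (R.len_le hW hnum N hNp hfix) ⊤ ⊤ top_ne_bot
    (fun _ _ _ _ => trivial) (fun _ _ _ _ => trivial) (fun _ _ _ _ => trivial) ?_).trans ?_
  · intro U _
    by_cases h : U = ⊤
    · exact Or.inl h
    · exact Or.inr (fun h1 => h (top_le_iff.mp h1))
  · rw [Nat.card_congr (Submodule.topEquiv (R := ZMod 2) (M := W)).toEquiv, hW]

omit [Finite S] in
theorem card_dvd_sp {n : ℕ} (R : SR 2 W S) (hW : Nat.card W = 2 ^ (2 * n)) :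
    Nat.card S ∣ 2 ^ (n ^ 2) * ∏ i ∈ Finset.range n, (2 ^ (2 * (i + 1)) - 1) := by
  obtain ⟨m, hm, f, hf⟩ := exists_embedding R.ρ R.inj R.B R.alt R.nd R.inv
  rw [hW] at hm
  have h1 : 2 * n = 2 * m := Nat.pow_right_injective le_rfl hm
  have h2 : n = m := by omega
  subst h2
  have h3 := LieClassical.SympCount.card_symplecticGroup (F := ZMod 2) n
  rw [ZMod.card] at h3
  rw [← h3]
  exact Subgroup.card_dvd_of_injective f hf

/-- The case that `O_r(S) = 1` for all `r ≠ 3`. -/
theorem SR.three_case [Group.IsSolvable S] (R : SR 2 W S) {n : ℕ}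
    (hW : Nat.card W = 2 ^ (2 * n)) (h : ∀ r : ℕ, r.Prime → r ≠ 3 → pCore r S = ⊥) :
    ∃ b d : ℕ, 3 ^ b ∣ Nat.card S ∧ (d ≤ n ∨ d < b) ∧ d ≤ b ∧
      Nat.card S ∣ 3 ^ b * ∏ i : Fin d, (3 ^ d - 3 ^ (i : ℕ)) := by
  have h3 : Fact (Nat.Prime 3) := ⟨Nat.prime_three⟩
  have : FiniteDimensional (ZMod 2) W := Module.Finite.of_finite
  have hc := centralizer_pCore_le h
  obtain ⟨d, hd, hdvd⟩ := card_dvd_frat hc
  have hP : IsPGroup 3 (pCore 3 S) := Lib.Cores.pCore_isPGroup 3
  obtain ⟨b, hb⟩ := IsPGroup.iff_card.mp hP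
  rw [hb, Matrix.card_GL_field, ZMod.card] at hdvd
  have hdb : d ≤ b := by
    have h4 : Nat.card (pCore 3 S ⧸ frattini (pCore 3 S)) ∣ Nat.card (pCore 3 S) :=
      Subgroup.card_quotient_dvd_card _
    rw [hd, hb] at h4
    exact (Nat.pow_dvd_pow_iff_le_right (by norm_num)).mp h4
  refine ⟨b, d, ?_, ?_, hdb, hdvd⟩
  · rw [← hb]
    exact Subgroup.card_subgroup_dvd_card _
  · rcases Nat.lt_or_ge d b with h5 | h5
    · exact Or.inr h5
    · left
      have h6 : d = b := le_antisymm hdb h5
      -- `Φ(P) = 1`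
      have hF : frattini (pCore 3 S) = ⊥ := by
        have h7 := Subgroup.card_mul_index (frattini (pCore 3 S))
        have h8 : (frattini (pCore 3 S)).index = 3 ^ d := hd
        rw [h8, hb, h6] at h7
        have h9 : Nat.card (frattini (pCore 3 S)) = 1 := by
          have : 0 < 3 ^ b := by positivity
          exact Nat.eq_of_mul_eq_mul_right this (by rw [h7, one_mul])
        exact Subgroup.card_eq_one.mp h9
      have hpow : ∀ x : pCore 3 S, x ^ 3 = 1 := by
        intro x
        have := Lib.FrattiniPGroup.pow_mem_frattini hP x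
        rwa [hF, mem_bot] at this
      have hcomm : ∀ x y : pCore 3 S, x * y = y * x := by
        intro x y
        have := Lib.FrattiniPGroup.commutator_mem_frattini hP x y
        rw [hF, mem_bot] at this
        exact commutatorElement_eq_one_iff_mul_comm.mp this
      let _ : CommGroup (pCore 3 S) := { (inferInstance : Group (pCore 3 S)) with
        mul_comm := hcomm }
      have h10 := SigZeroU5.card_sq_le_of_symp (K := ZMod 2) Nat.prime_three (by decide)
        (2 * n) W (SR.finrank_eq hW) R.B R.alt R.nd (pCore 3 S) hpow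
        (R.ρ.comp (pCore 3 S).subtype) (R.inj.comp (pCore 3 S).subtype_injective)
        (fun a v w => R.inv a v w)
      rw [hb, ← pow_mul] at h10
      have h11 := (Nat.pow_le_pow_iff_right (by norm_num : 1 < 3)).mp h10
      omega

/-- The primes `q` with `O_q(S) ≠ 1` divide `|W| - 1`. -/
theorem SR.prime_dvd (R : SR 2 W S) {n q : ℕ} (hW : Nat.card W = 2 ^ n) (hq : q.Prime)
    (h : pCore q S ≠ ⊥) : q ∣ 2 ^ n - 1 := by
  have : Fact q.Prime := ⟨hq⟩
  have h1 := R.dvd_of_pCore h
  rw [hW] at h1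
  exact (Nat.modEq_iff_dvd' Nat.one_le_two_pow).mp h1.symm

/-- `n = 5`. -/
theorem SR.five [Group.IsSolvable S] (R : SR 2 W S) (hW : Nat.card W = 2 ^ (2 * 5)) :
    Nat.card S ≤ 3 ^ (2 ^ 5 - 1) := by
  have hdvd := card_dvd_sp R hW
  norm_num [Finset.prod_range_succ] at hdvd
  by_cases hq : ∃ q : ℕ, q.Prime ∧ q ≠ 3 ∧ pCore q S ≠ ⊥
  · obtain ⟨q, hqp, hq3, hqc⟩ := hq
    have : Fact q.Prime := ⟨hqp⟩
    have h1 := R.prime_dvd hW hqp hqc
    have h2 : q = 3 ∨ q = 11 ∨ q = 31 := by
      have h3 : q ∣ 3 * (11 * 31) := by norm_num at h1 ⊢; exact h1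
      rcases hqp.dvd_mul.mp h3 with h3 | h3
      · exact Or.inl ((Nat.prime_dvd_prime_iff_eq hqp (by norm_num)).mp h3)
      · rcases hqp.dvd_mul.mp h3 with h3 | h3
        · exact Or.inr (Or.inl ((Nat.prime_dvd_prime_iff_eq hqp (by norm_num)).mp h3))
        · exact Or.inr (Or.inr ((Nat.prime_dvd_prime_iff_eq hqp (by norm_num)).mp h3))
    obtain ⟨N, d, hNn, hN1, hd, hNc, hNex, hNcomm⟩ := exists_min hqc
    have h4 : q ^ d ∣ 24815256521932800 := by
      rw [← hNc]
      exact (Subgroup.card_subgroup_dvd_card N).trans hdvd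
    rcases h2 with rfl | rfl | rfl
    · exact absurd rfl hq3
    · have hd1 : d = 1 := by
        by_contra hne
        have h5 : 11 ^ 2 ∣ 24815256521932800 := (pow_dvd_pow 11 (by omega)).trans h4
        norm_num at h5
      subst hd1
      refine (R.card_le_len hW (by norm_num) ?_ N hNn hN1 hd hNc).trans (by norm_num)
      intro a b ha hab hb h6 h7
      have hb2 : 2 ≤ b := by omega
      interval_cases b <;> first | rfl | (revert h7; decide)
    · have hd1 : d = 1 := by
        by_contra hne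
        have h5 : 31 ^ 2 ∣ 24815256521932800 := (pow_dvd_pow 31 (by omega)).trans h4
        norm_num at h5
      subst hd1
      refine (R.card_le_len hW (by norm_num) ?_ N hNn hN1 hd hNc).trans (by norm_num)
      intro a b ha hab hb h6 h7
      interval_cases b <;> interval_cases a <;> first | rfl | (revert h7; decide) | (revert h6; decide)
  · push Not at hq
    obtain ⟨b, d, h1, h2, h3, h4⟩ := R.three_case hW hq
    have hb : b ≤ 6 := by
      by_contra hne
      have h5 : 3 ^ 7 ∣ 24815256521932800 := ((pow_dvd_pow 3 (by omega)).trans h1).trans hdvd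
      norm_num at h5
    have h5 : Nat.card S ∣ 3 ^ 6 * ∏ i : Fin d, (3 ^ d - 3 ^ (i : ℕ)) :=
      h4.trans (Nat.mul_dvd_mul_right (pow_dvd_pow 3 hb) _)
    have hd : d ≤ 6 := h3.trans hb
    have h6 := Nat.dvd_gcd hdvd h5
    have h7 := Nat.le_of_dvd (Nat.gcd_pos_of_pos_left _ (by norm_num)) h6
    refine h7.trans ?_
    clear h6 h7 h5 h4 h2 h1 h3
    interval_cases d <;> norm_num [Fin.prod_univ_succ]

/-- `n = 4`. -/
theorem SR.four [Group.IsSolvable S] (R : SR 2 W S) (hW : Nat.card W = 2 ^ (2 * 4)) :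
    Nat.card S ≤ 3 ^ (2 ^ 4 - 1) := by
  classical
  have hdvd := card_dvd_sp R hW
  norm_num [Finset.prod_range_succ] at hdvd
  by_cases hq : ∃ q : ℕ, q.Prime ∧ q ≠ 3 ∧ pCore q S ≠ ⊥
  · obtain ⟨q, hqp, hq3, hqc⟩ := hq
    have : Fact q.Prime := ⟨hqp⟩
    have h1 := R.prime_dvd hW hqp hqc
    have h2 : q = 3 ∨ q = 5 ∨ q = 17 := by
      have h3 : q ∣ 3 * (5 * 17) := by norm_num at h1 ⊢; exact h1
      rcases hqp.dvd_mul.mp h3 with h3 | h3
      · exact Or.inl ((Nat.prime_dvd_prime_iff_eq hqp (by norm_num)).mp h3)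
      · rcases hqp.dvd_mul.mp h3 with h3 | h3
        · exact Or.inr (Or.inl ((Nat.prime_dvd_prime_iff_eq hqp (by norm_num)).mp h3))
        · exact Or.inr (Or.inr ((Nat.prime_dvd_prime_iff_eq hqp (by norm_num)).mp h3))
    obtain ⟨N, d, hNn, hN1, hd, hNc, hNex, hNcomm⟩ := exists_min hqc
    have h4 : q ^ d ∣ 47377612800 := by
      rw [← hNc]
      exact (Subgroup.card_subgroup_dvd_card N).trans hdvd
    rcases h2 with rfl | rfl | rfl
    · exact absurd rfl hq3
    · have hnum : ∀ a b, 0 < a → a < b → b ≤ 2 * 4 → 2 ^ a ≡ 1 [MOD 5] → 2 ^ b ≡ 1 [MOD 5] →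
          b = 2 * 4 := by
        intro a b ha hab hb h6 h7
        interval_cases b <;> interval_cases a <;>
          first | rfl | (revert h7; decide) | (revert h6; decide)
      have hd2 : d ≤ 2 := by
        by_contra hne
        have h5 : 5 ^ 3 ∣ 47377612800 := (pow_dvd_pow 5 (by omega)).trans h4
        norm_num at h5
      have hd3 : d = 1 ∨ d = 2 := by omega
      rcases hd3 with rfl | rfl
      · exact (R.card_le_len hW (by norm_num) hnum N hNn hN1 hd hNc).trans (by norm_num)
      · -- `|N| = 25`: some element of `N` has fixed points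
        have hNp : IsPGroup 5 N := IsPGroup.of_card hNc
        have hfix := R.fix_eq_zero N hNn hN1
        have hx : ∃ x ∈ N, x ≠ 1 ∧ ∃ w, w ≠ 0 ∧ R.ρ x w = w := by
          by_contra hcon
          push Not at hcon
          let _ : MulAction N {w : W // w ≠ 0} :=
            { smul := fun x w => ⟨R.ρ x w, fun h => w.2 (by
                have h5 : R.ρ (x : S)⁻¹ (R.ρ x w) = w := by
                  rw [← R.apply_mul, inv_mul_cancel, R.apply_one]
                rw [← h5, h, map_zero])⟩
              one_smul := fun w => Subtype.ext (R.apply_one _)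
              mul_smul := fun x y w => Subtype.ext (R.apply_mul _ _ _) }
          have h5 := H363.Frat.card_dvd_of_free (A := N) (Y := {w : W // w ≠ 0}) (by
            intro a y hay
            by_contra ha
            exact hcon a a.2 (fun h => ha (Subtype.ext h)) y y.2 (congrArg Subtype.val hay))
          have := Fintype.ofFinite W
          rw [hNc, Nat.card_eq_fintype_card, Fintype.card_subtype_compl, Fintype.card_subtype_eq,
            ← Nat.card_eq_fintype_card, hW] at h5
          norm_num at h5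
        obtain ⟨x, hxN, hx1, w, hw0, hw⟩ := hx
        let W₁ : Submodule (ZMod 2) W := LinearMap.ker (R.ρ x - 1)
        have hmem : ∀ v, v ∈ W₁ ↔ R.ρ x v = v := by
          intro v
          change v ∈ LinearMap.ker (R.ρ x - 1) ↔ _
          rw [LinearMap.mem_ker, LinearMap.sub_apply, Module.End.one_apply, sub_eq_zero]
        have hne : W₁ ≠ ⊥ := by
          intro h
          have h5 : w ∈ W₁ := (hmem w).mpr hw
          rw [h] at h5
          exact hw0 h5
        have hinv : ∀ c : S, c * x = x * c → ∀ u ∈ W₁, R.ρ c u ∈ W₁ := by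
          intro c hc u hu
          rw [hmem] at hu ⊢
          rw [← R.apply_mul, ← hc, R.apply_mul, hu]
        have hi1 : ∀ y ∈ N, ∀ u ∈ W₁, R.ρ y u ∈ W₁ := fun y hy => hinv y (hNcomm y hy x hxN)
        have hnt : W₁ ≠ ⊤ := by
          intro h
          apply hx1
          apply R.inj
          rw [map_one]
          ext v
          exact (hmem v).mp (by rw [h]; trivial)
        have hlt : W₁ < ⊤ := lt_top_iff_ne_top.mpr hnt
        have : FiniteDimensional (ZMod 2) W := Module.Finite.of_finite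
        have h5 := R.card_modEq N hNp hfix W₁ hi1
        rw [card_submodule] at h5
        have h6 := Submodule.finrank_lt (lt_top_iff_ne_top.mp hlt)
        rw [SR.finrank_eq hW] at h6
        have h7 : Nat.card W₁ ≤ 16 := by
          rw [card_submodule]
          have h8 : finrank (ZMod 2) W₁ ≤ 4 := by
            by_contra h9
            push Not at h9
            generalize finrank (ZMod 2) W₁ = r at *
            interval_cases r <;> (revert h5; decide)
          exact Nat.pow_le_pow_right (by norm_num) h8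
        have h8 := R.card_centralizer_le N (R.len_le hW hnum N hNp hfix) W₁ ⊤ hne hi1
          (fun c hc => hinv c (mem_centralizer_iff.mp hc x hxN).symm)
          (fun _ _ _ _ => trivial) (by
            intro U hU
            right
            intro h9
            exact hnt (top_le_iff.mp (h9.trans hU)))
        rw [Nat.card_congr (Submodule.topEquiv (R := ZMod 2) (M := W)).toEquiv, hW] at h8
        have h9 := card_le_centralizer hNn hqp hNc hd
        refine h9.trans ?_
        have h10 := h8.trans (Nat.mul_le_mul_right _ h7)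
        exact (Nat.mul_le_mul_right _ h10).trans (by norm_num)
    · have hd1 : d = 1 := by
        by_contra hne
        have h5 : 17 ^ 2 ∣ 47377612800 := (pow_dvd_pow 17 (by omega)).trans h4
        norm_num at h5
      subst hd1
      refine (R.card_le_len hW (by norm_num) ?_ N hNn hN1 hd hNc).trans (by norm_num)
      intro a b ha hab hb h6 h7
      have hb2 : 2 ≤ b := by omega
      interval_cases b <;> first | rfl | (revert h7; decide)
  · push Not at hq
    obtain ⟨b, d, h1, h2, h3, h4⟩ := R.three_case hW hq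
    have hb : b ≤ 5 := by
      by_contra hne
      have h5 : 3 ^ 6 ∣ 47377612800 := ((pow_dvd_pow 3 (by omega)).trans h1).trans hdvd
      norm_num at h5
    have h5 : Nat.card S ∣ 3 ^ 5 * ∏ i : Fin d, (3 ^ d - 3 ^ (i : ℕ)) :=
      h4.trans (Nat.mul_dvd_mul_right (pow_dvd_pow 3 hb) _)
    have hd : d ≤ 4 := by omega
    have h6 := Nat.dvd_gcd hdvd h5
    have h7 := Nat.le_of_dvd (Nat.gcd_pos_of_pos_left _ (by norm_num)) h6
    refine h7.trans ?_
    clear h6 h7 h5 h4 h2 h1 h3
    interval_cases d <;> norm_num [Fin.prod_univ_succ]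

omit [Finite W] [Finite S] in
/-- An element of order 7 preserving a symplectic form in characteristic 2 does not satisfy
`X³ + X + 1`. -/
theorem SR.seven_aux (R : SR 2 W S) {x : S} (hx : x ^ 7 = 1) (hx1 : x ≠ 1) :
    ¬ ∀ v, R.ρ x (R.ρ x (R.ρ x v)) = R.ρ x v + v := by
  intro h
  have h2 : ∀ a : ZMod 2, a + a = 0 := by decide
  have h2W : ∀ w : W, w + w = 0 := by
    intro w
    have : (2 : ZMod 2) • w = 0 := by
      rw [show (2 : ZMod 2) = 0 by decide, zero_smul]
    rwa [two_smul] at this
  have e1 : ∀ v w, R.B v w = R.B (R.ρ x v) w + R.B v (R.ρ x w) := by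
    intro v w
    have h3 := R.inv x (R.ρ x (R.ρ x v)) (R.ρ x (R.ρ x w))
    rw [h, h, R.inv, R.inv] at h3
    simp only [map_add, LinearMap.add_apply, R.inv] at h3
    linear_combination h3 - h2 (R.B (R.ρ x v) w) - h2 (R.B v (R.ρ x w))
  have e2 : ∀ v w, R.B v (R.ρ x w + w + R.ρ x (R.ρ x w)) = 0 := by
    intro v w
    have h3 := e1 v (R.ρ x w)
    rw [R.inv] at h3
    simp only [map_add]
    have h4 := h2 (R.B v (R.ρ x w))
    linear_combination h4 - h3
  have e3 : ∀ w, R.ρ x w + w + R.ρ x (R.ρ x w) = 0 := by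
    intro w
    apply R.nd
    intro v
    have hsw : ∀ v w, R.B v w = - R.B w v := by
      intro v w
      have := R.alt (v + w)
      simp only [map_add, LinearMap.add_apply, R.alt, zero_add, add_zero] at this
      exact eq_neg_of_add_eq_zero_right this
    rw [hsw, e2, neg_zero]
  -- `x ^ 3 = 1`
  have e4 : x ^ 3 = 1 := by
    apply R.inj
    rw [map_one]
    ext w
    rw [pow_succ, pow_two, R.apply_mul, R.apply_mul, h, Module.End.one_apply]
    have h3 := e3 w
    have h4 := e3 (R.ρ x w)
    rw [h] at h4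
    have h5 := h2W w
    have h6 := h2W (R.ρ x w)
    have h7 : R.ρ x (R.ρ x w) = - (R.ρ x w + w) := (neg_eq_of_add_eq_zero_right h3).symm
    rw [h7] at h4
    have h8 : R.ρ x w = 0 := by
      have : -(R.ρ x w + w) + R.ρ x w + (R.ρ x w + w) = R.ρ x w := by abel
      rwa [this] at h4
    rw [h8, zero_add]
  apply hx1
  calc x = x ^ 7 * (x ^ 3)⁻¹ * (x ^ 3)⁻¹ := by group
    _ = 1 := by rw [hx, e4]; simp

/-- `n = 3`. -/
theorem SR.three [Group.IsSolvable S] (R : SR 2 W S) (hW : Nat.card W = 2 ^ (2 * 3)) :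
    Nat.card S ≤ 2592 := by
  classical
  have hdvd := card_dvd_sp R hW
  norm_num [Finset.prod_range_succ] at hdvd
  by_cases hq : ∃ q : ℕ, q.Prime ∧ q ≠ 3 ∧ pCore q S ≠ ⊥
  · obtain ⟨q, hqp, hq3, hqc⟩ := hq
    have : Fact q.Prime := ⟨hqp⟩
    have h1 := R.prime_dvd hW hqp hqc
    have h2 : q = 7 := by
      have h3 : q ∣ 3 * (3 * 7) := by norm_num at h1 ⊢; exact h1
      rcases hqp.dvd_mul.mp h3 with h3 | h3
      · exact absurd ((Nat.prime_dvd_prime_iff_eq hqp (by norm_num)).mp h3) hq3
      · rcases hqp.dvd_mul.mp h3 with h3 | h3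
        · exact absurd ((Nat.prime_dvd_prime_iff_eq hqp (by norm_num)).mp h3) hq3
        · exact (Nat.prime_dvd_prime_iff_eq hqp (by norm_num)).mp h3
    subst h2
    obtain ⟨N, d, hNn, hN1, hd, hNc, hNex, hNcomm⟩ := exists_min hqc
    have h4 : 7 ^ d ∣ 1451520 := by
      rw [← hNc]
      exact (Subgroup.card_subgroup_dvd_card N).trans hdvd
    have hd1 : d = 1 := by
      by_contra hne
      have h5 : 7 ^ 2 ∣ 1451520 := (pow_dvd_pow 7 (by omega)).trans h4
      norm_num at h5
    subst hd1
    have hnum : ∀ a b, 0 < a → a < b → b ≤ 2 * 3 → 2 ^ a ≡ 1 [MOD 7] → 2 ^ b ≡ 1 [MOD 7] →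
        b = 2 * 3 := by
      intro a b ha hab hb h6 h7
      interval_cases b <;> interval_cases a <;>
        first | rfl | (revert h7; decide) | (revert h6; decide)
    have hNp : IsPGroup 7 N := IsPGroup.of_card hNc
    have hfix := R.fix_eq_zero N hNn hN1
    obtain ⟨x, hxN, hx1⟩ := (Subgroup.bot_or_exists_ne_one N).resolve_left hN1
    have hx7 : x ^ 7 = 1 := hNex x hxN
    have hxord : orderOf x = 7 := orderOf_eq_prime hx7 hx1
    have hNz : N = zpowers x := by
      symm
      apply Subgroup.eq_of_le_of_card_ge (zpowers_le.mpr hxN)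
      rw [hNc, Nat.card_zpowers, hxord, pow_one]
    have hfix' : ∀ w, R.ρ x w = w → w = 0 := by
      intro w hw
      apply hfix
      let St : Subgroup S :=
        { carrier := {s | R.ρ s w = w}
          mul_mem' := fun {s t} hs ht => by
            change R.ρ (s * t) w = w
            rw [R.apply_mul, show R.ρ t w = w from ht, show R.ρ s w = w from hs]
          one_mem' := R.apply_one w
          inv_mem' := fun {s} hs => by
            change R.ρ s⁻¹ w = w
            have h5 : R.ρ s⁻¹ (R.ρ s w) = w := by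
              rw [← R.apply_mul, inv_mul_cancel, R.apply_one]
            rwa [show R.ρ s w = w from hs] at h5 }
      intro y hy
      rw [hNz] at hy
      have h5 : zpowers x ≤ St := zpowers_le.mpr hw
      exact h5 hy
    have h2W : ∀ w : W, w + w = 0 := by
      intro w
      have : (2 : ZMod 2) • w = 0 := by
        rw [show (2 : ZMod 2) = 0 by decide, zero_smul]
      rwa [two_smul] at this
    let T := R.ρ x
    have hT7 : ∀ v, T (T (T (T (T (T (T v)))))) = v := by
      intro v
      have h5 : R.ρ (x ^ 7) v = v := by rw [hx7, R.apply_one]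
      simpa only [pow_succ, pow_zero, one_mul, R.apply_mul] using h5
    have hsum : ∀ v, T (T (T (T (T (T v))))) + T (T (T (T (T v)))) + T (T (T (T v))) + T (T (T v)) +
        T (T v) + T v + v = 0 := by
      intro v
      apply hfix'
      change T _ = _
      simp only [map_add]
      rw [hT7]
      abel
    let f : Module.End (ZMod 2) W := T * T * T + T + 1
    let g : Module.End (ZMod 2) W := T * T * T + T * T + 1
    have hf : ∀ v, f v = T (T (T v)) + T v + v := fun v => rfl
    have hg : ∀ v, g v = T (T (T v)) + T (T v) + v := fun v => rfl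
    have hfg : ∀ v, f (g v) = 0 := by
      intro v
      rw [hf, hg]
      simp only [map_add]
      have h5 := hsum v
      have h6 := h2W (T (T (T v)))
      calc _ = (T (T (T (T (T (T v))))) + T (T (T (T (T v)))) + T (T (T (T v))) + T (T (T v)) +
        T (T v) + T v + v) + (T (T (T v)) + T (T (T v))) := by abel
        _ = 0 := by rw [h5, h6, add_zero]
    have hgf : ∀ v, g (f v) = 0 := by
      intro v
      rw [← hfg v]
      simp only [hf, hg, map_add]
      abel
    have hfne : ¬ ∀ v, f v = 0 := by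
      intro h
      refine R.seven_aux hx7 hx1 (fun v => ?_)
      have h5 := h v
      rw [hf] at h5
      have h6 := h2W (T v + v)
      have h7 : T (T (T v)) = - (T v + v) := by
        apply eq_neg_of_add_eq_zero_left
        rw [← h5]
        abel
      change T (T (T v)) = T v + v
      rw [h7]
      exact neg_eq_of_add_eq_zero_left h6
    have hgne : ¬ ∀ v, g v = 0 := by
      intro h
      refine R.seven_aux (x := x⁻¹) (by rw [inv_pow, hx7, inv_one]) (by simpa using hx1) (fun v => ?_)
      have hTi : ∀ u, T (R.ρ x⁻¹ u) = u := by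
        intro u
        change R.ρ x (R.ρ x⁻¹ u) = u
        rw [← R.apply_mul, mul_inv_cancel, R.apply_one]
      have h5 := h (R.ρ x⁻¹ (R.ρ x⁻¹ (R.ρ x⁻¹ v)))
      rw [hg, hTi, hTi, hTi] at h5
      have h6 := h2W (R.ρ x⁻¹ v + v)
      have h7 : R.ρ x⁻¹ (R.ρ x⁻¹ (R.ρ x⁻¹ v)) = - (R.ρ x⁻¹ v + v) := by
        apply eq_neg_of_add_eq_zero_left
        rw [← h5]
        abel
      rw [h7]
      exact neg_eq_of_add_eq_zero_left h6
    -- commutation
    have hcT : ∀ c : S, c * x = x * c → ∀ v, R.ρ c (T v) = T (R.ρ c v) := by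
      intro c hc v
      change R.ρ c (R.ρ x v) = R.ρ x (R.ρ c v)
      rw [← R.apply_mul, hc, R.apply_mul]
    have hcf : ∀ c : S, c * x = x * c → ∀ v, f (R.ρ c v) = R.ρ c (f v) := by
      intro c hc v
      simp only [hf, map_add, hcT c hc]
    have hcg : ∀ c : S, c * x = x * c → ∀ v, g (R.ρ c v) = R.ρ c (g v) := by
      intro c hc v
      simp only [hg, map_add, hcT c hc]
    have hinv1 : ∀ c : S, c * x = x * c → ∀ u ∈ LinearMap.ker f, R.ρ c u ∈ LinearMap.ker f := by
      intro c hc u hu
      rw [LinearMap.mem_ker] at hu ⊢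
      rw [hcf c hc, hu, map_zero]
    have hinv2 : ∀ c : S, c * x = x * c → ∀ u ∈ LinearMap.ker g, R.ρ c u ∈ LinearMap.ker g := by
      intro c hc u hu
      rw [LinearMap.mem_ker] at hu ⊢
      rw [hcg c hc, hu, map_zero]
    have hNx : ∀ y ∈ N, y * x = x * y := fun y hy => hNcomm y hy x hxN
    have hftop : LinearMap.ker f ≠ ⊤ := fun h => hfne (fun v => by
      have h5 : v ∈ LinearMap.ker f := by rw [h]; trivial
      exact h5)
    have hgtop : LinearMap.ker g ≠ ⊤ := fun h => hgne (fun v => by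
      have h5 : v ∈ LinearMap.ker g := by rw [h]; trivial
      exact h5)
    have hfbot : LinearMap.ker f ≠ ⊥ := fun h => hgne (fun v => by
      have h5 : g v ∈ LinearMap.ker f := hfg v
      rw [h] at h5
      exact h5)
    have hgbot : LinearMap.ker g ≠ ⊥ := fun h => hfne (fun v => by
      have h5 : f v ∈ LinearMap.ker g := hgf v
      rw [h] at h5
      exact h5)
    have : FiniteDimensional (ZMod 2) W := Module.Finite.of_finite
    have hcard : ∀ U : Submodule (ZMod 2) W, (∀ y ∈ N, ∀ u ∈ U, R.ρ y u ∈ U) → U ≠ ⊤ →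
        Nat.card U ≤ 8 := by
      intro U hU hU1
      have h5 := R.card_modEq N hNp hfix U hU
      rw [card_submodule] at h5 ⊢
      have h6 := Submodule.finrank_lt hU1
      rw [SR.finrank_eq hW] at h6
      have h8 : finrank (ZMod 2) U ≤ 3 := by
        by_contra h9
        push Not at h9
        generalize finrank (ZMod 2) U = r at *
        interval_cases r <;> (revert h5; decide)
      exact Nat.pow_le_pow_right (n := 2) (by norm_num) h8
    have h8 := R.card_centralizer_le N (R.len_le hW hnum N hNp hfix) (LinearMap.ker f)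
      (LinearMap.ker g) hfbot (fun y hy => hinv1 y (hNx y hy))
      (fun c hc => hinv1 c (mem_centralizer_iff.mp hc x hxN).symm)
      (fun c hc => hinv2 c (mem_centralizer_iff.mp hc x hxN).symm) (by
        intro U hU
        right
        intro h9
        obtain ⟨w, hw, hw0⟩ := Submodule.exists_mem_ne_zero_of_ne_bot hgbot
        apply hw0
        have h10 : f w = 0 := (h9.trans hU) hw
        have h11 : g w = 0 := hw
        rw [hf] at h10
        rw [hg] at h11
        apply hfix'
        have h12 : T (T w) = T w := by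
          have h13 : T (T (T w)) + T (T w) + w = T (T (T w)) + T w + w := by rw [h10, h11]
          exact add_left_cancel (add_right_cancel h13)
        have h14 : ∀ u v, T u = T v → u = v := by
          intro u v huv
          have h15 : R.ρ x⁻¹ (R.ρ x u) = R.ρ x⁻¹ (R.ρ x v) := congrArg _ huv
          rwa [← R.apply_mul, ← R.apply_mul, inv_mul_cancel, R.apply_one, R.apply_one] at h15
        exact h14 _ _ h12)
    have h9 := card_le_centralizer hNn hqp hNc hd
    refine h9.trans ?_
    have h10 := h8.trans (Nat.mul_le_mul (hcard _ (fun y hy => hinv1 y (hNx y hy)) hftop)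
      (hcard _ (fun y hy => hinv2 y (hNx y hy)) hgtop))
    exact (Nat.mul_le_mul_right _ h10).trans (by norm_num)
  · push Not at hq
    obtain ⟨b, d, h1, h2, h3, h4⟩ := R.three_case hW hq
    have hb : b ≤ 4 := by
      by_contra hne
      have h5 : 3 ^ 5 ∣ 1451520 := ((pow_dvd_pow 3 (by omega)).trans h1).trans hdvd
      norm_num at h5
    have h5 : Nat.card S ∣ 3 ^ 4 * ∏ i : Fin d, (3 ^ d - 3 ^ (i : ℕ)) :=
      h4.trans (Nat.mul_dvd_mul_right (pow_dvd_pow 3 hb) _)
    have hd : d ≤ 3 := by omega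
    have h6 := Nat.dvd_gcd hdvd h5
    have h7 := Nat.le_of_dvd (Nat.gcd_pos_of_pos_left _ (by norm_num)) h6
    refine h7.trans ?_
    clear h6 h7 h5 h4 h2 h1 h3
    interval_cases d <;> norm_num [Fin.prod_univ_succ]

end Cfsg.Agent.H553.Sy
end

-- part: H553/SympAll
section
/-!
# Classes of solvable irreducible symplectic groups

`SR.subB`: if the finite solvable group `S` acts faithfully and irreducibly on the symplectic space
`W` of order `p ^ (2 n)`, every subgroup of `S` has at most `3 ^ (p ^ n - 1)` conjugacy classes.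
-/

set_option autoImplicit false

namespace Cfsg.Agent.H553.Sy

open Module SB Subgroup

universe u

/-- A solvable subgroup of `Sp_4(3)` has index at least 8. -/
theorem card_le_quasi {S X : Type*} [Group S] [Finite S] [Group.IsSolvable S] [Group X] [Finite X]
    (hcard : Nat.card X = 51840) (hcen : Nat.card (center X) = 2) (hperf : commutator X = ⊤)
    (hsimp : ∀ N : Subgroup X, N.Normal → ¬ N ≤ center X → commutator X ≤ N)
    (f : S →* X) (hf : Function.Injective f) : Nat.card S ≤ 6561 := by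
  classical
  have hR : Nat.card f.range = Nat.card S :=
    (Nat.card_congr (MonoidHom.ofInjective hf).toEquiv).symm
  have hRs : Group.IsSolvable f.range := Group.isSolvable_of_surjective f.rangeRestrict_surjective
  have hidx := Subgroup.card_mul_index f.range
  rw [hR, hcard] at hidx
  by_contra hlt
  push Not at hlt
  have hi : f.range.index ≤ 7 := by
    by_contra h
    push Not at h
    have := Nat.mul_le_mul hlt.le h
    omega
  have h1 : f.range.normalCore.index ∣ f.range.index.factorial := by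
    rw [normalCore_eq_ker, index_ker, index_eq_card, ← Nat.card_perm]
    exact card_subgroup_dvd_card (MulAction.toPermHom X (X ⧸ f.range)).range
  have h2 : f.range.normalCore.index ≤ 5040 :=
    (Nat.le_of_dvd (Nat.factorial_pos _) h1).trans (Nat.factorial_le hi)
  have h3 := Subgroup.card_mul_index f.range.normalCore
  rw [hcard] at h3
  by_cases hc : f.range.normalCore ≤ center X
  · have h4 : Nat.card f.range.normalCore ≤ 2 := by
      rw [← hcen]
      exact Subgroup.card_le_of_le hc
    have := Nat.mul_le_mul h4 h2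
    omega
  · have h5 := hsimp _ inferInstance hc
    have h6 : f.range = ⊤ := by
      rw [eq_top_iff, ← hperf]
      exact h5.trans (Subgroup.normalCore_le _)
    -- `X` would be solvable
    have h7 : Group.IsSolvable (⊤ : Subgroup X) := by rw [← h6]; exact hRs
    have h8 : Group.IsSolvable X :=
      Group.isSolvable_of_surjective (f := (⊤ : Subgroup X).subtype) (fun x => ⟨⟨x, trivial⟩, rfl⟩)
    have h9 : Nontrivial X := by
      rw [← Finite.one_lt_card_iff_nontrivial, hcard]
      norm_num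
    have h10 := Group.IsSolvable.commutator_lt_top_of_nontrivial X
    exact h10.ne hperf

theorem card_le_sp43 {S : Type*} [Group S] [Finite S] [Group.IsSolvable S] [Fact (Nat.Prime 3)]
    (f : S →* Matrix.symplecticGroup (Fin 2) (ZMod 3)) (hf : Function.Injective f) :
    Nat.card S ≤ 6561 := by
  have hcard : Nat.card (Matrix.symplecticGroup (Fin 2) (ZMod 3)) = 51840 := by
    rw [LieClassical.SympCount.card_symplecticGroup, ZMod.card]
    norm_num [Finset.prod_range_succ]
  have hcen : Nat.card (center (Matrix.symplecticGroup (Fin 2) (ZMod 3))) = 2 := by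
    rw [S0246.result (F := ZMod 3) (ZMod.card 3) 2 (by norm_num)]
    norm_num
  exact card_le_quasi hcard hcen
    (LieClassical.SympPerfect.commutator_eq_top (Or.inr (Or.inl ⟨rfl, by rw [ZMod.card]⟩)))
    (fun N hN hc =>
      have := hN
      LieClassical.SympSimple.commutator_le_of_not_le_center (S0765.result 2) _ hc) f hf

/-- A solvable subgroup of `Sp_4(2)` has at most 24 classes. -/
theorem le_sp42 {S : Type*} [Group S] [Finite S] [Group.IsSolvable S] [Fact (Nat.Prime 2)]
    (f : S →* Matrix.symplecticGroup (Fin 2) (ZMod 2)) (hf : Function.Injective f) :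
    Nat.card (ConjClasses S) ≤ 24 := by
  obtain ⟨e⟩ := LieClassical.SpFourTwo.nonempty_equiv_perm (F := ZMod 2) (ZMod.card 2)
  have hinj : Function.Injective (e.toMonoidHom.comp f) := e.injective.comp hf
  rw [KClass.congr (MonoidHom.ofInjective hinj)]
  exact SolvPerm.six (Fin 6) (by simp) _
    (Group.isSolvable_of_surjective (MonoidHom.rangeRestrict_surjective (e.toMonoidHom.comp f)))

/-- `n = 3`, the number of classes. -/
theorem SR.subB_three {W : Type u} [AddCommGroup W] [Module (ZMod 2) W] [Finite W]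
    {S : Type u} [Group S] [Finite S] [Group.IsSolvable S] (R : SR 2 W S)
    (hW : Nat.card W = 2 ^ (2 * 3)) : SubB S 2187 := by
  intro X
  have hS := R.three hW
  by_cases h1 : Nat.card X ≤ 2187
  · exact KClass.le_card.trans h1
  push Not at h1
  have h2 : Nat.card X ≤ Nat.card S := Subgroup.card_le_card_group X
  by_cases hc : IsMulCommutative X
  · exfalso
    -- `X = S` is abelian, so has order at most 64
    have hXt : X = ⊤ := by
      have h3 := Subgroup.card_mul_index X
      rw [← Subgroup.index_eq_one]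
      by_contra h4
      have h5 : X.index ≠ 0 := Subgroup.index_ne_zero_of_finite
      have h6 : 2 ≤ X.index := by omega
      have h7 := Nat.mul_le_mul h1 h6
      omega
    subst hXt
    have hnt : Nontrivial W := by
      rw [← Finite.one_lt_card_iff_nontrivial, hW]
      norm_num
    obtain ⟨w, hw⟩ := exists_ne (0 : W)
    have h3 := card_le_of_gen (ι := Unit) R.ρ R.inj ⊤ Set.univ
      (fun c _ x _ => congrArg Subtype.val
        (hc.is_comm.comm (⟨c, trivial⟩ : (⊤ : Subgroup S)) ⟨x, trivial⟩))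
      (fun _ => w) (fun U hU1 hU2 => by
        rcases R.irr U (fun s u hu => hU1 s trivial u hu) with h | h
        · have h4 := hU2 ()
          rw [h] at h4
          exact absurd h4 hw
        · exact h)
      (fun _ => Set.univ) (fun _ _ _ => trivial)
    rw [Nat.card_pi, Finset.prod_const, Finset.card_univ, Fintype.card_unit, pow_one,
      Nat.card_congr (Equiv.Set.univ W), hW] at h3
    omega
  · have h3 := FiveEight.five_eight hc
    omega

/-- **Classes of solvable irreducible symplectic groups.** -/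
theorem SR.subB {p : ℕ} [hp : Fact p.Prime] {W : Type u} [AddCommGroup W] [Module (ZMod p) W]
    [Finite W] {S : Type u} [Group S] [Finite S] [Group.IsSolvable S] (R : SR p W S)
    (hW : Nontrivial W) :
    ∃ n : ℕ, 1 ≤ n ∧ Nat.card W = p ^ (2 * n) ∧ SubB S (3 ^ (p ^ n - 1)) := by
  obtain ⟨n, hn, f, hf⟩ := exists_embedding R.ρ R.inj R.B R.alt R.nd R.inv
  have h0 : 1 ≤ n := by
    by_contra h
    have h1 : n = 0 := by omega
    subst h1
    rw [← Finite.one_lt_card_iff_nontrivial, hn] at hW
    norm_num at hW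
  refine ⟨n, h0, hn, ?_⟩
  by_cases hgen : (n = 2 ∧ 5 ≤ p) ∨ (3 ≤ n ∧ 3 ≤ p) ∨ (6 ≤ n ∧ 2 ≤ p)
  · have hfin : Finite (Matrix.symplecticGroup (Fin n) (ZMod p)) := inferInstance
    exact SubB.of_card ((Nat.card_le_card_of_injective f hf).trans
      ((card_sp_le p n).trans (num_gen p n hgen)))
  have hp2 := hp.out.two_le
  by_cases h1 : n = 1
  · subst h1
    intro X
    rw [pow_one]
    exact bound_one hn (R.ρ.comp X.subtype) (R.inj.comp X.subtype_injective) R.B R.nd
      (fun s v w => R.inv s v w)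
  by_cases h2 : n = 2
  · subst h2
    have h4 : p = 2 ∨ p = 3 := by
      have h5 : p < 5 := by
        by_contra h
        exact hgen (Or.inl ⟨rfl, by omega⟩)
      have h6 : p ≠ 4 := by
        rintro rfl
        exact absurd hp.out (by norm_num)
      omega
    rcases h4 with rfl | rfl
    · intro X
      have hX : Group.IsSolvable X := inferInstance
      exact (le_sp42 (f.comp X.subtype) (hf.comp X.subtype_injective)).trans (by norm_num)
    · exact SubB.of_card ((card_le_sp43 f hf).trans (by norm_num))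
  have h3 : p = 2 := by
    by_contra h
    exact hgen (Or.inr (Or.inl ⟨by omega, by omega⟩))
  subst h3
  have h6 : n ≤ 5 := by
    by_contra h
    exact hgen (Or.inr (Or.inr ⟨by omega, le_rfl⟩))
  have h7 : n = 3 ∨ n = 4 ∨ n = 5 := by omega
  rcases h7 with rfl | rfl | rfl
  · exact (R.subB_three hn).mono (by norm_num)
  · exact SubB.of_card (R.four hn)
  · exact SubB.of_card (R.five hn)

end Cfsg.Agent.H553.Sy
end

-- part: H553/CommForm
section
/-!
# The commutator form on a chief factor above a cyclic centre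
-/

set_option autoImplicit false

namespace Cfsg.Agent.H553.CF

open Module SB Subgroup Sy

universe u

/-- A form of `SR.subB` for additive groups. -/
theorem add_bound {p : ℕ} [hp : Fact p.Prime] {W : Type u} [AddCommGroup W] [Module (ZMod p) W]
    [Finite W] [Nontrivial W] {S : Type u} [Group S] [Finite S] [Group.IsSolvable S]
    (φ : S → (W →+ W)) (hφ1 : ∀ x, φ 1 x = x) (hφm : ∀ s t x, φ (s * t) x = φ s (φ t x))
    (hφ : ∀ s, (∀ x, φ s x = x) → s = 1)
    (hirr : ∀ K : AddSubgroup W, (∀ s, ∀ k ∈ K, φ s k ∈ K) → K = ⊥ ∨ K = ⊤)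
    (c : W → W → ZMod p) (hl : ∀ x y z, c (x + y) z = c x z + c y z)
    (hr : ∀ x y z, c x (y + z) = c x y + c x z) (halt : ∀ x, c x x = 0)
    (hnd : ∀ x, (∀ y, c x y = 0) → x = 0) (hinv : ∀ s x y, c (φ s x) (φ s y) = c x y) :
    ∃ n : ℕ, 1 ≤ n ∧ Nat.card W = p ^ (2 * n) ∧ SubB S (3 ^ (p ^ n - 1)) := by
  let ρ : S →* Module.End (ZMod p) W :=
    { toFun := fun s => AddMonoidHom.toZModLinearMap p (φ s)
      map_one' := by
        refine LinearMap.ext fun x => ?_
        rw [AddMonoidHom.coe_toZModLinearMap, hφ1, Module.End.one_apply]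
      map_mul' := fun s t => by
        refine LinearMap.ext fun x => ?_
        rw [Module.End.mul_apply, AddMonoidHom.coe_toZModLinearMap,
          AddMonoidHom.coe_toZModLinearMap, AddMonoidHom.coe_toZModLinearMap, hφm] }
  have hρ : ∀ s x, ρ s x = φ s x := fun s x => by
    change AddMonoidHom.toZModLinearMap p (φ s) x = _
    rw [AddMonoidHom.coe_toZModLinearMap]
  let c₁ : W → (W →ₗ[ZMod p] ZMod p) := fun x =>
    AddMonoidHom.toZModLinearMap p (AddMonoidHom.mk' (fun y : W => c x y) (fun y z => hr _ _ _))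
  have hc₁ : ∀ x y, c₁ x y = c x y := fun x y => by
    change AddMonoidHom.toZModLinearMap p _ y = _
    rw [AddMonoidHom.coe_toZModLinearMap]
    rfl
  let B : LinearMap.BilinForm (ZMod p) W :=
    AddMonoidHom.toZModLinearMap p (AddMonoidHom.mk' c₁ (fun x y => by
      refine LinearMap.ext fun z => ?_
      rw [LinearMap.add_apply, hc₁, hc₁, hc₁]
      exact hl _ _ _))
  have hB1 : ∀ x, B x = c₁ x := fun x => by
    change AddMonoidHom.toZModLinearMap p _ x = _
    rw [AddMonoidHom.coe_toZModLinearMap]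
    rfl
  have hB : ∀ x y, B x y = c x y := fun x y => by
    rw [hB1]
    exact hc₁ x y
  let R : SR p W S :=
    { ρ := ρ
      inj := by
        rw [injective_iff_map_eq_one]
        intro s hs
        apply hφ
        intro x
        rw [← hρ, hs, Module.End.one_apply]
      B := B
      alt := fun v => by rw [hB]; exact halt v
      nd := fun v hv => hnd v (fun w => by rw [← hB]; exact hv w)
      inv := fun s v w => by rw [hB, hB, hρ, hρ]; exact hinv s v w
      irr := fun U hU => by
        rcases hirr U.toAddSubgroup (fun s k hk => by rw [← hρ]; exact hU s _ hk) with h | h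
        · left
          rw [Submodule.eq_bot_iff]
          intro x hx
          have h1 : x ∈ U.toAddSubgroup := hx
          rw [h] at h1
          exact h1
        · right
          rw [Submodule.eq_top_iff']
          intro x
          have h1 : x ∈ U.toAddSubgroup := by rw [h]; trivial
          exact h1 }
  exact R.subB inferInstance

/-- A group theoretic form of `SR.subB`. -/
theorem abs_bound {M : Type u} [CommGroup M] [Finite M] [Nontrivial M] {p : ℕ} [hp : Fact p.Prime]
    (hexp : ∀ x : M, x ^ p = 1) {S : Type u} [Group S] [Finite S] [Group.IsSolvable S]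
    (φ : S →* MulAut M) (hφ : Function.Injective φ)
    (hirr : ∀ K : Subgroup M, (∀ s, ∀ k ∈ K, φ s k ∈ K) → K = ⊥ ∨ K = ⊤)
    (c : M → M → ZMod p) (hl : ∀ x y z, c (x * y) z = c x z + c y z)
    (hr : ∀ x y z, c x (y * z) = c x y + c x z) (halt : ∀ x, c x x = 0)
    (hnd : ∀ x, (∀ y, c x y = 0) → x = 1) (hinv : ∀ s x y, c (φ s x) (φ s y) = c x y) :
    ∃ n : ℕ, 1 ≤ n ∧ Nat.card M = p ^ (2 * n) ∧ SubB S (3 ^ (p ^ n - 1)) := by
  have hm : Module (ZMod p) (Additive M) :=
    AddCommGroup.zmodModule (fun x : Additive M => congrArg Additive.ofMul (hexp x.toMul))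
  exact add_bound (W := Additive M)
    (fun s => MonoidHom.toAdditive (φ s).toMonoidHom)
    (fun x => by
      change Additive.ofMul (φ 1 x.toMul) = x
      rw [map_one]
      rfl)
    (fun s t x => by
      change Additive.ofMul (φ (s * t) x.toMul) = Additive.ofMul (φ s (φ t x.toMul))
      rw [map_mul]
      rfl)
    (fun s h => by
      apply hφ
      rw [map_one]
      ext x
      exact congrArg Additive.toMul (h (Additive.ofMul x)))
    (fun K hK => by
      rcases hirr (AddSubgroup.toSubgroup' K) (fun s k hk => hK s _ hk) with h | h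
      · left
        rw [eq_bot_iff]
        intro x hx
        have h1 : x.toMul ∈ AddSubgroup.toSubgroup' K := hx
        rw [h, Subgroup.mem_bot] at h1
        exact congrArg Additive.ofMul h1
      · right
        rw [eq_top_iff]
        intro x _
        have h1 : x.toMul ∈ AddSubgroup.toSubgroup' K := by rw [h]; trivial
        exact h1)
    (fun x y => c x.toMul y.toMul) (fun x y z => hl _ _ _) (fun x y z => hr _ _ _)
    (fun x => halt _) (fun x h => congrArg Additive.ofMul (hnd x.toMul fun y => h (Additive.ofMul y)))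
    (fun s x y => hinv s _ _)

/-- A linear functional on the elements of order `p` of a cyclic centre. -/
theorem exists_L {G : Type*} [Group G] [Finite G] (hcyc : IsCyclic (center G)) (p : ℕ)
    [hp : Fact p.Prime] : ∃ L : G → ZMod p,
      (∀ g h, g ∈ center G → g ^ p = 1 → h ∈ center G → h ^ p = 1 → L (g * h) = L g + L h) ∧
      (∀ g, g ∈ center G → g ^ p = 1 → L g = 0 → g = 1) := by
  classical
  let Ω : Subgroup (center G) :=
    { carrier := {z | z ^ p = 1}
      mul_mem' := fun {a b} ha hb => by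
        have h1 : Commute a b := Subtype.ext (mem_center_iff.mp b.2 a)
        change (a * b) ^ p = 1
        rw [h1.mul_pow, show a ^ p = 1 from ha, show b ^ p = 1 from hb, one_mul]
      one_mem' := one_pow p
      inv_mem' := fun {a} ha => by
        change a⁻¹ ^ p = 1
        rw [inv_pow, show a ^ p = 1 from ha, inv_one] }
  have hΩ : ∀ z : center G, z ∈ Ω ↔ z ^ p = 1 := fun z => Iff.rfl
  have hΩc : IsCyclic Ω := inferInstance
  have hdvd : Nat.card Ω ∣ p := by
    rw [← IsCyclic.exponent_eq_card]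
    refine Monoid.exponent_dvd_of_forall_pow_eq_one ?_
    intro z
    exact Subtype.ext z.2
  have hmem : ∀ g, g ∈ center G → g ^ p = 1 → ∃ hc : g ∈ center G, (⟨g, hc⟩ : center G) ∈ Ω :=
    fun g hg hgp => ⟨hg, Subtype.ext hgp⟩
  rcases (Nat.dvd_prime hp.out).mp hdvd with h1 | h1
  · have hsub : Subsingleton Ω := (Nat.card_eq_one_iff_unique.mp h1).1
    refine ⟨fun _ => 0, fun _ _ _ _ _ _ => by simp, fun g hg hgp _ => ?_⟩
    obtain ⟨hc, hm⟩ := hmem g hg hgp
    have h2 : (⟨⟨g, hc⟩, hm⟩ : Ω) = 1 := Subsingleton.elim _ _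
    exact congrArg (fun z : Ω => ((z : center G) : G)) h2
  · let e : Ω ≃* Multiplicative (ZMod p) := mulEquivOfPrimeCardEq h1 (by
      rw [Nat.card_congr Multiplicative.toAdd, Nat.card_zmod])
    refine ⟨fun g => if h : ∃ hc : g ∈ center G, (⟨g, hc⟩ : center G) ∈ Ω then
      (e ⟨⟨g, h.choose⟩, h.choose_spec⟩).toAdd else 0, ?_, ?_⟩
    · intro g h hg hgp hh hhp
      have h2 := hmem g hg hgp
      have h3 := hmem h hh hhp
      have h4 : ∃ hc : g * h ∈ center G, (⟨g * h, hc⟩ : center G) ∈ Ω := by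
        obtain ⟨a, b⟩ := h2
        obtain ⟨c, d⟩ := h3
        exact ⟨mul_mem a c, Ω.mul_mem b d⟩
      simp only [dif_pos h2, dif_pos h3, dif_pos h4]
      rw [← toAdd_mul, ← map_mul]
      rfl
    · intro g hg hgp hL
      have h2 := hmem g hg hgp
      simp only [dif_pos h2] at hL
      have h3 : e ⟨⟨g, h2.choose⟩, h2.choose_spec⟩ = 1 := toAdd_eq_zero.mp hL
      have h4 := (map_eq_one_iff e e.injective).mp h3
      exact congrArg (fun z : Ω => ((z : center G) : G)) h4

end Cfsg.Agent.H553.CF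
end
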